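import Cfsg.Agent.Lib.DoubleAlt12.BigLocal

/-!
# S1645: the exceptional configuration in degree nine, `t` normalises the group of order 243
-/

set_option autoImplicit false
set_option linter.unusedSectionVars false

namespace Cfsg.Agent.Lib.DoubleAlt12.Big

open Equiv

universe u

variable {G : Type u} [Group G] [Finite G]

namespace Dat

variable {K : Conf G 9} (S : Dat K)

set_option quotPrecheck false in
local notation "CZ" => ↥(Subgroup.centralizer (Singleton.singleton K.z : Set G))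

theorem T_conj_R {r : G} (hr : r ∈ S.R) : S.T * r * S.T⁻¹ ∈ S.R := by
  classical
  let Q : Subgroup G := S.R.map (MulAut.conj S.T).toMonoidHom
  have hTX : ∀ {g : G}, Commute g S.X → Commute (S.T * g * S.T⁻¹) S.X := fun {g} hg => by
    have := ((Commute.conj_iff S.T).2 hg).inv_right
    rwa [S.TX, inv_inv] at this
  have hTX' : ∀ {g : G}, Commute g S.X → Commute (S.T⁻¹ * g * S.T) S.X := fun {g} hg => by
    have := hTX hg
    rwa [S.T_inv] at this ⊢
  have hQX : ∀ q ∈ Q, Commute q S.X := by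
    rintro _ ⟨s, hs, rfl⟩; exact hTX (S.R_comm s hs)
  set P := S.R ⊔ Q with hP
  have hQN : Q ≤ Subgroup.normalizer (S.R : Set G) := fun q hq =>
    mem_normalizer_of_conj (fun b hb => S.R_norm q (hQX q hq) b hb)
  have := Fact.mk Nat.prime_three
  have hPR : IsPGroup 3 S.R := IsPGroup.of_card (n := 5) (by rw [S.cardR]; norm_num)
  have hQp : IsPGroup 3 Q := hPR.map _
  have hPp : IsPGroup 3 P := hPR.to_sup_of_normal_left' hQp hQN
  have hPg : ∀ g : G, Commute g S.X → P ≤ P.comap (MulAut.conj g).toMonoidHom := fun g hg => by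
    refine sup_le (fun b hb => Subgroup.mem_sup_left (S.R_norm g hg b hb)) ?_
    rintro _ ⟨s, hs, rfl⟩
    refine Subgroup.mem_sup_right ⟨(S.T⁻¹ * g * S.T) * s * (S.T⁻¹ * g * S.T)⁻¹,
      S.R_norm _ (hTX' hg) s hs, ?_⟩
    show S.T * ((S.T⁻¹ * g * S.T) * s * (S.T⁻¹ * g * S.T)⁻¹) * S.T⁻¹ = g * (S.T * s * S.T⁻¹) * g⁻¹
    group
  have hzP : K.z ∉ P := fun h => by
    obtain ⟨k, hk⟩ := hPp ⟨K.z, h⟩
    have hk' : K.z ^ 3 ^ k = 1 := congrArg Subtype.val hk
    have h2 := orderOf_dvd_of_pow_eq_one hk'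
    rw [K.hz] at h2
    have := Nat.prime_two.dvd_of_dvd_pow h2
    omega
  -- the elements of `P` in `C(z)` lie in `⟨x⟩`
  have key : ∀ c : CZ, (c : G) ∈ P → Commute (c : G) S.X → (c : G) ∈ S.R := by
    intro c hc hcX
    have hφ : Commute (K.cov.φ c) px := by
      have h := congrArg K.cov.φ (coe_comm' (a := c) (b := S.x) hcX).eq
      rw [map_mul, map_mul, S.hx] at h
      exact h
    have hx' : ∀ s, K.cov.φ c (px s) = px (K.cov.φ c s) := fun s => DFunLike.congr_fun hφ.eq s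
    obtain ⟨i, e0, e1, e2⟩ := px_moves (K.cov.φ c 0) (by
      rw [← hx']; exact (K.cov.φ c).injective.ne (by decide))
    have e1' : (px ^ i.val : Perm (Fin 9)) 1 = K.cov.φ c 1 := e1.trans (hx' 0).symm
    have e2' : (px ^ i.val : Perm (Fin 9)) 2 = K.cov.φ c 2 := by
      rw [e2, ← hx' 0, ← hx' (px 0)]; rfl
    set d : CZ := (S.x ^ i.val)⁻¹ * c with hd
    have hxP : S.X ∈ P := Subgroup.mem_sup_left S.X_mem
    have hdP : (d : G) ∈ P := by
      rw [hd, Subgroup.coe_mul, Subgroup.coe_inv, SubgroupClass.coe_pow]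
      exact mul_mem (inv_mem (pow_mem hxP _)) hc
    have hdlow : d ∈ low (K := K) := by
      show _ ∧ _ ∧ _
      simp only [hd, map_mul, map_inv, map_pow, S.hx, Perm.mul_apply]
      refine ⟨?_, ?_, ?_⟩ <;> rw [Perm.inv_eq_iff_eq]
      exacts [e0.symm, e1'.symm, e2'.symm]
    let α := {s : Fin 9 // 3 ≤ s.val}
    have hα : Nat.card α = 6 := by rw [Nat.card_eq_fintype_card]; decide
    have : IsSimpleGroup (alternatingGroup α) := alternatingGroup.isSimpleGroup (by omega)
    let N : Subgroup (alternatingGroup α) :=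
      { carrier := {a | ∃ k : CZ, K.cov.φ k = Perm.ofSubtype a.1 ∧ (k : G) ∈ P}
        one_mem' := ⟨1, by simp, one_mem _⟩
        mul_mem' := fun {a b} ⟨k, hk, hk'⟩ ⟨m, hm, hm'⟩ =>
          ⟨k * m, by rw [map_mul, hk, hm, ← map_mul]; rfl, mul_mem hk' hm'⟩
        inv_mem' := fun {a} ⟨k, hk, hk'⟩ => ⟨k⁻¹, by rw [map_inv, hk, ← map_inv]; rfl, inv_mem hk'⟩ }
    have hN : N.Normal := ⟨fun a ha b => by
      obtain ⟨k, hk, hk'⟩ := ha
      obtain ⟨m, hm⟩ := K.cov.exists_lift (a := Perm.ofSubtype b.1)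
        (by rw [Perm.sign_ofSubtype]; exact b.2)
      exact ⟨m * k * m⁻¹, by rw [map_mul, map_mul, map_inv, hk, hm, ← map_inv, ← map_mul, ← map_mul]; rfl,
        hPg _ (S.comm_X_of (low_comm_px (hm ▸ ofSubtype_low _))) hk'⟩⟩
    obtain ⟨a, ha⟩ := low_le_range hdlow
    have hsa : a ∈ alternatingGroup α := by
      rw [Perm.mem_alternatingGroup, ← Perm.sign_ofSubtype, ha, K.cov.sign_φ]
    have hmem : (⟨a, hsa⟩ : alternatingGroup α) ∈ N := ⟨d, ha.symm, hdP⟩
    have hd1 : K.cov.φ d = 1 := by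
      rcases hN.eq_bot_or_eq_top with hb | ht
      · have := Subgroup.mem_bot.1 (hb ▸ hmem)
        rw [← ha, show a = 1 from congrArg Subtype.val this, map_one]
      · let w : Perm α := swap ⟨3, le_rfl⟩ ⟨4, by decide⟩ * swap ⟨5, by decide⟩ ⟨6, by decide⟩
        have hw : w ∈ alternatingGroup α := by
          rw [Perm.mem_alternatingGroup, Perm.sign_mul, Perm.sign_swap (by decide),
            Perm.sign_swap (by decide)]
          rfl
        have hwN : (⟨w, hw⟩ : alternatingGroup α) ∈ N := ht ▸ Subgroup.mem_top _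
        obtain ⟨k, hk, hk'⟩ := hwN
        have hdt : IsDT (K.cov.φ k) := ⟨3, 4, 5, 6, by decide, by
          rw [hk, map_mul, Perm.ofSubtype_swap_eq, Perm.ofSubtype_swap_eq]⟩
        refine absurd ?_ hzP
        rw [← K.cov_z, ← K.cov.sq_dt k hdt, Subgroup.coe_mul]
        exact mul_mem hk' hk'
    rcases (K.cov.ker_iff _).1 hd1 with e | e
    · have : c = S.x ^ i.val := (inv_mul_eq_one.1 e).symm
      rw [this, SubgroupClass.coe_pow]
      exact pow_mem S.X_mem _
    · rw [e, K.cov_z] at hdP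
      exact absurd hdP hzP
  have hr' : Commute (S.T * r * S.T⁻¹) S.X := hTX (S.R_comm r hr)
  obtain ⟨s, hs, hsz⟩ := S.R_cover _ hr'
  have hmem : s * (S.T * r * S.T⁻¹) ∈ P :=
    mul_mem (Subgroup.mem_sup_left hs) (Subgroup.mem_sup_right ⟨r, hr, rfl⟩)
  have hsX : Commute (s * (S.T * r * S.T⁻¹)) S.X := (S.R_comm s hs).mul_left hr'
  have := key ⟨_, Subgroup.mem_centralizer_singleton_iff.2 hsz⟩ hmem hsX
  exact (Subgroup.mul_mem_cancel_left _ hs).1 this

end Dat

end Cfsg.Agent.Lib.DoubleAlt12.Big
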