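import Cfsg.Agent.Lib.DoubleAlt12.BigLt
import Cfsg.Agent.Lib.DoubleAlt12.BigT

/-!
# S1645: the exceptional configuration in degree nine, the three abelian groups of order 27
-/

set_option autoImplicit false
set_option linter.unusedSectionVars false

namespace Cfsg.Agent.Lib.DoubleAlt12.Big

open Equiv

universe u

variable {G : Type u} [Group G] [Finite G]

theorem p_eval : ∀ i j l : Fin 3,
    (px ^ i.val * (py ^ j.val * py' ^ l.val) : Perm (Fin 9)) 0 = ![0, 1, 2] i ∧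
    (px ^ i.val * (py ^ j.val * py' ^ l.val) : Perm (Fin 9)) 3 = ![3, 4, 5] j ∧
    (px ^ i.val * (py ^ j.val * py' ^ l.val) : Perm (Fin 9)) 6 = ![6, 7, 8] l := by decide

theorem vec_inj : (∀ a b : Fin 3, (![0, 1, 2] a : Fin 9) = ![0, 1, 2] b → a = b) ∧
    (∀ a b : Fin 3, (![3, 4, 5] a : Fin 9) = ![3, 4, 5] b → a = b) ∧
    (∀ a b : Fin 3, (![6, 7, 8] a : Fin 9) = ![6, 7, 8] b → a = b) ∧
    (∀ a b : Fin 3, a + b = 0 → (b.val + a.val) % 3 = 0) := by decide

theorem p_inj {i j l i' j' l' : Fin 3}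
    (h : (px ^ i.val * (py ^ j.val * py' ^ l.val) : Perm (Fin 9)) =
      px ^ i'.val * (py ^ j'.val * py' ^ l'.val)) : i = i' ∧ j = j' ∧ l = l' := by
  have h0 := DFunLike.congr_fun h 0
  have h3 := DFunLike.congr_fun h 3
  have h6 := DFunLike.congr_fun h 6
  rw [(p_eval _ _ _).1, (p_eval _ _ _).1] at h0
  rw [(p_eval _ _ _).2.1, (p_eval _ _ _).2.1] at h3
  rw [(p_eval _ _ _).2.2, (p_eval _ _ _).2.2] at h6
  exact ⟨vec_inj.1 _ _ h0, vec_inj.2.1 _ _ h3, vec_inj.2.2.1 _ _ h6⟩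

theorem supp_card (σ : Perm (Fin 9)) :
    σ.support.card = (Finset.univ.filter fun s => σ s ≠ s).card := rfl

namespace Dat

variable {K : Conf G 9} (S : Dat K)

set_option quotPrecheck false in
local notation "CZ" => ↥(Subgroup.centralizer (Singleton.singleton K.z : Set G))

/-- The abelian group `⟨x, y, y'⟩`. -/
def A : Subgroup G where
  carrier := {a | ∃ i j l : ℕ, a = S.X ^ i * (S.Y ^ j * S.Y' ^ l)}
  one_mem' := ⟨0, 0, 0, by simp⟩
  mul_mem' := by
    rintro _ _ ⟨i, j, l, rfl⟩ ⟨i', j', l', rfl⟩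
    refine ⟨i + i', j + j', l + l', ?_⟩
    rw [pow_add, pow_add, pow_add,
      ((S.XY.symm.pow_pow j i').mul_left (S.XY'.symm.pow_pow l i')).mul_mul_mul_comm,
      (S.YY'.symm.pow_pow l j').mul_mul_mul_comm]
  inv_mem' := by
    rintro _ ⟨i, j, l, rfl⟩
    refine ⟨2 * i, 2 * j, 2 * l, inv_eq_of_mul_eq_one_right ?_⟩
    rw [((S.XY.symm.pow_pow j (2 * i)).mul_left (S.XY'.symm.pow_pow l (2 * i))).mul_mul_mul_comm,
      (S.YY'.symm.pow_pow l (2 * j)).mul_mul_mul_comm, ← pow_add, ← pow_add, ← pow_add,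
      show i + 2 * i = 3 * i by ring, show j + 2 * j = 3 * j by ring, show l + 2 * l = 3 * l by ring,
      pow_mul, pow_mul, pow_mul, S.X3, S.Y3, S.Y'3, one_pow, one_pow, one_pow, one_mul, one_mul]

theorem A_facts {a : G} (ha : a ∈ S.A) : Commute a K.z ∧ Commute a S.X ∧ Commute a S.Y ∧
    Commute a S.Y' ∧ Commute a S.D ∧ a ^ 3 = 1 := by
  obtain ⟨i, j, l, rfl⟩ := ha
  have hY : Commute (S.X ^ i * (S.Y ^ j * S.Y' ^ l)) S.Y :=
    (S.XY.pow_left i).mul_left ((Commute.pow_self S.Y j).mul_left (S.YY'.symm.pow_left l))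
  have hY' : Commute (S.X ^ i * (S.Y ^ j * S.Y' ^ l)) S.Y' :=
    (S.XY'.pow_left i).mul_left ((S.YY'.pow_left j).mul_left (Commute.pow_self S.Y' l))
  refine ⟨((cz S.x).pow_left i).mul_left (((cz S.y).pow_left j).mul_left ((cz S.y').pow_left l)),
    (Commute.pow_self S.X i).mul_left ((S.XY.symm.pow_left j).mul_left (S.XY'.symm.pow_left l)),
    hY, hY', hY.mul_right hY'.inv_right, ?_⟩
  rw [((S.XY.pow_pow i j).mul_right (S.XY'.pow_pow i l)).mul_pow, (S.YY'.pow_pow j l).mul_pow,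
    ← pow_mul, ← pow_mul, ← pow_mul, mul_comm i, mul_comm j, mul_comm l, pow_mul, pow_mul, pow_mul,
    S.X3, S.Y3, S.Y'3, one_pow, one_pow, one_pow, one_mul, one_mul]

theorem XA : S.X ∈ S.A := ⟨1, 0, 0, by simp⟩
theorem YA : S.Y ∈ S.A := ⟨0, 1, 0, by simp⟩
theorem Y'A : S.Y' ∈ S.A := ⟨0, 0, 1, by simp⟩
theorem DA : S.D ∈ S.A := mul_mem S.YA (inv_mem S.Y'A)

/-- The lift in `C(z)` of an element of `A`. -/
theorem lift_A (i j l : Fin 3) : ∃ c : CZ, (c : G) ∈ S.A ∧ Odd (orderOf c) ∧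
    K.cov.φ c = px ^ i.val * (py ^ j.val * py' ^ l.val) := by
  refine ⟨S.x ^ i.val * (S.y ^ j.val * S.y' ^ l.val), ⟨i, j, l, rfl⟩, ?_, ?_⟩
  · rw [← Subgroup.orderOf_coe]
    exact Odd.of_dvd_nat (show Odd 3 by decide) (orderOf_dvd_of_pow_eq_one
      (S.A_facts (a := S.X ^ i.val * (S.Y ^ j.val * S.Y' ^ l.val)) ⟨i, j, l, rfl⟩).2.2.2.2.2)
  · rw [map_mul, map_mul, map_pow, map_pow, map_pow, S.hx, S.hy, S.hy']

theorem mem_A_params {a : G} (ha : a ∈ S.A) :
    ∃ i j l : Fin 3, a = S.X ^ i.val * (S.Y ^ j.val * S.Y' ^ l.val) := by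
  obtain ⟨i, j, l, rfl⟩ := ha
  refine ⟨⟨i % 3, Nat.mod_lt _ (by norm_num)⟩, ⟨j % 3, Nat.mod_lt _ (by norm_num)⟩,
    ⟨l % 3, Nat.mod_lt _ (by norm_num)⟩, ?_⟩
  rw [← pow_eq_pow_mod i S.X3, ← pow_eq_pow_mod j S.Y3, ← pow_eq_pow_mod l S.Y'3]

theorem card_A : Nat.card S.A = 27 := by
  let f : Fin 3 × Fin 3 × Fin 3 → S.A :=
    fun p => ⟨S.X ^ p.1.val * (S.Y ^ p.2.1.val * S.Y' ^ p.2.2.val), ⟨_, _, _, rfl⟩⟩
  have hinj : Function.Injective f := by
    rintro ⟨i, j, l⟩ ⟨i', j', l'⟩ h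
    have h' : S.x ^ i.val * (S.y ^ j.val * S.y' ^ l.val) =
        S.x ^ i'.val * (S.y ^ j'.val * S.y' ^ l'.val) := Subtype.ext (congrArg Subtype.val h :)
    have h2 := congrArg K.cov.φ h'
    simp only [map_mul, map_pow, S.hx, S.hy, S.hy'] at h2
    obtain ⟨rfl, rfl, rfl⟩ := p_inj h2
    rfl
  have hsurj : Function.Surjective f := fun ⟨a, ha⟩ => by
    obtain ⟨i, j, l, rfl⟩ := S.mem_A_params ha
    exact ⟨(i, j, l), rfl⟩
  rw [← Nat.card_congr (Equiv.ofBijective f ⟨hinj, hsurj⟩)]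
  simp

theorem zX_param {u : G} (hu : u ∈ Subgroup.zpowers S.X) : ∃ i : Fin 3, u = S.X ^ i.val := by
  classical
  obtain ⟨i, hi, e⟩ := (isOfFinOrder_of_finite S.X).mem_zpowers_iff_mem_range_orderOf.1 hu |>
    Finset.mem_image.1
  rw [Subgroup.orderOf_coe, S.ox] at hi
  exact ⟨⟨i, Finset.mem_range.1 hi⟩, e.symm⟩

/-- Elements centralising `x` and one of `y'`, `y y'⁻¹`. -/
theorem cent_main {g : G} (hgX : Commute g S.X) (hg : Commute g S.Y' ∨ Commute g S.D) :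
    Commute g S.Y ∧ Commute g S.Y' ∧
      ∃ r ∈ S.Lt, ∃ a ∈ S.A, g = r * a ∨ g = r * (K.z * a) := by
  obtain ⟨s, hs, hsz⟩ := S.R_cover g hgX
  let c : CZ := ⟨s * g, Subgroup.mem_centralizer_singleton_iff.2 hsz⟩
  have hcX : Commute (c : G) S.X := (S.R_comm s hs).mul_left hgX
  have hW : ∀ (w : CZ), Commute (w : G) S.X → Commute g (w : G) →
      (∀ i : Fin 3, i ≠ 0 → (px ^ i.val * K.cov.φ w).support.card ≠ (K.cov.φ w).support.card) →
      Commute s (w : G) ∧ Commute (K.cov.φ c) (K.cov.φ w) := by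
    intro w hwX hgw hsupp
    have hcw : (c : G) * w * (c : G)⁻¹ = s * w * s⁻¹ := by
      show s * g * w * (s * g)⁻¹ = _
      rw [mul_assoc s g, hgw.eq]; group
    have hk : s * (w : G) * s⁻¹ * (w : G)⁻¹ ∈ Subgroup.zpowers S.X := by
      refine S.R_inter _ ?_ ?_
      · rw [mul_assoc, mul_assoc, ← mul_assoc (w : G)]
        exact mul_mem hs (S.R_norm _ hwX _ (inv_mem hs))
      · rw [← hcw]
        exact cz (c * w * c⁻¹ * w⁻¹)
    obtain ⟨i, hi⟩ := S.zX_param hk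
    have hi' : c * w * c⁻¹ = S.x ^ i.val * w := Subtype.ext (by
      show (c : G) * w * (c : G)⁻¹ = S.X ^ i.val * w
      rw [hcw, ← hi, inv_mul_cancel_right])
    have hφ := congrArg K.cov.φ hi'
    simp only [map_mul, map_inv, map_pow, S.hx] at hφ
    have hi0 : i = 0 := by
      by_contra h
      refine hsupp i h ?_
      rw [← hφ, Perm.card_support_conj]
    subst hi0
    simp only [Fin.val_zero, pow_zero, one_mul] at hφ hi
    exact ⟨mul_inv_eq_iff_eq_mul.1 (mul_inv_eq_one.1 hi), mul_inv_eq_iff_eq_mul.1 hφ⟩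
  have hφX : Commute (K.cov.φ c) px := by
    have h := congrArg K.cov.φ (coe_comm' (a := c) (b := S.x) hcX).eq
    rw [map_mul, map_mul, S.hx] at h
    exact h
  have hboth : (Commute s S.Y' ∧ Commute (K.cov.φ c) py') ∨
      (Commute s S.D ∧ Commute (K.cov.φ c) pd) := by
    rcases hg with h | h
    · have := hW S.y' S.XY'.symm h (fun i hi => by
        rw [S.hy', supp_card, supp_card, (supp_vals i hi).1, (supp_vals i hi).2.2.1]; decide)
      rw [S.hy'] at this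
      exact Or.inl this
    · have hd : K.cov.φ (S.y * S.y'⁻¹) = pd := by rw [map_mul, map_inv, S.hy, S.hy']
      have := hW (S.y * S.y'⁻¹) S.XD.symm h (fun i hi => by
        rw [hd, supp_card, supp_card, (supp_vals i hi).2.1, (supp_vals i hi).2.2.2]; decide)
      rw [hd] at this
      exact Or.inr this
  obtain ⟨i, j, l, hijl⟩ := cent_px (K.cov.sign_φ c) hφX (hboth.imp (·.2) (·.2))
  obtain ⟨a, haA, -, ha⟩ := S.lift_A i j l
  have hsL : s ∈ S.Lt := by
    rcases hboth with h | h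
    · exact S.comm_R_Lt hs (Or.inr (Or.inl h.1.symm))
    · exact S.comm_R_Lt hs (Or.inr (Or.inr h.1.symm))
  obtain ⟨-, hsY, hsY'⟩ := S.mem_Lt.1 hsL
  obtain ⟨haz, -, haY, haY', -, -⟩ := S.A_facts haA
  have hgc : g = s⁻¹ * (c : G) := (inv_mul_cancel_left s g).symm
  rcases K.cov.eq_or_eq (hijl.trans ha.symm) with e | e
  · have hg' : g = s⁻¹ * (a : G) := by rw [hgc, e]
    exact ⟨hg' ▸ (hsY.inv_left.mul_left haY), hg' ▸ (hsY'.inv_left.mul_left haY'),
      s⁻¹, inv_mem hsL, a, haA, Or.inl hg'⟩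
  · have hg' : g = s⁻¹ * (K.z * (a : G)) := by rw [hgc, e, Subgroup.coe_mul, K.cov_z]
    exact ⟨hg' ▸ (hsY.inv_left.mul_left ((cz S.y).symm.mul_left haY)),
      hg' ▸ (hsY'.inv_left.mul_left ((cz S.y').symm.mul_left haY')),
      s⁻¹, inv_mem hsL, a, haA, Or.inr hg'⟩

/-- Elements centralising `y` and `y y'⁻¹` centralise `x`. -/
theorem cent_YD {g : G} (hY : Commute g S.Y) (hD : Commute g S.D) :
    Commute g S.X ∧ Commute g S.Y' := by
  have hY' : Commute g S.Y' := by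
    have h := hD.inv_right.mul_right hY
    rwa [mul_inv_rev, inv_inv, inv_mul_cancel_right] at h
  refine ⟨?_, hY'⟩
  have h1 : Commute (S.H * g * S.H⁻¹) S.X := by
    have := (Commute.conj_iff S.H).2 hY; rwa [S.HY] at this
  have h2 : Commute (S.H * g * S.H⁻¹) S.Y' := by
    have := ((Commute.conj_iff S.H).2 hY').inv_right; rwa [S.HY', inv_inv] at this
  have h3 := (S.cent_main h1 (Or.inl h2)).1
  rw [← S.HX] at h3
  exact (Commute.conj_iff S.H).1 h3

/-- The odd order elements of `C(y y'⁻¹) ∩ C(u)`. -/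
def Sd (u a : G) : Prop := Commute a S.D ∧ Commute a u ∧ Odd (orderOf a)

theorem mem_A_iff {a : G} : a ∈ S.A ↔ S.Sd K.z a := by
  constructor
  · intro ha
    obtain ⟨h1, -, -, -, h5, h6⟩ := S.A_facts ha
    exact ⟨h5, h1, Odd.of_dvd_nat (show Odd 3 by decide) (orderOf_dvd_of_pow_eq_one h6)⟩
  rintro ⟨hD, hz, hodd⟩
  let c : CZ := ⟨a, Subgroup.mem_centralizer_singleton_iff.2 hz⟩
  have hodd' : Odd (orderOf c) := by rw [← Subgroup.orderOf_coe]; exact hodd
  have hφ : Commute (K.cov.φ c) pd := by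
    have h := congrArg K.cov.φ (coe_comm' (a := c) (b := S.y * S.y'⁻¹) hD).eq
    simp only [map_mul, map_inv, S.hy, S.hy'] at h
    exact h
  obtain ⟨i, j, l, h | h⟩ := cent_d (K.cov.sign_φ c) hφ.eq
  · obtain ⟨b, hb, hbo, hbφ⟩ := S.lift_A i j l
    have e := K.cov.odd_lift_unique hodd' hbo (h.trans hbφ.symm)
    have : a = (b : G) := congrArg Subtype.val e
    exact this ▸ hb
  · exfalso
    set σ := K.cov.φ c with hσ
    set p : Perm (Fin 9) := px ^ i.val * (py ^ j.val * py' ^ l.val) with hp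
    have hpx : Commute p px :=
      (Commute.pow_self px _).mul_left ((Commute.pow_left p_comm.1.symm _).mul_left
        (Commute.pow_left p_comm.2.1.symm _))
    have hpt : pt⁻¹ = pt := inv_eq_of_mul_eq_one_right p_facts.2.1
    have hptp : Commute (pt * p * pt) px := by
      have := ((Commute.conj_iff pt).2 hpx).inv_right
      rwa [p_conj.1, inv_inv, hpt] at this
    have h2 : Commute (σ * σ) px := by
      rw [h, show p * pt * (p * pt) = p * (pt * p * pt) by group]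
      exact hpx.mul_left hptp
    obtain ⟨k, hk⟩ := Odd.of_dvd_nat hodd' (orderOf_map_dvd K.cov.φ c)
    have h3 : Commute σ px := by
      have e : (σ * σ) ^ (k + 1) = σ := by
        rw [← pow_two, ← pow_mul, show 2 * (k + 1) = orderOf σ + 1 by rw [hσ, hk]; ring, pow_succ,
          pow_orderOf_eq_one, one_mul]
      rw [← e]; exact h2.pow_left _
    rw [h] at h3
    have h4 := hpx.inv_left.mul_left h3
    rw [inv_mul_cancel_left] at h4
    exact p_orders.2.2.2.2.2.2.2.2.2 h4.eq.symm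

theorem A_fix_T {a : G} (ha : a ∈ S.A) (h : Commute a S.T) : a ∈ Subgroup.zpowers S.D := by
  obtain ⟨i, j, l, rfl⟩ := S.mem_A_params ha
  have h' : S.t * (S.x ^ i.val * (S.y ^ j.val * S.y' ^ l.val)) =
      (S.x ^ i.val * (S.y ^ j.val * S.y' ^ l.val)) * S.t := Subtype.ext h.symm.eq
  have h2 := congrArg K.cov.φ h'
  simp only [map_mul, map_pow, S.hx, S.hy, S.hy', S.ht] at h2
  obtain ⟨rfl, hjl⟩ := p_facts.2.2.2.2 i j l (fun s => DFunLike.congr_fun h2 s)
  refine Subgroup.mem_zpowers_iff.2 ⟨(j.val : ℤ), ?_⟩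
  have hl : S.Y' ^ l.val = S.Y'⁻¹ ^ j.val := by
    rw [inv_pow, eq_inv_iff_mul_eq_one, ← pow_add, pow_eq_pow_mod _ S.Y'3]
    have : (l.val + j.val) % 3 = 0 := vec_inj.2.2.2 j l hjl
    rw [this, pow_zero]
  rw [zpow_natCast, S.YY'.inv_right.mul_pow, Fin.val_zero, pow_zero, one_mul, hl]

end Dat

end Cfsg.Agent.Lib.DoubleAlt12.Big
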