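import Mathlib
/-!
# S1645: permutations of nine points commuting with some standard elements
-/
set_option autoImplicit false
namespace Cfsg.Agent.Lib.DoubleAlt12.Big

open Equiv

abbrev px : Perm (Fin 9) := swap 0 2 * swap 0 1
abbrev py : Perm (Fin 9) := swap 3 5 * swap 3 4
abbrev py' : Perm (Fin 9) := swap 6 8 * swap 6 7
abbrev pd : Perm (Fin 9) := py * py'⁻¹
abbrev pt : Perm (Fin 9) := (swap 1 2 * swap 3 6) * (swap 4 8 * swap 5 7)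
abbrev pe : Perm (Fin 9) := swap 4 5 * swap 7 8
abbrev ph : Perm (Fin 9) := (swap 0 3 * swap 1 4) * (swap 2 5 * swap 6 7)

theorem p_vals : (∀ s, px s = ![1,2,0,3,4,5,6,7,8] s) ∧ (∀ s, py s = ![0,1,2,4,5,3,6,7,8] s) ∧
    (∀ s, py' s = ![0,1,2,3,4,5,7,8,6] s) ∧ (∀ s, pd s = ![0,1,2,4,5,3,8,6,7] s) := by decide

theorem p_conj : pt * px * pt⁻¹ = px⁻¹ ∧ pt * py * pt⁻¹ = py'⁻¹ ∧ pt * py' * pt⁻¹ = py⁻¹ ∧
    pe * px * pe⁻¹ = px ∧ pe * py * pe⁻¹ = py⁻¹ ∧ pe * py' * pe⁻¹ = py'⁻¹ ∧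
    ph * px * ph⁻¹ = py ∧ ph * py * ph⁻¹ = px ∧ ph * py' * ph⁻¹ = py'⁻¹ := by decide

theorem p_sign : Perm.sign px = 1 ∧ Perm.sign py = 1 ∧ Perm.sign py' = 1 ∧ Perm.sign pt = 1 ∧
    Perm.sign pe = 1 ∧ Perm.sign ph = 1 := by simp [Perm.sign_mul, Perm.sign_swap]

abbrev pw : Perm (Fin 9) := swap 3 6 * (swap 4 8 * swap 5 7)

theorem pw_sign : Perm.sign pw = -1 ∧ Perm.sign (swap (6 : Fin 9) 7) = -1 ∧
    Perm.sign (swap (3 : Fin 9) 4) = -1 ∧ Perm.sign (swap (1 : Fin 9) 2) = -1 := by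
  simp [Perm.sign_mul, Perm.sign_swap]

theorem dec_y : ∀ a ∈ [(3 : Fin 9), 4, 5], ∀ b ∈ [(6 : Fin 9), 7, 8], ∀ c ∈ [(6 : Fin 9), 7, 8],
    ∀ d ∈ [(6 : Fin 9), 7, 8], b ≠ c → b ≠ d → c ≠ d → ∃ j l : Fin 3,
    (∀ s, ![0, 1, 2, a, py a, py (py a), b, c, d] s = (py ^ j.val * py' ^ l.val : Perm (Fin 9)) s) ∨
    (∀ s, ![0, 1, 2, a, py a, py (py a), b, c, d] s = (py ^ j.val * py' ^ l.val * swap 6 7 : Perm (Fin 9)) s) := by
  decide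

theorem dec_y' : ∀ a ∈ [(6 : Fin 9), 7, 8], ∀ b ∈ [(3 : Fin 9), 4, 5], ∀ c ∈ [(3 : Fin 9), 4, 5],
    ∀ d ∈ [(3 : Fin 9), 4, 5], b ≠ c → b ≠ d → c ≠ d → ∃ j l : Fin 3,
    (∀ s, ![0, 1, 2, b, c, d, a, py' a, py' (py' a)] s = (py ^ j.val * py' ^ l.val : Perm (Fin 9)) s) ∨
    (∀ s, ![0, 1, 2, b, c, d, a, py' a, py' (py' a)] s = (py ^ j.val * py' ^ l.val * swap 3 4 : Perm (Fin 9)) s) := by
  decide

theorem dec_d : ∀ a ∈ [(3 : Fin 9), 4, 5, 6, 7, 8], ∀ b ∈ [(3 : Fin 9), 4, 5, 6, 7, 8],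
    b ≠ a → b ≠ pd a → b ≠ pd (pd a) → ∃ j l : Fin 3,
    (∀ s, ![0, 1, 2, a, pd a, pd (pd a), b, pd (pd b), pd b] s = (py ^ j.val * py' ^ l.val : Perm (Fin 9)) s) ∨
    (∀ s, ![0, 1, 2, a, pd a, pd (pd a), b, pd (pd b), pd b] s = (py ^ j.val * py' ^ l.val * pw : Perm (Fin 9)) s) := by
  decide

theorem mem_y : (∀ s : Fin 9, py s ≠ s → s ∈ [(3 : Fin 9), 4, 5]) ∧
    (∀ s : Fin 9, py s = s → s ≠ 0 → s ≠ 1 → s ≠ 2 → s ∈ [(6 : Fin 9), 7, 8]) ∧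
    (∀ s : Fin 9, py' s ≠ s → s ∈ [(6 : Fin 9), 7, 8]) ∧
    (∀ s : Fin 9, py' s = s → s ≠ 0 → s ≠ 1 → s ≠ 2 → s ∈ [(3 : Fin 9), 4, 5]) ∧
    (∀ s : Fin 9, s ≠ 0 → s ≠ 1 → s ≠ 2 → s ∈ [(3 : Fin 9), 4, 5, 6, 7, 8]) ∧
    (∀ s : Fin 9, pd s = s → s ∈ [(0 : Fin 9), 1, 2]) := by
  refine ⟨?_, ?_, ?_, ?_, ?_, ?_⟩ <;> decide

theorem low_y {σ : Perm (Fin 9)} (h0 : σ 0 = 0) (h1 : σ 1 = 1) (h2 : σ 2 = 2)
    (hc : σ * py = py * σ) : ∃ j l : Fin 3,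
    σ = py ^ j.val * py' ^ l.val ∨ σ = py ^ j.val * py' ^ l.val * swap 6 7 := by
  have hc' : ∀ s, σ (py s) = py (σ s) := fun s => DFunLike.congr_fun hc s
  have ne : ∀ {i k : Fin 9}, i ≠ k → σ i ≠ σ k := fun h => σ.injective.ne h
  have h4 : σ 4 = py (σ 3) := hc' 3
  have h5 : σ 5 = py (py (σ 3)) := by rw [← h4]; exact hc' 4
  have hm : ∀ s : Fin 9, s ∈ [(6 : Fin 9), 7, 8] → σ s ∈ [(6 : Fin 9), 7, 8] := fun s hs => by
    have hpy : ∀ s ∈ [(6 : Fin 9), 7, 8], py s = s ∧ s ≠ 0 ∧ s ≠ 1 ∧ s ≠ 2 := by decide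
    obtain ⟨e, e0, e1, e2⟩ := hpy s hs
    refine mem_y.2.1 _ (by rw [← hc' s, e]) ?_ ?_ ?_
    · rw [← h0]; exact ne e0
    · rw [← h1]; exact ne e1
    · rw [← h2]; exact ne e2
  have h3 : σ 3 ∈ [(3 : Fin 9), 4, 5] := mem_y.1 _ (by rw [← h4]; exact ne (by decide))
  obtain ⟨j, l, hjl⟩ := dec_y _ h3 _ (hm 6 (by decide)) _ (hm 7 (by decide)) _ (hm 8 (by decide))
    (ne (by decide)) (ne (by decide)) (ne (by decide))
  refine ⟨j, l, hjl.imp (fun e => ?_) (fun e => ?_)⟩ <;>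
  · ext s; rw [← e s]; fin_cases s <;> simp [h0, h1, h2, h4, h5]

theorem low_y' {σ : Perm (Fin 9)} (h0 : σ 0 = 0) (h1 : σ 1 = 1) (h2 : σ 2 = 2)
    (hc : σ * py' = py' * σ) : ∃ j l : Fin 3,
    σ = py ^ j.val * py' ^ l.val ∨ σ = py ^ j.val * py' ^ l.val * swap 3 4 := by
  have hc' : ∀ s, σ (py' s) = py' (σ s) := fun s => DFunLike.congr_fun hc s
  have ne : ∀ {i k : Fin 9}, i ≠ k → σ i ≠ σ k := fun h => σ.injective.ne h
  have h7 : σ 7 = py' (σ 6) := hc' 6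
  have h8 : σ 8 = py' (py' (σ 6)) := by rw [← h7]; exact hc' 7
  have hm : ∀ s : Fin 9, s ∈ [(3 : Fin 9), 4, 5] → σ s ∈ [(3 : Fin 9), 4, 5] := fun s hs => by
    have hpy : ∀ s ∈ [(3 : Fin 9), 4, 5], py' s = s ∧ s ≠ 0 ∧ s ≠ 1 ∧ s ≠ 2 := by decide
    obtain ⟨e, e0, e1, e2⟩ := hpy s hs
    refine mem_y.2.2.2.1 _ (by rw [← hc' s, e]) ?_ ?_ ?_
    · rw [← h0]; exact ne e0
    · rw [← h1]; exact ne e1
    · rw [← h2]; exact ne e2
  have h6 : σ 6 ∈ [(6 : Fin 9), 7, 8] := mem_y.2.2.1 _ (by rw [← h7]; exact ne (by decide))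
  obtain ⟨j, l, hjl⟩ := dec_y' _ h6 _ (hm 3 (by decide)) _ (hm 4 (by decide)) _ (hm 5 (by decide))
    (ne (by decide)) (ne (by decide)) (ne (by decide))
  refine ⟨j, l, hjl.imp (fun e => ?_) (fun e => ?_)⟩ <;>
  · ext s; rw [← e s]; fin_cases s <;> simp [h0, h1, h2, h7, h8]

theorem low_d {σ : Perm (Fin 9)} (h0 : σ 0 = 0) (h1 : σ 1 = 1) (h2 : σ 2 = 2)
    (hc : σ * pd = pd * σ) : ∃ j l : Fin 3,
    σ = py ^ j.val * py' ^ l.val ∨ σ = py ^ j.val * py' ^ l.val * pw := by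
  have hc' : ∀ s, σ (pd s) = pd (σ s) := fun s => DFunLike.congr_fun hc s
  have ne : ∀ {i k : Fin 9}, i ≠ k → σ i ≠ σ k := fun h => σ.injective.ne h
  have hm : ∀ s : Fin 9, s ≠ 0 → s ≠ 1 → s ≠ 2 → σ s ∈ [(3 : Fin 9), 4, 5, 6, 7, 8] := fun s a b c => by
    refine mem_y.2.2.2.2.1 _ ?_ ?_ ?_
    · rw [← h0]; exact ne a
    · rw [← h1]; exact ne b
    · rw [← h2]; exact ne c
  have h4 : σ 4 = pd (σ 3) := hc' 3
  have h5 : σ 5 = pd (pd (σ 3)) := by rw [← h4]; exact hc' 4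
  have h8 : σ 8 = pd (σ 6) := hc' 6
  have h7 : σ 7 = pd (pd (σ 6)) := by rw [← h8]; exact hc' 8
  obtain ⟨j, l, hjl⟩ := dec_d _ (hm 3 (by decide) (by decide) (by decide))
    _ (hm 6 (by decide) (by decide) (by decide))
    (ne (by decide)) (by rw [← h4]; exact ne (by decide)) (by rw [← h5]; exact ne (by decide))
  refine ⟨j, l, hjl.imp (fun e => ?_) (fun e => ?_)⟩ <;>
  · ext s; rw [← e s]; fin_cases s <;> simp [h0, h1, h2, h4, h5, h7, h8]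

/-- An even permutation fixing `0, 1, 2` which commutes with one of the three elements is in the `3 × 3` group. -/
theorem fix_low {σ : Perm (Fin 9)} (h0 : σ 0 = 0) (h1 : σ 1 = 1) (h2 : σ 2 = 2)
    (hs : Perm.sign σ = 1) (hc : σ * py = py * σ ∨ σ * py' = py' * σ ∨ σ * pd = pd * σ) :
    ∃ j l : Fin 3, σ = py ^ j.val * py' ^ l.val := by
  have hcontra : ∀ (p w : Perm (Fin 9)), Perm.sign p = 1 → Perm.sign w = -1 → σ ≠ p * w := by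
    intro p w hp hw e
    rw [e, Perm.sign_mul, hp, hw] at hs
    exact absurd hs (by decide)
  have hp : ∀ j l : Fin 3, Perm.sign (py ^ j.val * py' ^ l.val) = 1 := fun j l => by
    simp [Perm.sign_mul, map_pow, p_sign.2.1, p_sign.2.2.1]
  rcases hc with hc | hc | hc
  · obtain ⟨j, l, h | h⟩ := low_y h0 h1 h2 hc
    · exact ⟨j, l, h⟩
    · exact absurd h (hcontra _ _ (hp j l) pw_sign.2.1)
  · obtain ⟨j, l, h | h⟩ := low_y' h0 h1 h2 hc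
    · exact ⟨j, l, h⟩
    · exact absurd h (hcontra _ _ (hp j l) pw_sign.2.2.1)
  · obtain ⟨j, l, h | h⟩ := low_d h0 h1 h2 hc
    · exact ⟨j, l, h⟩
    · exact absurd h (hcontra _ _ (hp j l) pw_sign.1)

theorem dec_top : ∀ a ∈ [(0 : Fin 9), 1, 2], ∀ b ∈ [(0 : Fin 9), 1, 2], ∀ c ∈ [(0 : Fin 9), 1, 2],
    a ≠ b → a ≠ c → b ≠ c → ∃ i : Fin 3,
    ((px ^ i.val : Perm (Fin 9)) 0 = a ∧ (px ^ i.val : Perm (Fin 9)) 1 = b ∧ (px ^ i.val : Perm (Fin 9)) 2 = c) ∨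
    ((px ^ i.val * swap 1 2 : Perm (Fin 9)) 0 = a ∧ (px ^ i.val * swap 1 2 : Perm (Fin 9)) 1 = b ∧ (px ^ i.val * swap 1 2 : Perm (Fin 9)) 2 = c) := by
  decide

theorem p_comm : px * py = py * px ∧ px * py' = py' * px ∧ py * py' = py' * py ∧ px * pd = pd * px ∧
    swap 1 2 * py = py * swap 1 2 ∧ swap 1 2 * py' = py' * swap 1 2 ∧ swap 1 2 * pd = pd * swap 1 2 ∧
    swap 1 2 * pw = pt := by decide

/-- The centraliser of the double three cycle. -/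
theorem cent_d {σ : Perm (Fin 9)} (hs : Perm.sign σ = 1) (hc : σ * pd = pd * σ) :
    ∃ i j l : Fin 3, σ = px ^ i.val * (py ^ j.val * py' ^ l.val) ∨
      σ = px ^ i.val * (py ^ j.val * py' ^ l.val) * pt := by
  have hc' : ∀ s, σ (pd s) = pd (σ s) := fun s => DFunLike.congr_fun hc s
  have ne : ∀ {i k : Fin 9}, i ≠ k → σ i ≠ σ k := fun h => σ.injective.ne h
  have hm : ∀ s : Fin 9, s ∈ [(0 : Fin 9), 1, 2] → σ s ∈ [(0 : Fin 9), 1, 2] := fun s h => by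
    have hf : ∀ s ∈ [(0 : Fin 9), 1, 2], pd s = s := by decide
    exact mem_y.2.2.2.2.2 _ (by rw [← hc' s, hf s h])
  have hpx : ∀ i : Fin 3, Commute (px ^ i.val) pd := fun i => Commute.pow_left p_comm.2.2.2.1 _
  obtain ⟨i, h⟩ := dec_top _ (hm 0 (by decide)) _ (hm 1 (by decide)) _ (hm 2 (by decide))
    (ne (by decide)) (ne (by decide)) (ne (by decide))
  have hsx : Perm.sign (px ^ i.val) = 1 := by simp [p_sign.1]
  have hp : ∀ j l : Fin 3, Perm.sign (py ^ j.val * py' ^ l.val) = 1 := fun j l => by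
    simp [Perm.sign_mul, map_pow, p_sign.2.1, p_sign.2.2.1]
  rcases h with ⟨e0, e1, e2⟩ | ⟨e0, e1, e2⟩
  · set r := px ^ i.val
    obtain ⟨j, l, h⟩ := low_d (σ := r⁻¹ * σ) (by simp [← e0]) (by simp [← e1]) (by simp [← e2])
      (((hpx i).inv_left).mul_left hc).eq
    rcases h with h | h
    · exact ⟨i, j, l, Or.inl (inv_mul_eq_iff_eq_mul.mp h)⟩
    · have e := inv_mul_eq_iff_eq_mul.mp h
      rw [e, Perm.sign_mul, Perm.sign_mul, hp, pw_sign.1, hsx] at hs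
      exact absurd hs (by decide)
  · set r := px ^ i.val * swap 1 2 with hr
    obtain ⟨j, l, h⟩ := low_d (σ := r⁻¹ * σ) (by simp [← e0]) (by simp [← e1]) (by simp [← e2])
      ((((hpx i).mul_left p_comm.2.2.2.2.2.2.1).inv_left).mul_left hc).eq
    rcases h with h | h
    · have e := inv_mul_eq_iff_eq_mul.mp h
      rw [e, Perm.sign_mul, hp, hr, Perm.sign_mul, hsx, pw_sign.2.2.2] at hs
      exact absurd hs (by decide)
    · refine ⟨i, j, l, Or.inr ?_⟩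
      have hsw : Commute (swap 1 2) (py ^ j.val * py' ^ l.val) :=
        (Commute.pow_right p_comm.2.2.2.2.1 _).mul_right (Commute.pow_right p_comm.2.2.2.2.2.1 _)
      rw [inv_mul_eq_iff_eq_mul.mp h, hr, mul_assoc (px ^ i.val), ← mul_assoc (swap 1 2), hsw.eq,
        mul_assoc (py ^ j.val * py' ^ l.val), p_comm.2.2.2.2.2.2.2, ← mul_assoc]

/-- Injectivity of the parametrisation of the abelian group of order 27. -/
theorem A_inj : ∀ i j l : Fin 3, (∀ s, (px ^ i.val * (py ^ j.val * py' ^ l.val) : Perm (Fin 9)) s = s) →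
    i = 0 ∧ j = 0 ∧ l = 0 := by decide

/-- Support sizes. -/
theorem supp_vals : ∀ i : Fin 3, i ≠ 0 →
    (Finset.univ.filter fun s => (px ^ i.val * py' : Perm (Fin 9)) s ≠ s).card = 6 ∧
    (Finset.univ.filter fun s => (px ^ i.val * pd : Perm (Fin 9)) s ≠ s).card = 9 ∧
    (Finset.univ.filter fun s => py' s ≠ s).card = 3 ∧
    (Finset.univ.filter fun s => pd s ≠ s).card = 6 := by decide

end Cfsg.Agent.Lib.DoubleAlt12.Big
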