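import Cfsg.Agent.Lib.DoubleAlt12.Cover
import Cfsg.Agent.Lib.DoubleAlt12.BigPerm

/-!
# S1645: the exceptional configuration in degree nine, basic facts about the group of order 243
-/

set_option autoImplicit false

namespace Cfsg.Agent.Lib.DoubleAlt12.Big

open Equiv

universe u

variable {G : Type u} [Group G] [Finite G]

/-- The standard elements attached to an exceptional configuration. -/
structure Dat (K : Conf G 9) where
  x : Subgroup.centralizer ({K.z} : Set G)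
  y : Subgroup.centralizer ({K.z} : Set G)
  y' : Subgroup.centralizer ({K.z} : Set G)
  t : Subgroup.centralizer ({K.z} : Set G)
  e : Subgroup.centralizer ({K.z} : Set G)
  h : Subgroup.centralizer ({K.z} : Set G)
  hx : K.cov.φ x = px
  hy : K.cov.φ y = py
  hy' : K.cov.φ y' = py'
  ht : K.cov.φ t = pt
  he : K.cov.φ e = pe
  hh : K.cov.φ h = ph
  ox : orderOf x = 3
  oy : orderOf y = 3
  oy' : orderOf y' = 3
  R : Subgroup G
  cardR : Nat.card R = 243
  X_mem : (x : G) ∈ R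
  R_comm : ∀ r ∈ R, Commute r (x : G)
  R_norm : ∀ g : G, Commute g (x : G) → ∀ r ∈ R, g * r * g⁻¹ ∈ R
  R_inter : ∀ r ∈ R, Commute r K.z → r ∈ Subgroup.zpowers (x : G)
  R_cover : ∀ g : G, Commute g (x : G) → ∃ r ∈ R, Commute (r * g) K.z

namespace Dat

variable {K : Conf G 9} (S : Dat K)

/-- The element `x` in the whole group. -/
abbrev X : G := (S.x : G)
/-- The element `y` in the whole group. -/
abbrev Y : G := (S.y : G)
/-- The element `y'` in the whole group. -/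
abbrev Y' : G := (S.y' : G)
/-- The element `t` in the whole group. -/
abbrev T : G := (S.t : G)
/-- The element `e` in the whole group. -/
abbrev E : G := (S.e : G)
/-- The element `h` in the whole group. -/
abbrev H : G := (S.h : G)
/-- A lift of the double three cycle. -/
abbrev D : G := S.Y * S.Y'⁻¹

theorem cz (g : Subgroup.centralizer ({K.z} : Set G)) : Commute (g : G) K.z :=
  Subgroup.mem_centralizer_singleton_iff.1 g.2

theorem zz : K.z * K.z = 1 := by rw [← pow_two, ← K.hz, pow_orderOf_eq_one]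

theorem z_ne : K.z ≠ 1 := fun h => by
  have := K.hz; rw [h, orderOf_one] at this; omega

theorem X3 : S.X ^ 3 = 1 := by
  rw [← SubgroupClass.coe_pow, ← S.ox, pow_orderOf_eq_one, Subgroup.coe_one]

theorem Y3 : S.Y ^ 3 = 1 := by
  rw [← SubgroupClass.coe_pow, ← S.oy, pow_orderOf_eq_one, Subgroup.coe_one]

theorem Y'3 : S.Y' ^ 3 = 1 := by
  rw [← SubgroupClass.coe_pow, ← S.oy', pow_orderOf_eq_one, Subgroup.coe_one]

theorem card_zX : Nat.card (Subgroup.zpowers S.X) = 3 := by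
  rw [Nat.card_zpowers, Subgroup.orderOf_coe, S.ox]

theorem mem_zX {u : G} (hu : u ∈ Subgroup.zpowers S.X) :
    Commute u K.z ∧ (∀ r ∈ S.R, Commute u r) ∧ u ^ 3 = 1 ∧
      (∀ g : G, Commute g S.X → Commute g u) := by
  obtain ⟨k, rfl⟩ := Subgroup.mem_zpowers_iff.1 hu
  refine ⟨(cz S.x).zpow_left k, fun r hr => (S.R_comm r hr).symm.zpow_left k, ?_,
    fun g hg => hg.zpow_right k⟩
  rw [← zpow_natCast, ← zpow_mul, mul_comm, zpow_mul, zpow_natCast, S.X3, one_zpow]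

/-- `r` is an element of `R` inverted by `z`. -/
def Inv (r : G) : Prop := r ∈ S.R ∧ K.z * r * K.z = r⁻¹

theorem conj_z_mem {r : G} (hr : r ∈ S.R) : K.z * r * K.z ∈ S.R := by
  have h := S.R_norm K.z (cz S.x).symm r hr
  rwa [inv_eq_of_mul_eq_one_right zz] at h

theorem conj_z_mul (a b : G) : K.z * (a * b) * K.z = (K.z * a * K.z) * (K.z * b * K.z) := by
  calc K.z * (a * b) * K.z = K.z * a * (1 * (b * K.z)) := by group
    _ = K.z * a * ((K.z * K.z) * (b * K.z)) := by rw [zz]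
    _ = (K.z * a * K.z) * (K.z * b * K.z) := by group

theorem conj_z_inv (a : G) : K.z * a⁻¹ * K.z = (K.z * a * K.z)⁻¹ := by
  have : K.z⁻¹ = K.z := inv_eq_of_mul_eq_one_right zz
  rw [mul_inv_rev, mul_inv_rev, this, mul_assoc]

theorem conj_z_fix {u : G} (hu : Commute u K.z) : K.z * u * K.z = u := by
  rw [← hu.eq, mul_assoc, zz, mul_one]

theorem odd_R {r : G} (hr : r ∈ S.R) : r ^ 243 = 1 := by
  have h := pow_card_eq_one' (x := (⟨r, hr⟩ : S.R))
  rw [S.cardR] at h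
  simpa using congrArg Subtype.val h

theorem eq_one_of_sq {r : G} (h2 : r * r = 1) (n : ℕ) (hn : r ^ (2 * n + 1) = 1) : r = 1 := by
  rw [pow_succ, pow_mul, pow_two, h2, one_pow, one_mul] at hn
  exact hn

theorem z_notMem : K.z ∉ S.R := fun h => z_ne (eq_one_of_sq zz 121 (S.odd_R h))

/-- Two inverted elements differing by a power of `x` are equal. -/
theorem Inv.eq_of {u a b : G} (hu : u ∈ Subgroup.zpowers S.X) (ha : S.Inv a) (hb : S.Inv b)
    (h : b = u * a) : u = 1 ∧ b = a := by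
  obtain ⟨huz, huR, hu3, -⟩ := S.mem_zX hu
  have h1 := hb.2
  rw [h, conj_z_mul, conj_z_fix huz, ha.2, mul_inv_rev, ← (((huR a ha.1).inv_left).inv_right).eq]
    at h1
  have h2 : u = 1 := eq_one_of_sq (mul_eq_one_iff_eq_inv.2 (mul_right_cancel h1)) 1 hu3
  exact ⟨h2, by rw [h, h2, one_mul]⟩

theorem inv_commutator {r : G} (hr : r ∈ S.R) : S.Inv (r⁻¹ * (K.z * r * K.z)) := by
  refine ⟨mul_mem (inv_mem hr) (S.conj_z_mem hr), ?_⟩
  rw [conj_z_mul, conj_z_inv, mul_inv_rev (r⁻¹) _, inv_inv]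
  congr 1
  calc K.z * (K.z * r * K.z) * K.z = (K.z * K.z) * r * (K.z * K.z) := by group
    _ = r := by rw [zz, one_mul, mul_one]

theorem zX_le : Subgroup.zpowers S.X ≤ S.R := Subgroup.zpowers_le.2 S.X_mem

theorem inv_facts : Nat.card {r : G // S.Inv r} = 81 ∧
    ∀ r ∈ S.R, ∃ u ∈ Subgroup.zpowers S.X, ∃ r₀, S.Inv r₀ ∧ r = u * r₀ := by
  classical
  cases nonempty_fintype G
  let f : S.R → {r : G // S.Inv r} := fun r => ⟨(r : G)⁻¹ * (K.z * r * K.z), S.inv_commutator r.2⟩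
  have hfib : ∀ b ∈ (Finset.univ : Finset S.R).image f,
      ((Finset.univ : Finset S.R).filter fun a => f a = b).card ≤ 3 := by
    intro b hb
    obtain ⟨r, -, rfl⟩ := Finset.mem_image.1 hb
    rw [← S.card_zX, Nat.card_eq_fintype_card, ← Finset.card_univ]
    refine Finset.card_le_card_of_surjOn
      (fun u : Subgroup.zpowers S.X => (⟨(u : G) * r, mul_mem (S.zX_le u.2) r.2⟩ : S.R)) ?_
    intro a ha
    have e : (a : G)⁻¹ * (K.z * a * K.z) = (r : G)⁻¹ * (K.z * r * K.z) :=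
      congrArg Subtype.val (Finset.mem_filter.1 ha).2
    refine ⟨⟨(a : G) * (r : G)⁻¹, S.R_inter _ (mul_mem a.2 (inv_mem r.2)) ?_⟩, Finset.mem_coe.2
      (Finset.mem_univ _), Subtype.ext (inv_mul_cancel_right _ _)⟩
    have e2 : K.z * ((a : G) * (r : G)⁻¹) * K.z = (a : G) * (r : G)⁻¹ := by
      rw [conj_z_mul, conj_z_inv]
      calc K.z * a * K.z * (K.z * r * K.z)⁻¹
          = a * ((a : G)⁻¹ * (K.z * a * K.z)) * (K.z * r * K.z)⁻¹ := by group
        _ = a * ((r : G)⁻¹ * (K.z * r * K.z)) * (K.z * r * K.z)⁻¹ := by rw [e]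
        _ = a * (r : G)⁻¹ := by group
    show (a : G) * (r : G)⁻¹ * K.z = K.z * (a * (r : G)⁻¹)
    conv_lhs => rw [← e2]
    rw [mul_assoc _ K.z K.z, zz, mul_one]
  have h1 : 243 ≤ 3 * Nat.card {r : G // S.Inv r} := by
    rw [← S.cardR, Nat.card_eq_fintype_card, Nat.card_eq_fintype_card, ← Finset.card_univ]
    refine (Finset.card_le_mul_card_image _ 3 hfib).trans ?_
    exact Nat.mul_le_mul_left 3 (Finset.card_le_univ _)
  let g : Subgroup.zpowers S.X × {r : G // S.Inv r} → S.R :=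
    fun p => ⟨(p.1 : G) * p.2, mul_mem (S.zX_le p.1.2) p.2.2.1⟩
  have hg : Function.Injective g := by
    rintro ⟨u, a⟩ ⟨v, b⟩ h
    have h' : (u : G) * a = v * b := congrArg Subtype.val h
    have hb : (b : G) = ((v : G)⁻¹ * u) * a := by rw [mul_assoc, h', inv_mul_cancel_left]
    obtain ⟨e1, e2⟩ := Inv.eq_of S (mul_mem (inv_mem v.2) u.2) a.2 b.2 hb
    rw [inv_mul_eq_one] at e1
    exact Prod.ext (Subtype.ext e1.symm) (Subtype.ext e2.symm)
  have h2 := Nat.card_le_card_of_injective g hg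
  rw [Nat.card_prod, S.card_zX, S.cardR] at h2
  have hI : Nat.card {r : G // S.Inv r} = 81 := by omega
  refine ⟨hI, fun r hr => ?_⟩
  obtain ⟨⟨u, r₀⟩, hp⟩ :=
    ((Nat.bijective_iff_injective_and_card g).2 ⟨hg, by rw [Nat.card_prod, S.card_zX, S.cardR, hI]⟩).2
      ⟨r, hr⟩
  exact ⟨u, u.2, r₀, r₀.2, (congrArg Subtype.val hp).symm⟩

theorem exists_inv_ne_one : ∃ v, S.Inv v ∧ v ≠ 1 := by
  by_contra! h
  have : Nat.card {r : G // S.Inv r} ≤ 1 := by
    have : Subsingleton {r : G // S.Inv r} :=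
      ⟨fun a b => Subtype.ext ((h a a.2).trans (h b b.2).symm)⟩
    exact Finite.card_le_one_iff_subsingleton.2 this
  rw [S.inv_facts.1] at this
  omega

theorem Inv.conj {g r : G} (hgz : Commute g K.z) (hgx : Commute g S.X) (hr : S.Inv r) :
    S.Inv (g * r * g⁻¹) := by
  refine ⟨S.R_norm g hgx r hr.1, ?_⟩
  rw [conj_z_mul, conj_z_mul, conj_z_inv, conj_z_fix hgz, hr.2]
  group

/-- An element of `C(x) ∩ C(z)` moving an inverted element by a power of `x` fixes it. -/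
theorem Inv.comm_of {g r : G} (hgz : Commute g K.z) (hgx : Commute g S.X) (hr : S.Inv r)
    (h : g * r * g⁻¹ * r⁻¹ ∈ Subgroup.zpowers S.X) : Commute g r := by
  have h2 := (Inv.eq_of S h hr (hr.conj S hgz hgx) (inv_mul_cancel_right _ _).symm).2
  exact mul_inv_eq_iff_eq_mul.1 h2

theorem comm_iff {g r u : G} (hgx : Commute g S.X) (hu : u ∈ Subgroup.zpowers S.X) :
    Commute g (u * r) ↔ Commute g r := by
  have h := (S.mem_zX hu).2.2.2 g hgx
  refine ⟨fun h2 => ?_, fun h2 => h.mul_right h2⟩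
  have := h.inv_right.mul_right h2
  rwa [inv_mul_cancel_left] at this

theorem commutator_zX {a b : G} (ha : a ∈ S.R) (hb : b ∈ S.R) :
    ∃ u ∈ Subgroup.zpowers S.X, a * b = u * (b * a) := by
  obtain ⟨u, hu, a₀, ha₀, rfl⟩ := S.inv_facts.2 a ha
  obtain ⟨v, hv, b₀, hb₀, rfl⟩ := S.inv_facts.2 b hb
  obtain ⟨w, hw, r₀, hr₀, hab⟩ := S.inv_facts.2 _ (mul_mem ha₀.1 hb₀.1)
  obtain ⟨hwz, hwR, -, -⟩ := S.mem_zX hw
  obtain ⟨huz, huR, -, -⟩ := S.mem_zX hu
  obtain ⟨hvz, hvR, -, -⟩ := S.mem_zX hv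
  have h1 : a₀⁻¹ * b₀⁻¹ = w * r₀⁻¹ := by
    rw [← ha₀.2, ← hb₀.2, ← hr₀.2, ← conj_z_mul, hab, conj_z_mul, conj_z_fix hwz]
  have h2 : r₀ = b₀ * a₀ * w := by
    have h3 := congrArg (·⁻¹) h1
    simp only [mul_inv_rev, inv_inv] at h3
    rw [h3, inv_mul_cancel_right]
  have h4 : a₀ * b₀ = w * w * (b₀ * a₀) := by
    rw [hab, h2, ← (hwR _ (mul_mem hb₀.1 ha₀.1)).eq, mul_assoc]
  refine ⟨w * w, mul_mem hw hw, ?_⟩
  calc u * a₀ * (v * b₀) = u * v * (a₀ * b₀) := by
        rw [mul_assoc, mul_assoc, ← mul_assoc a₀, ← (hvR a₀ ha₀.1).eq, mul_assoc v]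
    _ = u * v * (w * w * (b₀ * a₀)) := by rw [h4]
    _ = w * w * (u * v * (b₀ * a₀)) := by
        rw [← mul_assoc (u * v), ← mul_assoc (w * w),
          ((hwR _ (mul_mem (S.zX_le hu) (S.zX_le hv))).mul_left
            (hwR _ (mul_mem (S.zX_le hu) (S.zX_le hv)))).eq]
    _ = w * w * (v * b₀ * (u * a₀)) := by
        congr 1
        rw [mul_assoc v b₀, ← mul_assoc b₀, ← (huR b₀ hb₀.1).eq, (hvR u (S.zX_le hu)).symm.eq]
        group

end Dat

end Cfsg.Agent.Lib.DoubleAlt12.Big
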