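import Cfsg.Agent.Lib.DoubleAlt12.Small
import Cfsg.Agent.Lib.BrauerSuzukiQ.ZStarFinal
import Cfsg.Agent.Lib.PSolvable.Core

/-!
# S1645: moving the involution

The involution `z` is not isolated (Z*), so some other involution of its centraliser is conjugate to `z`.
-/

set_option autoImplicit false

namespace Cfsg.Agent.Lib.DoubleAlt12

open Cfsg Cfsg.Agent.Lib

universe u

variable {G : Type u} [Group G] [Finite G] [IsSimpleGroup G] {n : ℕ}

namespace Conf

variable (K : Conf G n)

/-- Some involution of the centraliser other than `z` is conjugate to `z`. -/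
theorem exists_move (hn : 5 ≤ n) :
    ∃ t : Subgroup.centralizer ({K.z} : Set G), orderOf t = 2 ∧ t ≠ K.cov.z ∧ IsConj (t : G) K.z := by
  have hnon : ¬ ∀ a b : G, a * b = b * a := by
    intro hab
    haveI : Nontrivial (Fin n) := Fin.nontrivial_iff_two_le.2 (by omega)
    have h3 : 3 ≤ Nat.card (alternatingGroup (Fin n)) := by
      rw [Nat.card_eq_fintype_card, card_alternatingGroup, Fintype.card_fin]
      have : Nat.factorial 5 ≤ n.factorial := Nat.factorial_le hn
      have : Nat.factorial 5 = 120 := rfl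
      omega
    have hc := K.cov.card_eq
    have htop : Subgroup.centralizer ({K.z} : Set G) = ⊤ :=
      eq_top_iff.2 fun g _ => Subgroup.mem_centralizer_singleton_iff.2 (hab g K.z)
    rw [htop, Subgroup.card_top] at hc
    have hcen : Subgroup.zpowers K.z = ⊤ := by
      haveI : (Subgroup.zpowers K.z).Normal :=
        ⟨fun m hm g => by rw [hab g m, mul_inv_cancel_right]; exact hm⟩
      rcases IsSimpleGroup.eq_bot_or_eq_top_of_normal (Subgroup.zpowers K.z) inferInstance with h | h
      · exact absurd (Subgroup.zpowers_eq_bot.1 h) (Involution.ne_one K.hz)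
      · exact h
    have h2 : Nat.card (⊤ : Subgroup G) = 2 := by rw [← hcen, Nat.card_zpowers, K.hz]
    rw [Subgroup.card_top] at h2
    omega
  obtain ⟨g, hcomm, hne⟩ : ∃ g : G, Commute K.z (g * K.z * g⁻¹) ∧ g * K.z * g⁻¹ ≠ K.z := by
    by_contra hcon
    push Not at hcon
    haveI : Fact (Nat.Prime 2) := ⟨Nat.prime_two⟩
    haveI : (oddCore G).Normal := pPrimeCore_normal 2 G
    have hcore : oddCore G = ⊥ := by
      rcases IsSimpleGroup.eq_bot_or_eq_top_of_normal (oddCore G) inferInstance with h | h
      · exact h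
      · have h2 := PSolvable.pPrimeCore_not_dvd (p := 2) (G := G)
        rw [show pPrimeCore 2 G = ⊤ from h, Subgroup.card_top] at h2
        exact absurd (K.hz ▸ orderOf_dvd_natCard K.z) h2
    have hc : K.z ∈ Subgroup.center G := by
      refine Subgroup.mem_center_iff.mpr fun g => ?_
      have h := BrauerSuzukiQ.zstar (z := K.z) ⟨K.hz, hcon⟩ g
      rw [hcore, Subgroup.mem_bot, mul_inv_eq_one, mul_inv_eq_iff_eq_mul] at h
      exact h.symm
    rcases IsSimpleGroup.eq_bot_or_eq_top_of_normal (Subgroup.center G) inferInstance with h | h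
    · rw [h, Subgroup.mem_bot] at hc
      exact Involution.ne_one K.hz hc
    · exact hnon fun a b => Subgroup.mem_center_iff.mp (h ▸ Subgroup.mem_top b) a
  refine ⟨⟨g * K.z * g⁻¹, Subgroup.mem_centralizer_singleton_iff.2 hcomm.eq.symm⟩, ?_, ?_, ?_⟩
  · rw [← Subgroup.orderOf_coe, Involution.orderOf_conj_eq, K.hz]
  · intro h
    exact hne ((congrArg Subtype.val h).trans K.cov_z)
  · exact (isConj_iff.2 ⟨g, rfl⟩ : IsConj K.z (g * K.z * g⁻¹)).symm

/-- Separation: no property of marked groups can distinguish `z` from the other involution in the centraliser of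
every further involution of the cover. -/
theorem false_of_separated (hn : 5 ≤ n) (P : ∀ (H : Type u) [Group H], H → Prop)
    (hP : ∀ (H J : Type u) [Group H] [Group J] (e : H ≃* J) (w : H), P H w → P J (e w))
    (hgood : ∀ u : Subgroup.centralizer ({K.z} : Set G), orderOf u = 2 → u ≠ K.cov.z →
      P (Subgroup.centralizer ({u} : Set (Subgroup.centralizer ({K.z} : Set G))))
          ⟨K.cov.z, Subgroup.mem_centralizer_singleton_iff.2 (K.cov.central u).symm⟩ ∧
        ¬ P (Subgroup.centralizer ({u} : Set (Subgroup.centralizer ({K.z} : Set G))))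
          ⟨u, Subgroup.mem_centralizer_singleton_iff.2 rfl⟩) : False := by
  obtain ⟨t, ht, htz, htc⟩ := K.exists_move hn
  obtain ⟨g, hg⟩ := isConj_iff.1 htc
  have htz' : Commute (t : G) K.z := Subgroup.mem_centralizer_singleton_iff.1 t.2
  have hv : g * K.z * g⁻¹ ∈ Subgroup.centralizer ({K.z} : Set G) := by
    refine Subgroup.mem_centralizer_singleton_iff.2 ?_
    have h := htz'.symm.map (MulAut.conj g).toMonoidHom
    simp only [MulEquiv.coe_toMonoidHom, MulAut.conj_apply, hg] at h
    exact h
  set v : Subgroup.centralizer ({K.z} : Set G) := ⟨g * K.z * g⁻¹, hv⟩ with hvdef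
  have hv2 : orderOf v = 2 := by
    rw [← Subgroup.orderOf_coe, hvdef, Involution.orderOf_conj_eq, K.hz]
  have hvz : v ≠ K.cov.z := by
    intro h
    apply htz
    have h' : g * K.z * g⁻¹ = K.z := (congrArg Subtype.val h).trans K.cov_z
    apply Subtype.ext
    rw [K.cov_z]
    have h'' : g * (t : G) * g⁻¹ = g * K.z * g⁻¹ := hg.trans h'.symm
    exact mul_left_cancel (mul_right_cancel h'')
  -- conjugation by `g` carries the centraliser of `t` and `z` onto that of `z` and `v`
  have hfwd : ∀ x : G, Commute x (t : G) → Commute x K.z →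
      Commute (g * x * g⁻¹) K.z ∧ Commute (g * x * g⁻¹) (g * K.z * g⁻¹) := by
    intro x hx hxz
    refine ⟨?_, hxz.map (MulAut.conj g).toMonoidHom⟩
    have h := hx.map (MulAut.conj g).toMonoidHom
    simp only [MulEquiv.coe_toMonoidHom, MulAut.conj_apply, hg] at h
    exact h
  have hbwd : ∀ x : G, Commute x K.z → Commute x (g * K.z * g⁻¹) →
      Commute (g⁻¹ * x * g) K.z ∧ Commute (g⁻¹ * x * g) (t : G) := by
    intro x hx hxv
    constructor
    · have h := hxv.map (MulAut.conj g⁻¹).toMonoidHom
      simp only [MulEquiv.coe_toMonoidHom, MulAut.conj_apply, inv_inv] at h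
      rwa [show g⁻¹ * (g * K.z * g⁻¹) * g = K.z by group] at h
    · have h := hx.map (MulAut.conj g⁻¹).toMonoidHom
      simp only [MulEquiv.coe_toMonoidHom, MulAut.conj_apply, inv_inv] at h
      rwa [show g⁻¹ * K.z * g = g⁻¹ * (g * (t : G) * g⁻¹) * g from congrArg (fun y => g⁻¹ * y * g) hg.symm,
        show g⁻¹ * (g * (t : G) * g⁻¹) * g = (t : G) by group] at h
  have hin : ∀ {x : Subgroup.centralizer ({K.z} : Set G)}, x ∈ Subgroup.centralizer ({t} : Set (Subgroup.centralizer ({K.z} : Set G))) ↔ Commute (x : G) (t : G) := by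
    intro x
    rw [Subgroup.mem_centralizer_singleton_iff]
    exact ⟨fun h => congrArg Subtype.val h, fun h => Subtype.ext h⟩
  have hin' : ∀ {x : Subgroup.centralizer ({K.z} : Set G)}, x ∈ Subgroup.centralizer ({v} : Set (Subgroup.centralizer ({K.z} : Set G))) ↔ Commute (x : G) (g * K.z * g⁻¹) := by
    intro x
    rw [Subgroup.mem_centralizer_singleton_iff]
    exact ⟨fun h => congrArg Subtype.val h, fun h => Subtype.ext h⟩
  let e : Subgroup.centralizer ({t} : Set (Subgroup.centralizer ({K.z} : Set G))) ≃* Subgroup.centralizer ({v} : Set (Subgroup.centralizer ({K.z} : Set G))) :=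
    { toFun := fun x =>
        ⟨⟨g * ((x : Subgroup.centralizer ({K.z} : Set G)) : G) * g⁻¹, Subgroup.mem_centralizer_singleton_iff.2
            (hfwd _ (hin.1 x.2) (Subgroup.mem_centralizer_singleton_iff.1 (x : Subgroup.centralizer ({K.z} : Set G)).2)).1⟩,
          hin'.2 (hfwd _ (hin.1 x.2) (Subgroup.mem_centralizer_singleton_iff.1 (x : Subgroup.centralizer ({K.z} : Set G)).2)).2⟩
      invFun := fun x =>
        ⟨⟨g⁻¹ * ((x : Subgroup.centralizer ({K.z} : Set G)) : G) * g, Subgroup.mem_centralizer_singleton_iff.2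
            (hbwd _ (Subgroup.mem_centralizer_singleton_iff.1 (x : Subgroup.centralizer ({K.z} : Set G)).2) (hin'.1 x.2)).1⟩,
          hin.2 (hbwd _ (Subgroup.mem_centralizer_singleton_iff.1 (x : Subgroup.centralizer ({K.z} : Set G)).2) (hin'.1 x.2)).2⟩
      left_inv := fun x => Subtype.ext (Subtype.ext (by
        show g⁻¹ * (g * ((x : Subgroup.centralizer ({K.z} : Set G)) : G) * g⁻¹) * g = _
        group))
      right_inv := fun x => Subtype.ext (Subtype.ext (by
        show g * (g⁻¹ * ((x : Subgroup.centralizer ({K.z} : Set G)) : G) * g) * g⁻¹ = _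
        group))
      map_mul' := fun x y => Subtype.ext (Subtype.ext (by
        show g * (((x : Subgroup.centralizer ({K.z} : Set G)) : G) * ((y : Subgroup.centralizer ({K.z} : Set G)) : G)) * g⁻¹ = (g * _ * g⁻¹) * (g * _ * g⁻¹)
        group)) }
  have he := hP _ _ e _ (hgood t ht htz).1
  have hez : e ⟨K.cov.z, Subgroup.mem_centralizer_singleton_iff.2 (K.cov.central t).symm⟩ =
      ⟨v, Subgroup.mem_centralizer_singleton_iff.2 rfl⟩ := by
    apply Subtype.ext
    apply Subtype.ext
    show g * (K.cov.z : G) * g⁻¹ = g * K.z * g⁻¹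
    rw [K.cov_z]
  rw [hez] at he
  exact (hgood v hv2 hvz).2 he

/-- In degree nine and ten every involution of the centraliser is conjugate to `z`. -/
theorem isConj_z (hn : n = 9 ∨ n = 10) {u : Subgroup.centralizer ({K.z} : Set G)}
    (hu : orderOf u = 2) (huz : u ≠ K.cov.z) : IsConj (u : G) K.z := by
  obtain ⟨t, ht, htz, htc⟩ := K.exists_move (by omega)
  have h := K.cov.conj_of_φ hu huz ht htz (by omega) (by omega)
  exact ((Subgroup.centralizer ({K.z} : Set G)).subtype.map_isConj h).trans htc

end Conf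

end Cfsg.Agent.Lib.DoubleAlt12
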