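import Cfsg.Agent.Lib.DoubleAlt12.BigA
import Cfsg.Agent.Lib.DoubleAlt12.Move

/-!
# S1645: the exceptional configuration in degree nine is impossible
-/

set_option autoImplicit false
set_option linter.unusedSectionVars false

namespace Cfsg.Agent.Lib.DoubleAlt12.Big

open Equiv

universe u

variable {G : Type u} [Group G] [Finite G]

theorem pd_cycleType : pd.cycleType = {3, 3} ∧ px.cycleType = {3} := by
  have h1 : Perm.IsThreeCycle py := Perm.isThreeCycle_swap_mul_swap_same (by decide) (by decide) (by decide)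
  have h2 : Perm.IsThreeCycle py' := Perm.isThreeCycle_swap_mul_swap_same (by decide) (by decide) (by decide)
  have h3 : Perm.IsThreeCycle px := Perm.isThreeCycle_swap_mul_swap_same (by decide) (by decide) (by decide)
  have hd : py.Disjoint py'⁻¹ := by intro s; revert s; decide
  exact ⟨by rw [hd.cycleType_mul, h1.cycleType, h2.inv.cycleType]; rfl, h3⟩

/-- An element of order three commuting with an involution of support eight. -/
theorem type_of_commute {σ π : Perm (Fin 9)} (hσ : orderOf σ = 3) (hπ : π * π = 1)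
    (hs : π.support.card = 8) (hc : Commute σ π) : σ.cycleType = {3, 3} := by
  obtain ⟨n, hn⟩ := Perm.cycleType_prime_order (σ := σ) (by rw [hσ]; norm_num)
  rw [hσ] at hn
  have hsum : σ.support.card = 3 * (n + 1) := by
    rw [← Perm.sum_cycleType, hn, Multiset.sum_replicate, smul_eq_mul, mul_comm]
  obtain ⟨f, hf⟩ : ∃ f, π.supportᶜ = {f} := Finset.card_eq_one.1 (by rw [Finset.card_compl, hs]; rfl)
  have hfix : ∀ s, π s = s ↔ s = f := fun s => by
    have h := Finset.ext_iff.1 hf s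
    rwa [Finset.mem_compl, Perm.mem_support, not_not, Finset.mem_singleton] at h
  have hc' : ∀ s, σ (π s) = π (σ s) := fun s => DFunLike.congr_fun hc.eq s
  have hπ' : ∀ s, π (π s) = s := fun s => DFunLike.congr_fun hπ s
  have hσf : σ f = f := (hfix _).1 (by rw [← hc', (hfix f).2 rfl])
  have hlt : σ.support.card ≤ 8 := by
    have hsub : σ.support ⊆ ({f} : Finset (Fin 9))ᶜ := fun s hs' => by
      rw [Finset.mem_compl, Finset.mem_singleton]
      rintro rfl
      exact Perm.mem_support.1 hs' hσf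
    refine (Finset.card_le_card hsub).trans ?_
    rw [Finset.card_compl, Finset.card_singleton]; rfl
  obtain rfl | rfl : n = 0 ∨ n = 1 := by omega
  · exfalso
    obtain ⟨a, b, c, hab, hac, hbc, he⟩ := Finset.card_eq_three.1 hsum
    have hmem : ∀ s, s ∈ σ.support → π s ∈ σ.support ∧ π s ≠ s := fun s hs' => by
      rw [Perm.mem_support] at hs' ⊢
      refine ⟨fun e => hs' (π.injective (by rw [← hc', e])), fun e => hs' ?_⟩
      rw [(hfix s).1 e, hσf]
    rw [he] at hmem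
    have ha := hmem a (by simp)
    have hb := hmem b (by simp)
    have hc2 := hmem c (by simp)
    simp only [Finset.mem_insert, Finset.mem_singleton] at ha hb hc2
    rcases ha.1 with h | h | h
    · exact ha.2 h
    · rcases hc2.1 with h2 | h2 | h2
      · exact hbc (by rw [← h, ← h2, hπ'])
      · exact hac (π.injective (h.trans h2.symm))
      · exact hc2.2 h2
    · rcases hb.1 with h2 | h2 | h2
      · exact hbc (by rw [← h, ← h2, hπ'])
      · exact hb.2 h2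
      · exact hab (π.injective (h.trans h2.symm))
  · rw [hn]; rfl

theorem sq_mod_three : (∀ i : Fin 3, i ≠ 0 → (2 * i.val * (2 * i.val)) % 3 = 1) ∧
    (∀ j l : Fin 3, (j.val + l.val) % 3 ≠ 0 → (j.val + l.val) * (j.val + l.val) % 3 = 1) := by decide

namespace Dat

variable {K : Conf G 9} (S : Dat K)

set_option quotPrecheck false in
local notation "CZ" => ↥(Subgroup.centralizer (Singleton.singleton K.z : Set G))

theorem eq_of_iff {P Q : Subgroup G} {u : G} (hP : ∀ a, a ∈ P ↔ S.Sd u a)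
    (hQ : ∀ a, a ∈ Q ↔ S.Sd u a) : P = Q := Subgroup.ext fun a => (hP a).trans (hQ a).symm

theorem map_iff {P : Subgroup G} {u : G} (hP : ∀ a, a ∈ P ↔ S.Sd u a) (g : G)
    (hg : ∀ a, Commute (g * a * g⁻¹) S.D ↔ Commute a S.D) :
    ∀ a, a ∈ P.map (MulAut.conj g).toMonoidHom ↔ S.Sd (g * u * g⁻¹) a := by
  intro a
  have e : ∀ b : G, orderOf (g * b * g⁻¹) = orderOf b := fun b => (MulAut.conj g).orderOf_eq b
  constructor
  · rintro ⟨b, hb, rfl⟩
    obtain ⟨h1, h2, h3⟩ := (hP b).1 hb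
    exact ⟨(hg b).2 h1, (Commute.conj_iff g).2 h2, by show Odd (orderOf (g * b * g⁻¹)); rwa [e]⟩
  · rintro ⟨h1, h2, h3⟩
    have ha : g * (g⁻¹ * a * g) * g⁻¹ = a := by group
    refine ⟨g⁻¹ * a * g, (hP _).2 ⟨(hg _).1 (by rwa [ha]), (Commute.conj_iff g).1 (by rwa [ha]), ?_⟩,
      ha⟩
    rw [← e, ha]; exact h3

theorem D_comm_iff {g : G} (hg : Commute g S.D) (a : G) :
    Commute (g * a * g⁻¹) S.D ↔ Commute a S.D := by
  conv_lhs => rw [← show g * S.D * g⁻¹ = S.D by rw [hg.eq, mul_inv_cancel_right]]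
  exact Commute.conj_iff g

theorem E_comm_iff (a : G) : Commute (S.E * a * S.E⁻¹) S.D ↔ Commute a S.D := by
  have h := Commute.conj_iff S.E (a := a) (b := S.D)
  rw [S.ED, Commute.inv_right_iff] at h
  exact h

/-- The centraliser of one subgroup in another. -/
def Cn (P Q : Subgroup G) : Subgroup G := P ⊓ Subgroup.centralizer (Q : Set G)

theorem Cn_map (P Q : Subgroup G) (g : G) :
    (Cn P Q).map (MulAut.conj g).toMonoidHom =
      Cn (P.map (MulAut.conj g).toMonoidHom) (Q.map (MulAut.conj g).toMonoidHom) := by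
  ext a
  constructor
  · rintro ⟨b, ⟨hb, hb'⟩, rfl⟩
    refine ⟨⟨b, hb, rfl⟩, Subgroup.mem_centralizer_iff.2 ?_⟩
    rintro _ ⟨q, hq, rfl⟩
    exact ((Commute.conj_iff g).2 (Subgroup.mem_centralizer_iff.1 hb' q hq : Commute q b)).eq
  · rintro ⟨⟨b, hb, rfl⟩, h⟩
    refine ⟨b, ⟨hb, Subgroup.mem_centralizer_iff.2 fun q hq => ?_⟩, rfl⟩
    exact ((Commute.conj_iff g).1 (Subgroup.mem_centralizer_iff.1 h _ ⟨q, hq, rfl⟩ :
      Commute (g * q * g⁻¹) (g * b * g⁻¹))).eq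

theorem card_Cn_map (P Q : Subgroup G) (g : G) :
    Nat.card (Cn (P.map (MulAut.conj g).toMonoidHom) (Q.map (MulAut.conj g).toMonoidHom)) =
      Nat.card (Cn P Q) := by
  rw [← Cn_map, Subgroup.card_map_of_injective (MulAut.conj g).injective]

theorem Lt_cent_A {r : G} (hr : r ∈ S.Lt) {a : G} (ha : a ∈ S.A) : Commute r a := by
  obtain ⟨hrR, hrY, hrY'⟩ := S.mem_Lt.1 hr
  obtain ⟨i, j, l, rfl⟩ := ha
  exact ((S.R_comm r hrR).pow_right i).mul_right ((hrY.pow_right j).mul_right (hrY'.pow_right l))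

theorem card_W {A1 : Subgroup G} (hA1 : ∀ a, a ∈ A1 ↔ S.Sd S.T a) (h3 : ∀ a ∈ A1, a ^ 3 = 1) :
    Nat.card (Cn A1 S.A) = 9 ∧
      ∀ w ∈ Cn A1 S.A, ∃ p ∈ S.Lp, ∃ d ∈ Subgroup.zpowers S.D, w = p * d := by
  have hT : ∀ r ∈ S.R, S.T * r * S.T⁻¹ ∈ S.R := fun r hr => S.T_conj_R hr
  have hLp : ∀ p ∈ S.Lp, p ∈ Cn A1 S.A := fun p hp => by
    obtain ⟨hpR, hpY, hpY'⟩ := S.mem_Lt.1 hp.1
    refine ⟨(hA1 p).2 ⟨hpY.mul_right hpY'.inv_right, Subgroup.mem_centralizer_singleton_iff.1 hp.2,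
      Odd.of_dvd_nat (show Odd 243 by decide) (orderOf_dvd_of_pow_eq_one (S.odd_R hpR))⟩, ?_⟩
    exact Subgroup.mem_centralizer_iff.2 fun a ha => (S.Lt_cent_A hp.1 ha).eq.symm
  have hD : S.D ∈ Cn A1 S.A := by
    obtain ⟨-, -, hY, hY', hDD, -⟩ := S.A_facts S.DA
    refine ⟨(hA1 _).2 ⟨Commute.refl _, S.TD.symm, ((S.mem_A_iff).1 S.DA).2.2⟩, ?_⟩
    exact Subgroup.mem_centralizer_iff.2 fun a ha => (S.A_facts ha).2.2.2.2.1.eq
  have hall : ∀ w ∈ Cn A1 S.A, ∃ p ∈ S.Lp, ∃ d ∈ Subgroup.zpowers S.D, w = p * d := by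
    rintro w ⟨hw1, hw2⟩
    obtain ⟨hwD, hwT, -⟩ := (hA1 w).1 hw1
    have hcA : ∀ a ∈ S.A, Commute w a := fun a ha =>
      (Subgroup.mem_centralizer_iff.1 hw2 a ha : Commute a w).symm
    obtain ⟨-, -, r, hr, b, hb, he⟩ := S.cent_main (hcA _ S.XA) (Or.inl (hcA _ S.Y'A))
    obtain ⟨hbz, -, -, -, -, hb3⟩ := S.A_facts hb
    have hrb := S.Lt_cent_A hr hb
    obtain ⟨u, hu, r₀, hr₀, rfl⟩ := S.inv_facts.2 r (S.mem_Lt.1 hr).1
    obtain ⟨huz, huR, hu3, -⟩ := S.mem_zX hu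
    rcases he with he | he
    · have hr₀L : r₀ ∈ S.Lt := by
        have := mul_mem (inv_mem (S.zX_le_Lt hu)) hr
        rwa [inv_mul_cancel_left] at this
      have hub : u * b ∈ S.A := mul_mem ((Subgroup.zpowers_le.2 S.XA) hu) hb
      have hw : w = r₀ * (u * b) := by rw [he, ← mul_assoc, (huR r₀ hr₀.1).eq]
      have hTb : S.T * (u * b) * S.T⁻¹ ∈ S.A := by
        obtain ⟨h1, h2, h3'⟩ := S.mem_A_iff.1 hub
        refine S.mem_A_iff.2 ⟨(S.D_comm_iff S.TD _).2 h1, ?_, ?_⟩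
        · have := (Commute.conj_iff S.T).2 h2
          rwa [(cz S.t).eq, mul_inv_cancel_right] at this
        · show Odd (orderOf (MulAut.conj S.T (u * b)))
          rw [(MulAut.conj S.T).orderOf_eq]; exact h3'
      have hwfix : S.T * w * S.T⁻¹ = w := by rw [← hwT.eq, mul_inv_cancel_right]
      have h1 : r₀⁻¹ * (S.T * r₀ * S.T⁻¹) = (u * b) * (S.T * (u * b) * S.T⁻¹)⁻¹ := by
        rw [hw, show S.T * (r₀ * (u * b)) * S.T⁻¹ = (S.T * r₀ * S.T⁻¹) * (S.T * (u * b) * S.T⁻¹) by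
          group] at hwfix
        rw [eq_mul_inv_iff_mul_eq, mul_assoc, hwfix, inv_mul_cancel_left]
      have hmR : r₀⁻¹ * (S.T * r₀ * S.T⁻¹) ∈ S.R := mul_mem (inv_mem hr₀.1) (hT _ hr₀.1)
      have hmX : r₀⁻¹ * (S.T * r₀ * S.T⁻¹) ∈ Subgroup.zpowers S.X := S.R_inter _ hmR (by
        rw [h1]; exact (S.A_facts (mul_mem hub (inv_mem hTb))).1)
      obtain ⟨e1, e2⟩ := Inv.eq_of S hmX hr₀ (S.inv_of_conj (cz S.t) hr₀ (hT _ hr₀.1))
        (by rw [((S.mem_zX hmX).2.1 r₀ hr₀.1).eq, mul_inv_cancel_left])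
      have hpT : Commute r₀ S.T := (mul_inv_eq_iff_eq_mul.1 e2).symm
      refine ⟨r₀, ⟨hr₀L, Subgroup.mem_centralizer_singleton_iff.2 hpT⟩, u * b,
        S.A_fix_T hub ?_, hw⟩
      have := hpT.inv_left.mul_left hwT
      rwa [hw, inv_mul_cancel_left] at this
    · exfalso
      have hrzb : Commute (u * r₀ * K.z) b := hrb.mul_left hbz.symm
      have hk3 : (u * r₀ * K.z) ^ 3 = 1 := by
        have := h3 w hw1
        rwa [he, ← mul_assoc, hrzb.mul_pow, hb3, mul_one] at this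
      have hsq : (u * r₀ * K.z) * (u * r₀ * K.z) = u * u := by
        calc (u * r₀ * K.z) * (u * r₀ * K.z) = u * r₀ * (K.z * (u * r₀) * K.z) := by group
          _ = u * r₀ * (u * r₀⁻¹) := by rw [conj_z_mul, conj_z_fix huz, hr₀.2]
          _ = u * (r₀ * u) * r₀⁻¹ := by group
          _ = u * u := by rw [← (huR r₀ hr₀.1).eq]; group
      rw [pow_succ, pow_two, hsq] at hk3
      refine S.z_notMem ?_
      rw [show K.z = (u * r₀)⁻¹ * (u * u)⁻¹ by
        rw [← eq_inv_mul_of_mul_eq (show (u * u) * (u * r₀ * K.z) = 1 from hk3) |>.trans (mul_one _)]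
        group]
      have huR' := S.zX_le hu
      exact mul_mem (inv_mem (mul_mem huR' hr₀.1)) (inv_mem (mul_mem huR' huR'))
  refine ⟨?_, hall⟩
  let f : S.Lp × Subgroup.zpowers S.D → Cn A1 S.A :=
    fun p => ⟨(p.1 : G) * p.2, mul_mem (hLp _ p.1.2) (Subgroup.zpowers_le.2 hD p.2.2)⟩
  have hinj : Function.Injective f := by
    rintro ⟨p, d⟩ ⟨p', d'⟩ h
    have h' : (p : G) * d = p' * d' := congrArg Subtype.val h
    have hq : (p' : G)⁻¹ * p = d' * (d : G)⁻¹ := by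
      rw [eq_mul_inv_iff_mul_eq, mul_assoc, h', inv_mul_cancel_left]
    have hqL : (p' : G)⁻¹ * p ∈ S.Lp := mul_mem (inv_mem p'.2) p.2
    have hqz : Commute ((p' : G)⁻¹ * p) K.z := by
      rw [hq]
      have hz : ∀ d : Subgroup.zpowers S.D, Commute (d : G) K.z := fun d =>
        (S.A_facts (Subgroup.zpowers_le.2 S.DA d.2)).1
      exact (hz d').mul_left (hz d).inv_left
    have h1 := (Inv.eq_of S (S.R_inter _ (S.mem_Lt.1 hqL.1).1 hqz)
      ⟨one_mem _, by rw [mul_one, zz, inv_one]⟩ (S.Lp_inv hT hqL) (mul_one _).symm).2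
    rw [h1] at hq
    exact Prod.ext (Subtype.ext (inv_mul_eq_one.1 h1).symm)
      (Subtype.ext (mul_inv_eq_one.1 hq.symm).symm)
  have hsurj : Function.Surjective f := fun ⟨w, hw⟩ => by
    obtain ⟨p, hp, d, hd, rfl⟩ := hall w hw
    exact ⟨(⟨p, hp⟩, ⟨d, hd⟩), rfl⟩
  rw [← Nat.card_congr (Equiv.ofBijective f ⟨hinj, hsurj⟩), Nat.card_prod, (S.card_Lp hT).1,
    Nat.card_zpowers, orderOf_eq_prime S.D3 S.D_ne]

/-- An element conjugating `t` to `z` in the centraliser of `y y'⁻¹`, mapping `z` to `t` or `z t`. -/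
theorem exists_g (hconj : IsConj S.T K.z) : ∃ g : G, Commute g S.D ∧ g * S.T * g⁻¹ = K.z ∧
    (g * K.z * g⁻¹ = S.T ∨ g * K.z * g⁻¹ = K.z * S.T) := by
  obtain ⟨g₁, hg₁⟩ := isConj_iff.1 hconj
  have hd' : Commute (g₁ * S.D * g₁⁻¹) K.z := hg₁ ▸ (Commute.conj_iff g₁).2 S.TD.symm
  have hu : Commute (g₁ * K.z * g₁⁻¹) K.z := by
    have h := (Commute.conj_iff g₁).2 (cz S.t).symm
    rwa [hg₁] at h
  let d' : CZ := ⟨g₁ * S.D * g₁⁻¹, Subgroup.mem_centralizer_singleton_iff.2 hd'⟩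
  let u : CZ := ⟨g₁ * K.z * g₁⁻¹, Subgroup.mem_centralizer_singleton_iff.2 hu⟩
  have hd'o : orderOf d' = 3 := by
    rw [← Subgroup.orderOf_coe]
    show orderOf (MulAut.conj g₁ S.D) = 3
    rw [(MulAut.conj g₁).orderOf_eq, orderOf_eq_prime S.D3 S.D_ne]
  have huo : orderOf u = 2 := by
    rw [← Subgroup.orderOf_coe]
    show orderOf (MulAut.conj g₁ K.z) = 2
    rw [(MulAut.conj g₁).orderOf_eq, K.hz]
  have hune : u ≠ K.cov.z := fun e => by
    have e' : g₁ * K.z * g₁⁻¹ = K.z := (congrArg Subtype.val e).trans K.cov_z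
    exact S.T_ne.2 (mul_left_cancel (mul_right_cancel (hg₁.trans e'.symm)))
  obtain ⟨hu1, hu2, hu3⟩ := K.cov.involution_support huo hune
  have hu8 : (K.cov.φ u).support.card = 8 := by
    have h9 : (K.cov.φ u).support.card ≤ 9 := (Finset.card_le_univ _).trans (by simp)
    omega
  have hud : Commute d' u :=
    coe_comm' ((Commute.conj_iff g₁).2 (cz_D S))
  have hσ : orderOf (K.cov.φ d') = 3 := by
    refine orderOf_eq_prime (by rw [← map_pow, ← hd'o, pow_orderOf_eq_one, map_one]) fun h => ?_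
    rcases (K.cov.ker_iff _).1 h with e | e
    · rw [e, orderOf_one] at hd'o; omega
    · rw [e, K.cov.hz] at hd'o; omega
  have hct := type_of_commute hσ (by rw [← pow_two, ← hu1, pow_orderOf_eq_one]) hu8
    (hud.map K.cov.φ)
  obtain ⟨τ, hτ⟩ := isConj_iff.1 (Perm.isConj_iff_cycleType_eq.2
    (pd_cycleType.1.trans hct.symm) : IsConj pd (K.cov.φ d'))
  obtain ⟨τ', hτ's, hτ'⟩ : ∃ τ' : Perm (Fin 9), Perm.sign τ' = 1 ∧ τ' * pd * τ'⁻¹ = K.cov.φ d' := by
    rcases Int.units_eq_one_or (Perm.sign τ) with h | h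
    · exact ⟨τ, h, hτ⟩
    · refine ⟨τ * swap 1 2, by rw [Perm.sign_mul, h, pw_sign.2.2.2]; rfl, ?_⟩
      rw [← hτ, mul_inv_rev, show τ * swap 1 2 * pd * ((swap 1 2)⁻¹ * τ⁻¹) =
        τ * (swap 1 2 * pd * (swap 1 2)⁻¹) * τ⁻¹ by group, p_comm.2.2.2.2.2.2.1, mul_inv_cancel_right]
  obtain ⟨c, hc⟩ := K.cov.exists_lift hτ's
  have hdo : Odd (orderOf (S.y * S.y'⁻¹)) := by
    rw [← Subgroup.orderOf_coe]
    exact Odd.of_dvd_nat (show Odd 3 by decide) (orderOf_dvd_of_pow_eq_one S.D3)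
  have hcd : (c : G) * S.D * (c : G)⁻¹ = g₁ * S.D * g₁⁻¹ :=
    conj_odd (a := S.y * S.y'⁻¹) (b := d') hdo (by rw [hd'o]; decide)
      (by rw [map_mul, map_inv, S.hy, S.hy', hc]; exact hτ')
  set g₂ := (c : G)⁻¹ * g₁ with hg₂
  have hg₂D : Commute g₂ S.D := by
    have : g₂ * S.D * g₂⁻¹ = S.D := by
      rw [hg₂, show (c : G)⁻¹ * g₁ * S.D * ((c : G)⁻¹ * g₁)⁻¹ =
        (c : G)⁻¹ * (g₁ * S.D * g₁⁻¹) * c by group, ← hcd]
      simp [mul_assoc]
    exact mul_inv_eq_iff_eq_mul.1 this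
  have hg₂T : g₂ * S.T * g₂⁻¹ = K.z := by
    rw [hg₂, show (c : G)⁻¹ * g₁ * S.T * ((c : G)⁻¹ * g₁)⁻¹ =
      (c : G)⁻¹ * (g₁ * S.T * g₁⁻¹) * c by group, hg₁, mul_assoc, ← (cz c).eq, inv_mul_cancel_left]
  have hvz : Commute (g₂ * K.z * g₂⁻¹) K.z := by
    have h := (Commute.conj_iff g₂).2 (cz S.t).symm
    rwa [hg₂T] at h
  let v : CZ := ⟨g₂ * K.z * g₂⁻¹, Subgroup.mem_centralizer_singleton_iff.2 hvz⟩
  have hvD : Commute v (S.y * S.y'⁻¹) := coe_comm' (by
    have := (Commute.conj_iff g₂).2 (cz_D S).symm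
    rwa [show g₂ * S.D * g₂⁻¹ = S.D by rw [hg₂D.eq, mul_inv_cancel_right]] at this)
  have hφv := hvD.map K.cov.φ
  rw [map_mul, map_inv, S.hy, S.hy'] at hφv
  have hv2 : (v : G) * v = 1 := by
    show g₂ * K.z * g₂⁻¹ * (g₂ * K.z * g₂⁻¹) = 1
    rw [show g₂ * K.z * g₂⁻¹ * (g₂ * K.z * g₂⁻¹) = g₂ * (K.z * K.z) * g₂⁻¹ by group, zz]; group
  have hvne : (v : G) ≠ 1 ∧ (v : G) ≠ K.z :=
    ⟨fun e => z_ne (mul_eq_left.1 (mul_inv_eq_one.1 e)),
      fun e => S.T_ne.2 (mul_left_cancel (mul_right_cancel (hg₂T.trans e.symm)))⟩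
  obtain ⟨i, j, l, h | h⟩ := cent_d (K.cov.sign_φ v) hφv.eq
  · exfalso
    obtain ⟨a, ha, hao, haφ⟩ := S.lift_A i j l
    have ha3 := (S.A_facts ha).2.2.2.2.2
    rcases K.cov.eq_or_eq (h.trans haφ.symm) with e | e
    · refine hvne.1 ?_
      have e' : (v : G) = a := congrArg Subtype.val e
      rw [e'] at hv2 ⊢
      exact eq_one_of_sq hv2 1 ha3
    · refine hvne.2 ?_
      have e' : (v : G) = K.z * a := by rw [e, Subgroup.coe_mul, K.cov_z]
      rw [e'] at hv2 ⊢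
      have haz := (S.A_facts ha).1
      rw [haz.mul_mul_mul_comm, zz, one_mul] at hv2
      rw [eq_one_of_sq hv2 1 ha3, mul_one]
  obtain ⟨a, ha, hao, haφ⟩ := S.lift_A i j l
  have hv' : (v : G) = a * S.T ∨ (v : G) = K.z * (a * S.T) := by
    rcases K.cov.eq_or_eq (h.trans (show _ = K.cov.φ (a * S.t) by rw [map_mul, haφ, S.ht])) with e | e
    · left; rw [e]; rfl
    · right; rw [e, Subgroup.coe_mul, K.cov_z]; rfl
  obtain ⟨haz, -, -, -, haD, ha3⟩ := S.A_facts ha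
  have hinv : S.T * (a : G) * S.T⁻¹ = (a : G)⁻¹ := by
    have h2 : ((a : G) * S.T) * (a * S.T) = 1 := by
      rcases hv' with e | e <;> rw [e] at hv2
      · exact hv2
      · have hzc : Commute K.z ((a : G) * S.T) := (haz.mul_left (cz S.t)).symm
        rwa [hzc.symm.mul_mul_mul_comm, zz, one_mul] at hv2
    rw [S.T_inv, eq_inv_iff_mul_eq_one]
    calc S.T * (a : G) * S.T * a = (a : G)⁻¹ * ((a * S.T) * (a * S.T)) * a := by group
      _ = 1 := by rw [h2]; group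
  have hb : (a : G) * (a * S.T) * (a : G)⁻¹ = S.T := by
    calc (a : G) * (a * S.T) * (a : G)⁻¹ = a * a * (S.T * (a : G)⁻¹ * S.T⁻¹) * S.T := by group
      _ = a * a * (S.T * a * S.T⁻¹)⁻¹ * S.T := by group
      _ = (a : G) ^ 3 * S.T := by rw [hinv, inv_inv, pow_succ, pow_two]
      _ = S.T := by rw [ha3, one_mul]
  have haZ : (a : G) * K.z * (a : G)⁻¹ = K.z := by rw [haz.eq, mul_inv_cancel_right]
  refine ⟨(a : G) * g₂, haD.mul_left hg₂D, ?_, ?_⟩
  · rw [show (a : G) * g₂ * S.T * ((a : G) * g₂)⁻¹ = (a : G) * (g₂ * S.T * g₂⁻¹) * (a : G)⁻¹ by group,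
      hg₂T, haZ]
  · have e0 : (a : G) * g₂ * K.z * ((a : G) * g₂)⁻¹ = (a : G) * (v : G) * (a : G)⁻¹ := by
      show _ = (a : G) * (g₂ * K.z * g₂⁻¹) * (a : G)⁻¹
      group
    rw [e0]
    rcases hv' with e | e <;> rw [e]
    · exact Or.inl hb
    · right
      calc (a : G) * (K.z * (a * S.T)) * (a : G)⁻¹
          = ((a : G) * K.z * (a : G)⁻¹) * ((a : G) * (a * S.T) * (a : G)⁻¹) := by group
        _ = K.z * S.T := by rw [haZ, hb]

theorem absurd' (hconj : IsConj S.T K.z) : False := by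
  have hT : ∀ r ∈ S.R, S.T * r * S.T⁻¹ ∈ S.R := fun r hr => S.T_conj_R hr
  obtain ⟨g, hgD, hgT, hgz⟩ := S.exists_g hconj
  have hA : ∀ a, a ∈ S.A ↔ S.Sd K.z a := fun a => S.mem_A_iff
  set A1 := S.A.map (MulAut.conj g⁻¹).toMonoidHom with hA1d
  have hA1 : ∀ a, a ∈ A1 ↔ S.Sd S.T a := fun a => by
    have := S.map_iff hA g⁻¹ (S.D_comm_iff hgD.inv_left) a
    rwa [← hgT, show g⁻¹ * (g * S.T * g⁻¹) * g⁻¹⁻¹ = S.T by group] at this
  have hA13 : ∀ a ∈ A1, a ^ 3 = 1 := by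
    rintro _ ⟨b, hb, rfl⟩
    rw [← map_pow, (S.A_facts hb).2.2.2.2.2, map_one]
  have hA1card : Nat.card A1 = 27 := by
    rw [hA1d, Subgroup.card_map_of_injective (MulAut.conj _).injective, S.card_A]
  set A2 := A1.map (MulAut.conj S.E).toMonoidHom with hA2d
  have hA2 : ∀ a, a ∈ A2 ↔ S.Sd (K.z * S.T) a := fun a => by
    have := S.map_iff hA1 S.E S.E_comm_iff a
    rwa [S.ET] at this
  have hEA : S.A.map (MulAut.conj S.E).toMonoidHom = S.A := S.eq_of_iff (fun a => by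
    have := S.map_iff hA S.E S.E_comm_iff a
    rwa [(cz S.e).eq, mul_inv_cancel_right] at this) hA
  have hEA2 : A2.map (MulAut.conj S.E).toMonoidHom = A1 := S.eq_of_iff (fun a => by
    have := S.map_iff hA2 S.E S.E_comm_iff a
    rwa [show S.E * (K.z * S.T) * S.E⁻¹ = S.T by
      rw [← mul_assoc, (cz S.e).eq, mul_assoc, mul_assoc, ← mul_assoc S.E, S.ET, ← mul_assoc, zz,
        one_mul]] at this) hA1
  have hgA1 : A1.map (MulAut.conj g).toMonoidHom = S.A := S.eq_of_iff (fun a => by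
    have := S.map_iff hA1 g (S.D_comm_iff hgD) a
    rwa [hgT] at this) hA
  obtain ⟨hW, hWdec⟩ := S.card_W hA1 hA13
  have hne : ¬ A1 ≤ Subgroup.centralizer (S.A : Set G) := fun h => by
    have e : Cn A1 S.A = A1 := inf_eq_left.2 h
    rw [e, hA1card] at hW
    omega
  -- where `g` maps `A` and `A2`
  have hgA := S.map_iff hA g (S.D_comm_iff hgD)
  have hgA2 := S.map_iff hA2 g (S.D_comm_iff hgD)
  have hmaps : (S.A.map (MulAut.conj g).toMonoidHom = A1 ∧ A2.map (MulAut.conj g).toMonoidHom = A2) ∨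
      (S.A.map (MulAut.conj g).toMonoidHom = A2 ∧ A2.map (MulAut.conj g).toMonoidHom = A1) := by
    have e : g * (K.z * S.T) * g⁻¹ = (g * K.z * g⁻¹) * (g * S.T * g⁻¹) := by group
    rcases hgz with h | h
    · left
      refine ⟨S.eq_of_iff (fun a => by have := hgA a; rwa [h] at this) hA1,
        S.eq_of_iff (fun a => ?_) hA2⟩
      have := hgA2 a
      rwa [e, h, hgT, (cz S.t).eq] at this
    · right
      refine ⟨S.eq_of_iff (fun a => by have := hgA a; rwa [h] at this) hA2,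
        S.eq_of_iff (fun a => ?_) hA1⟩
      have := hgA2 a
      rwa [e, h, hgT, mul_assoc, (cz S.t).eq, ← mul_assoc, zz, one_mul] at this
  -- the centralisers in `A`
  have hswap : Nat.card (Cn S.A A2) = Nat.card (Cn S.A A1) := by
    have := card_Cn_map S.A A1 S.E
    rwa [hEA] at this
  have h9 : Nat.card (Cn S.A A1) = 9 ∧ Nat.card (Cn S.A A2) = 9 := by
    have := card_Cn_map A1 S.A g
    rw [hgA1, hW] at this
    rcases hmaps with ⟨h, -⟩ | ⟨h, -⟩ <;> rw [h] at this <;> omega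
  have hDD : Cn S.A A1 ≠ Cn S.A A2 := by
    intro heq
    have hsub : Cn S.A A1 ≤ Subgroup.zpowers S.D := by
      intro a ha
      have hEa : S.E * a * S.E⁻¹ ∈ Cn S.A A1 := by
        have h1 : S.E * a * S.E⁻¹ ∈ (Cn S.A A2).map (MulAut.conj S.E).toMonoidHom :=
          ⟨a, heq.le ha, rfl⟩
        rwa [Cn_map, hEA, hEA2] at h1
      obtain ⟨i, j, l, he⟩ := S.mem_A_params ha.1
      have hcom : ∀ b ∈ A1, Commute a b ∧ Commute (S.E * a * S.E⁻¹) b := fun b hb =>
        ⟨(Subgroup.mem_centralizer_iff.1 ha.2 b hb : Commute b a).symm,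
          (Subgroup.mem_centralizer_iff.1 hEa.2 b hb : Commute b _).symm⟩
      have hprod : S.E * a * S.E⁻¹ * a = S.X ^ (2 * i.val) := by
        rw [he, show S.E * (S.X ^ i.val * (S.Y ^ j.val * S.Y' ^ l.val)) * S.E⁻¹ =
          (S.E * S.X * S.E⁻¹) ^ i.val * ((S.E * S.Y * S.E⁻¹) ^ j.val * (S.E * S.Y' * S.E⁻¹) ^ l.val) by
            rw [conj_pow, conj_pow, conj_pow]; group, S.EX, S.EY, S.EY',
          (((S.XY.inv_right.pow_pow i.val j.val).mul_right
            (S.XY'.inv_right.pow_pow i.val l.val)).symm).mul_mul_mul_comm,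
          (S.YY'.inv_right.pow_pow j.val l.val).symm.mul_mul_mul_comm, inv_pow, inv_pow,
          inv_mul_cancel, inv_mul_cancel, one_mul, mul_one, ← pow_add, two_mul]
      have hcentA : ∀ b ∈ A1, Commute b S.Y → Commute b S.Y' → Commute b S.X →
          b ∈ Subgroup.centralizer (S.A : Set G) := fun b _ h1 h2 h3 =>
        Subgroup.mem_centralizer_iff.2 fun c hc => by
          obtain ⟨p, q, r, rfl⟩ := hc
          exact ((h3.pow_right p).mul_right ((h1.pow_right q).mul_right (h2.pow_right r))).eq.symm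
      have hi : i = 0 := by
        by_contra hi
        refine hne fun b hb => ?_
        have hX : Commute b S.X := by
          have h1 : Commute b (S.X ^ (2 * i.val)) := hprod ▸ ((hcom b hb).2.mul_left (hcom b hb).1).symm
          have h2 := h1.pow_right (2 * i.val)
          rwa [← pow_mul, pow_eq_pow_mod _ S.X3, sq_mod_three.1 i hi, pow_one] at h2
        obtain ⟨h1, h2, -⟩ := S.cent_main hX (Or.inr ((hA1 b).1 hb).1)
        exact hcentA b hb h1 h2 hX
      have hjl : (j.val + l.val) % 3 = 0 := by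
        by_contra hjl
        refine hne fun b hb => ?_
        have hY : Commute b S.Y := by
          have h1 : Commute b (S.Y ^ (j.val + l.val)) := by
            have hDl : Commute b (S.D ^ l.val) := ((hA1 b).1 hb).1.pow_right _
            have e : S.Y ^ (j.val + l.val) = a * S.D ^ l.val := by
              rw [he, hi, Fin.val_zero, pow_zero, one_mul, S.YY'.inv_right.mul_pow,
                (S.YY'.symm.pow_pow l.val l.val).mul_mul_mul_comm, ← pow_add, inv_pow,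
                mul_inv_cancel, mul_one]
            rw [e]; exact (hcom b hb).1.symm.mul_right hDl
          have h2 := h1.pow_right (j.val + l.val)
          rwa [← pow_mul, pow_eq_pow_mod _ S.Y3, sq_mod_three.2 j l hjl, pow_one] at h2
        obtain ⟨hX, hY'⟩ := S.cent_YD hY ((hA1 b).1 hb).1
        exact hcentA b hb hY hY' hX
      refine Subgroup.mem_zpowers_iff.2 ⟨(j.val : ℤ), ?_⟩
      have hl : S.Y' ^ l.val = S.Y'⁻¹ ^ j.val := by
        rw [inv_pow, eq_inv_iff_mul_eq_one, ← pow_add, pow_eq_pow_mod _ S.Y'3,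
          show (l.val + j.val) % 3 = 0 by omega, pow_zero]
      rw [he, hi, zpow_natCast, S.YY'.inv_right.mul_pow, Fin.val_zero, pow_zero, one_mul, hl]
    have := Nat.le_of_dvd Nat.card_pos (Subgroup.card_dvd_of_le hsub)
    rw [h9.1, Nat.card_zpowers, orderOf_eq_prime S.D3 S.D_ne] at this
    omega
  have hV : Nat.card (Cn A1 A2) = 9 ∧ Cn A1 A2 ≠ Cn A1 S.A := by
    have h1 := card_Cn_map A1 A2 g
    have h2 : ∀ {P : Subgroup G}, Cn A1 A2 = P →
        (Cn A1 A2).map (MulAut.conj g).toMonoidHom = P.map (MulAut.conj g).toMonoidHom :=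
      fun h => by rw [h]
    rw [hgA1] at h1
    rcases hmaps with ⟨hgA, hgA2⟩ | ⟨hgA, hgA2⟩
    · rw [hgA2, h9.2] at h1
      refine ⟨h1.symm, fun h => hDD ?_⟩
      have := h2 h
      rw [Cn_map, Cn_map, hgA1, hgA, hgA2] at this
      exact this.symm
    · rw [hgA2, h9.1] at h1
      refine ⟨h1.symm, fun h => hDD ?_⟩
      have := h2 h
      rw [Cn_map, Cn_map, hgA1, hgA, hgA2] at this
      exact this
  -- `A2` centralises `C_{A1}(A)`
  obtain ⟨a, haV, haW⟩ : ∃ a ∈ Cn A1 A2, a ∉ Cn A1 S.A := by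
    by_contra! h
    exact hV.2 (Subgroup.eq_of_le_of_card_ge h (by rw [hV.1, hW]))
  refine hV.2 (Subgroup.eq_of_le_of_card_ge (fun w hw => ?_) (by rw [hV.1, hW])).symm
  refine ⟨hw.1, Subgroup.mem_centralizer_iff.2 fun b hb => ?_⟩
  obtain ⟨p, hp, d, hd, rfl⟩ := hWdec w hw
  have hbD : Commute b d := by
    obtain ⟨k, rfl⟩ := Subgroup.mem_zpowers_iff.1 hd
    exact ((hA2 b).1 hb).1.zpow_right k
  refine (Commute.mul_right ?_ hbD).eq
  -- `b` commutes with `p`: all of `A1` commutes with the conjugate of `p`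
  set p' := S.E * p * S.E⁻¹ with hp'
  have hpL' : p' ∈ S.Lt := S.E_norm_Lt hp.1
  have hp'A2 : p' ∈ A2 := by
    refine ⟨p, (hA1 p).2 ?_, rfl⟩
    obtain ⟨hpR, hpY, hpY'⟩ := S.mem_Lt.1 hp.1
    exact ⟨hpY.mul_right hpY'.inv_right, Subgroup.mem_centralizer_singleton_iff.1 hp.2,
      Odd.of_dvd_nat (show Odd 243 by decide) (orderOf_dvd_of_pow_eq_one (S.odd_R hpR))⟩
  have hle : Cn A1 S.A ≤ Subgroup.centralizer ({p'} : Set G) := fun w' hw' => by
    obtain ⟨q, hq, e, he, rfl⟩ := hWdec w' hw'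
    refine Subgroup.mem_centralizer_singleton_iff.2
      ((S.Lt_comm hT q hq.1 p' hpL').mul_left ?_).eq
    exact (S.Lt_cent_A hpL' (Subgroup.zpowers_le.2 S.DA he)).symm
  set U := A1 ⊓ Subgroup.centralizer ({p'} : Set G) with hU
  have hWU : Cn A1 S.A < U := by
    refine lt_of_le_of_ne (le_inf inf_le_left hle) fun e => haW (e.symm ▸ ⟨haV.1, ?_⟩)
    exact Subgroup.mem_centralizer_singleton_iff.2
      (Subgroup.mem_centralizer_iff.1 haV.2 p' hp'A2).symm
  have hU27 : U = A1 := by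
    refine Subgroup.eq_of_le_of_card_ge inf_le_left ?_
    have h1 := Subgroup.card_dvd_of_le (inf_le_left : U ≤ A1)
    have h2 := Subgroup.card_dvd_of_le hWU.le
    have h3 : Nat.card (Cn A1 S.A) < Nat.card U := by
      refine lt_of_le_of_ne (Nat.le_of_dvd Nat.card_pos h2) fun e => hWU.ne
        (Subgroup.eq_of_le_of_card_ge hWU.le e.ge)
    rw [hW] at h2 h3
    rw [hA1card] at h1 ⊢
    have h4 : Nat.card U ≤ 27 := Nat.le_of_dvd (by norm_num) h1
    obtain ⟨k, hk⟩ : 9 ∣ Nat.card U := h2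
    have h5 : Nat.card U ∣ 27 := h1
    change 27 ≤ Nat.card U
    change 9 < Nat.card U at h3
    have hk3 : k ≤ 3 := by omega
    interval_cases k <;> first | omega | (rw [hk] at h5; norm_num at h5)
  -- conjugate by `E`
  have hb' : S.E * b * S.E⁻¹ ∈ A1 := hEA2 ▸ ⟨b, hb, rfl⟩
  rw [← hU27] at hb'
  have h4 : Commute (S.E * b * S.E⁻¹) (S.E * p * S.E⁻¹) := Subgroup.mem_centralizer_singleton_iff.1 hb'.2
  exact (Commute.conj_iff S.E).1 h4

end Dat

/-- A configuration gives standard data. -/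
theorem exists_dat (K : Conf G 9) (h : BigCore K) : Nonempty (Dat K) := by
  obtain ⟨x₀, R, hx₀, hc, hcard, hRC, hCR, hinter, hcov⟩ := h
  obtain ⟨τ, hτ⟩ := isConj_iff.1 (Perm.isConj_iff_cycleType_eq.2
    (hc.cycleType.trans pd_cycleType.2.symm) : IsConj (K.cov.φ x₀) px)
  obtain ⟨τ', hτ's, hτ'⟩ : ∃ τ' : Perm (Fin 9), Perm.sign τ' = 1 ∧ τ' * K.cov.φ x₀ * τ'⁻¹ = px := by
    rcases Int.units_eq_one_or (Perm.sign τ) with h | h
    · exact ⟨τ, h, hτ⟩
    · refine ⟨swap 3 4 * τ, by rw [Perm.sign_mul, h, pw_sign.2.2.1]; rfl, ?_⟩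
      rw [mul_inv_rev, show swap 3 4 * τ * K.cov.φ x₀ * (τ⁻¹ * (swap 3 4)⁻¹) =
        swap 3 4 * (τ * K.cov.φ x₀ * τ⁻¹) * (swap 3 4)⁻¹ by group, hτ]
      decide
  obtain ⟨c, hc'⟩ := K.cov.exists_lift hτ's
  have ho : ∀ {p : Perm (Fin 9)}, p ^ 3 = 1 → p ≠ 1 → orderOf p = 3 := fun h1 h2 =>
    orderOf_eq_prime h1 h2
  obtain ⟨y, hy, hyo⟩ := K.cov.exists_odd_lift p_sign.2.1
    (by rw [ho p_orders.1 p_orders.2.2.2.2.1]; decide)
  obtain ⟨y', hy', hy'o⟩ := K.cov.exists_odd_lift p_sign.2.2.1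
    (by rw [ho p_orders.2.1 p_orders.2.2.2.2.2.1]; decide)
  obtain ⟨t, ht⟩ := K.cov.exists_lift p_sign.2.2.2.1
  obtain ⟨e, he⟩ := K.cov.exists_lift p_sign.2.2.2.2.1
  obtain ⟨h', hh⟩ := K.cov.exists_lift p_sign.2.2.2.2.2
  have hcz : Commute (c : G) K.z := Subgroup.mem_centralizer_singleton_iff.1 c.2
  have hgx : ∀ {g : G}, Commute g ((c : G) * x₀ * (c : G)⁻¹) → Commute ((c : G)⁻¹ * g * c) (x₀ : G) :=
    fun {g} hg => (Commute.conj_iff (c : G)).1 (by
      rwa [show (c : G) * ((c : G)⁻¹ * g * c) * (c : G)⁻¹ = g by group])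
  have hinter' : ∀ r ∈ R, Commute r K.z → r ∈ Subgroup.zpowers (x₀ : G) := fun r hr hz =>
    hinter.le ⟨hr, Subgroup.mem_centralizer_singleton_iff.2 hz⟩
  have hx₀R : (x₀ : G) ∈ R := (hinter.ge (Subgroup.mem_zpowers _)).1
  refine ⟨{
    x := c * x₀ * c⁻¹, y := y, y' := y', t := t, e := e, h := h'
    hx := by rw [map_mul, map_mul, map_inv, hc', hτ']
    hy := hy, hy' := hy', ht := ht, he := he, hh := hh
    ox := by
      show orderOf (MulAut.conj c x₀) = 3
      rw [(MulAut.conj c).orderOf_eq, hx₀]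
    oy := hyo.trans (ho p_orders.1 p_orders.2.2.2.2.1)
    oy' := hy'o.trans (ho p_orders.2.1 p_orders.2.2.2.2.2.1)
    R := R.map (MulAut.conj (c : G)).toMonoidHom
    cardR := by rw [Subgroup.card_map_of_injective (MulAut.conj _).injective, hcard]
    X_mem := ⟨x₀, hx₀R, rfl⟩
    R_comm := by
      rintro _ ⟨r, hr, rfl⟩
      exact (Commute.conj_iff (c : G)).2 (Subgroup.mem_centralizer_singleton_iff.1 (hRC hr))
    R_norm := by
      rintro g hg _ ⟨r, hr, rfl⟩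
      refine ⟨((c : G)⁻¹ * g * c) * r * ((c : G)⁻¹ * g * c)⁻¹, ?_, ?_⟩
      · exact (Subgroup.mem_normalizer_iff.1
          (hCR (Subgroup.mem_centralizer_singleton_iff.2 (hgx hg))) r).1 hr
      · show (c : G) * (((c : G)⁻¹ * g * c) * r * ((c : G)⁻¹ * g * c)⁻¹) * (c : G)⁻¹ =
          g * ((c : G) * r * (c : G)⁻¹) * g⁻¹
        group
    R_inter := by
      rintro _ ⟨r, hr, rfl⟩ hz
      have hz' : Commute r K.z := (Commute.conj_iff (c : G)).1 (by
        rwa [show (c : G) * K.z * (c : G)⁻¹ = K.z by rw [hcz.eq, mul_inv_cancel_right]])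
      obtain ⟨k, rfl⟩ := Subgroup.mem_zpowers_iff.1 (hinter' r hr hz')
      refine Subgroup.mem_zpowers_iff.2 ⟨k, ?_⟩
      show ((c : G) * x₀ * (c : G)⁻¹) ^ k = (c : G) * (x₀ : G) ^ k * (c : G)⁻¹
      exact conj_zpow
    R_cover := by
      intro g hg
      obtain ⟨r, hr, hrz⟩ := hcov _ (hgx hg)
      refine ⟨(c : G) * r * (c : G)⁻¹, ⟨r, hr, rfl⟩, ?_⟩
      have h1 := (Commute.conj_iff (c : G)).2 hrz
      rw [show (c : G) * K.z * (c : G)⁻¹ = K.z by rw [hcz.eq, mul_inv_cancel_right],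
        show (c : G) * (r * ((c : G)⁻¹ * g * c)) * (c : G)⁻¹ = (c : G) * r * (c : G)⁻¹ * g by group] at h1
      exact h1 }⟩

/-- The exceptional configuration is impossible, given the fusion of the involutions of `C(z)`. -/
theorem false_of_bigCore [IsSimpleGroup G] (K : Conf G 9) (h : BigCore K)
    (hconj : ∀ u : Subgroup.centralizer ({K.z} : Set G), orderOf u = 2 → u ≠ K.cov.z →
      IsConj (u : G) K.z) : False := by
  obtain ⟨S⟩ := exists_dat K h
  refine S.absurd' (hconj S.t (orderOf_eq_prime ?_ fun e => S.T_ne.1 ?_) fun e => S.T_ne.2 ?_)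
  · rw [pow_two]; exact Subtype.ext S.T2
  · exact congrArg Subtype.val e
  · exact (congrArg Subtype.val e).trans K.cov_z

end Cfsg.Agent.Lib.DoubleAlt12.Big

namespace Cfsg.Agent.Lib.DoubleAlt12

universe u

/-- The exceptional configuration in degree nine does not occur. -/
theorem bigCore : BigCoreStmt.{u} := fun _ _ _ _ K h =>
  Big.false_of_bigCore K h fun _ hu hne => K.isConj_z (Or.inl rfl) hu hne

end Cfsg.Agent.Lib.DoubleAlt12
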