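import Cfsg.Agent.Lib.DoubleAlt12.BigStab

/-!
# S1645: the exceptional configuration in degree nine, the centraliser of the group of order 27
-/

set_option autoImplicit false
set_option linter.unusedSectionVars false

namespace Cfsg.Agent.Lib.DoubleAlt12.Big

open Equiv

universe u

variable {G : Type u} [Group G] [Finite G]

theorem p_facts : pt.support.card = 8 ∧ pt * pt = 1 ∧ pe * pt = pt * pe ∧
    pt = (swap 1 2 * swap 3 6) * (swap 4 8 * swap 5 7) ∧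
    (∀ i j l : Fin 3, (∀ s, (pt * (px ^ i.val * (py ^ j.val * py' ^ l.val)) : Perm (Fin 9)) s =
      ((px ^ i.val * (py ^ j.val * py' ^ l.val)) * pt : Perm (Fin 9)) s) → i = 0 ∧ j + l = 0) := by
  refine ⟨?_, ?_, ?_, rfl, ?_⟩ <;> decide

theorem isDT_data : IsDT (swap (1 : Fin 9) 2 * swap 3 6) ∧ IsDT (swap (4 : Fin 9) 8 * swap 5 7) ∧
    IsDT pe ∧ IsDT (pe * (swap (4 : Fin 9) 8 * swap 5 7)) :=
  ⟨⟨1, 2, 3, 6, by decide, rfl⟩, ⟨4, 8, 5, 7, by decide, rfl⟩, ⟨4, 5, 7, 8, by decide, rfl⟩,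
    ⟨4, 7, 5, 8, by decide, by decide⟩⟩

theorem px_moves : ∀ s : Fin 9, px s ≠ s → ∃ i : Fin 3,
    (px ^ i.val : Perm (Fin 9)) 0 = s ∧ (px ^ i.val : Perm (Fin 9)) 1 = px s ∧
      (px ^ i.val : Perm (Fin 9)) 2 = px (px s) := by decide

/-- An even permutation commuting with `px` and one of `py'`, `pd` is in the group of order 27. -/
theorem cent_px {σ : Perm (Fin 9)} (hs : Perm.sign σ = 1) (hx : Commute σ px)
    (hc : Commute σ py' ∨ Commute σ pd) :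
    ∃ i j l : Fin 3, σ = px ^ i.val * (py ^ j.val * py' ^ l.val) := by
  have hx' : ∀ s, σ (px s) = px (σ s) := fun s => DFunLike.congr_fun hx.eq s
  obtain ⟨i, e0, e1, e2⟩ := px_moves (σ 0) (by
    rw [← hx']; exact σ.injective.ne (by decide))
  have e1' : (px ^ i.val : Perm (Fin 9)) 1 = σ 1 := e1.trans (hx' 0).symm
  have e2' : (px ^ i.val : Perm (Fin 9)) 2 = σ 2 := by
    rw [e2, ← hx' 0, ← hx' (px 0)]; rfl
  obtain ⟨j, l, h⟩ := fix_low (σ := (px ^ i.val)⁻¹ * σ) (by simp [← e0]) (by simp [← e1'])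
    (by simp [← e2']) (by simp [Perm.sign_mul, p_sign.1, hs]) (by
      rcases hc with hc | hc
      · exact Or.inr (Or.inl (((Commute.pow_left p_comm.2.1 _).inv_left).mul_left hc).eq)
      · exact Or.inr (Or.inr (((Commute.pow_left p_comm.2.2.2.1 _).inv_left).mul_left hc).eq))
  exact ⟨i, j, l, inv_mul_eq_iff_eq_mul.1 h⟩

/-- An element conjugating a subgroup into itself normalises it. -/
theorem mem_normalizer_of_conj {B : Subgroup G} {g : G} (h : ∀ b ∈ B, g * b * g⁻¹ ∈ B) :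
    g ∈ Subgroup.normalizer (B : Set G) := by
  let f : B → B := fun b => ⟨g * b * g⁻¹, h b b.2⟩
  have hf : Function.Injective f := fun a b e => Subtype.ext (mul_left_cancel
    (mul_right_cancel (congrArg Subtype.val e :)))
  refine Subgroup.mem_normalizer_iff.2 fun b => ⟨h b, fun hb => ?_⟩
  obtain ⟨c, hc⟩ := (Finite.injective_iff_surjective.1 hf) ⟨g * b * g⁻¹, hb⟩
  rw [← mul_left_cancel (mul_right_cancel (congrArg Subtype.val hc :))]
  exact c.2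

namespace Dat

variable {K : Conf G 9} (S : Dat K)

set_option quotPrecheck false in
local notation "CZ" => ↥(Subgroup.centralizer (Singleton.singleton K.z : Set G))

theorem conj_odd {g a b : CZ} (ha : Odd (orderOf a)) (hb : Odd (orderOf b))
    (h : K.cov.φ g * K.cov.φ a * (K.cov.φ g)⁻¹ = K.cov.φ b) :
    (g : G) * (a : G) * (g : G)⁻¹ = (b : G) := by
  have : g * a * g⁻¹ = b := K.cov.odd_lift_unique
    (by
      show Odd (orderOf (MulAut.conj g a))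
      rw [(MulAut.conj g).orderOf_eq]
      exact ha) hb (by rw [map_mul, map_mul, map_inv, h])
  rw [← this]; rfl

theorem odd_inv {a : CZ} (ha : Odd (orderOf a)) : Odd (orderOf a⁻¹) := by rwa [orderOf_inv]

theorem TX : S.T * S.X * S.T⁻¹ = S.X⁻¹ :=
  conj_odd (b := S.x⁻¹) S.odd_x (odd_inv S.odd_x) (by rw [map_inv, S.ht, S.hx, p_conj.1])

theorem TY : S.T * S.Y * S.T⁻¹ = S.Y'⁻¹ :=
  conj_odd (b := S.y'⁻¹) S.odd_y (odd_inv S.odd_y') (by rw [map_inv, S.ht, S.hy, S.hy', p_conj.2.1])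

theorem TY' : S.T * S.Y' * S.T⁻¹ = S.Y⁻¹ :=
  conj_odd (b := S.y⁻¹) S.odd_y' (odd_inv S.odd_y)
    (by rw [map_inv, S.ht, S.hy, S.hy', p_conj.2.2.1])

theorem EX : S.E * S.X * S.E⁻¹ = S.X :=
  conj_odd S.odd_x S.odd_x (by rw [S.he, S.hx, p_conj.2.2.2.1])

theorem EY : S.E * S.Y * S.E⁻¹ = S.Y⁻¹ :=
  conj_odd (b := S.y⁻¹) S.odd_y (odd_inv S.odd_y) (by rw [map_inv, S.he, S.hy, p_conj.2.2.2.2.1])

theorem EY' : S.E * S.Y' * S.E⁻¹ = S.Y'⁻¹ :=
  conj_odd (b := S.y'⁻¹) S.odd_y' (odd_inv S.odd_y')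
    (by rw [map_inv, S.he, S.hy', p_conj.2.2.2.2.2.1])

theorem HX : S.H * S.X * S.H⁻¹ = S.Y :=
  conj_odd S.odd_x S.odd_y (by rw [S.hh, S.hx, S.hy, p_conj.2.2.2.2.2.2.1])

theorem HY : S.H * S.Y * S.H⁻¹ = S.X :=
  conj_odd S.odd_y S.odd_x (by rw [S.hh, S.hx, S.hy, p_conj.2.2.2.2.2.2.2.1])

theorem HY' : S.H * S.Y' * S.H⁻¹ = S.Y'⁻¹ :=
  conj_odd (b := S.y'⁻¹) S.odd_y' (odd_inv S.odd_y')
    (by rw [map_inv, S.hh, S.hy', p_conj.2.2.2.2.2.2.2.2])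

theorem TD : Commute S.T S.D := by
  rw [commute_iff_eq, ← mul_inv_eq_iff_eq_mul]
  calc S.T * (S.Y * S.Y'⁻¹) * S.T⁻¹
      = (S.T * S.Y * S.T⁻¹) * (S.T * S.Y' * S.T⁻¹)⁻¹ := by group
    _ = S.Y'⁻¹ * S.Y := by rw [S.TY, S.TY', inv_inv]
    _ = S.Y * S.Y'⁻¹ := S.YY'.inv_right.eq.symm

theorem ED : S.E * S.D * S.E⁻¹ = S.D⁻¹ := by
  calc S.E * (S.Y * S.Y'⁻¹) * S.E⁻¹
      = (S.E * S.Y * S.E⁻¹) * (S.E * S.Y' * S.E⁻¹)⁻¹ := by group
    _ = S.Y⁻¹ * S.Y' := by rw [S.EY, S.EY', inv_inv]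
    _ = (S.Y * S.Y'⁻¹)⁻¹ := by rw [mul_inv_rev, inv_inv, S.YY'.inv_left.eq]

theorem D_ne : S.D ≠ 1 := by
  intro h
  have h1 : S.y = S.y' := Subtype.ext (mul_inv_eq_one.1 h)
  have h2 : py = py' := by rw [← S.hy, h1, S.hy']
  revert h2; decide

theorem D3 : S.D ^ 3 = 1 := by rw [S.YY'.inv_right.mul_pow, inv_pow, S.Y3, S.Y'3, inv_one, mul_one]

theorem T2 : S.T * S.T = 1 := by
  obtain ⟨j, hj, h⟩ := K.cov.sq_of_involutive 8 S.t (by rw [S.ht]; exact p_facts.1)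
    (by rw [S.ht]; exact p_facts.2.1)
  obtain rfl : j = 2 := by omega
  rw [pow_two, K.cov.z_mul_self] at h
  exact congrArg Subtype.val h

theorem T_inv : S.T⁻¹ = S.T := inv_eq_of_mul_eq_one_right S.T2

theorem ET : S.E * S.T * S.E⁻¹ = K.z * S.T := by
  obtain ⟨g, hg⟩ := K.cov.exists_lift (a := swap (1 : Fin 9) 2 * swap 3 6)
    (by simp [Perm.sign_mul])
  obtain ⟨k, hk⟩ := K.cov.exists_lift (a := swap (4 : Fin 9) 8 * swap 5 7)
    (by simp [Perm.sign_mul])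
  have hgk : K.cov.φ S.t = K.cov.φ (g * k) := by rw [map_mul, hg, hk, S.ht]
  have h1 : Commute S.e g := K.cov.commute_of_disjoint (by
    rw [S.he, hg]; intro s; revert s; decide)
  have h2 : S.e * k = K.cov.z * (k * S.e) := K.cov.anti (S.he ▸ isDT_data.2.2.1)
    (hk ▸ isDT_data.2.1) (by rw [S.he, hk]; exact isDT_data.2.2.2)
  have h3 : S.e * (g * k) = K.cov.z * ((g * k) * S.e) := by
    rw [← mul_assoc, h1.eq, mul_assoc, h2, ← mul_assoc, K.cov.central g, mul_assoc, ← mul_assoc g]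
  have h4 : S.e * S.t = K.cov.z * (S.t * S.e) := by
    rcases K.cov.eq_or_eq hgk with e | e <;> rw [e]
    · exact h3
    · rw [← mul_assoc, K.cov.central S.e, mul_assoc, h3, mul_assoc K.cov.z (g * k)]
  have h5 := congrArg (Subtype.val : CZ → G) h4
  simp only [Subgroup.coe_mul, K.cov_z] at h5
  rw [h5, mul_assoc, mul_assoc, mul_inv_cancel, mul_one]

theorem E2 : S.E * S.E = K.z := by
  have := congrArg (Subtype.val : CZ → G) (K.cov.sq_dt S.e (S.he ▸ isDT_data.2.2.1))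
  rwa [Subgroup.coe_mul, K.cov_z] at this

theorem T_ne : S.T ≠ 1 ∧ S.T ≠ K.z := by
  constructor <;> intro h
  · have : S.t = 1 := Subtype.ext h
    have h2 := S.ht; rw [this, map_one] at h2
    revert h2; decide
  · have : S.t = K.cov.z := Subtype.ext (h.trans K.cov_z.symm)
    have h2 := S.ht; rw [this, K.cov.φ_z] at h2
    revert h2; decide

/-- `C_R(⟨x, y, y'⟩)`. -/
def Lt : Subgroup G := S.R ⊓ Subgroup.centralizer ({S.Y, S.Y'} : Set G)

theorem mem_Lt {r : G} : r ∈ S.Lt ↔ r ∈ S.R ∧ Commute r S.Y ∧ Commute r S.Y' := by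
  rw [Lt, Subgroup.mem_inf, Subgroup.mem_centralizer_iff]
  refine and_congr_right fun _ => ⟨fun h => ⟨(h _ (by simp)).symm, (h _ (by simp)).symm⟩, ?_⟩
  rintro ⟨h1, h2⟩ g (rfl | rfl)
  exacts [h1.symm, h2.symm]

theorem zX_le_Lt : Subgroup.zpowers S.X ≤ S.Lt := fun u hu =>
  S.mem_Lt.2 ⟨S.zX_le hu, ((S.mem_zX hu).2.2.2 _ S.XY.symm).symm,
    ((S.mem_zX hu).2.2.2 _ S.XY'.symm).symm⟩

theorem comm_R_Lt {r : G} (hr : r ∈ S.R) (h : Commute S.Y r ∨ Commute S.Y' r ∨ Commute S.D r) :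
    r ∈ S.Lt := by
  obtain ⟨u, hu, r₀, hr₀, rfl⟩ := S.inv_facts.2 r hr
  rw [S.comm_iff S.XY.symm hu, S.comm_iff S.XY'.symm hu, S.comm_iff S.XD.symm hu] at h
  refine mul_mem (S.zX_le_Lt hu) ?_
  by_cases h1 : r₀ = 1
  · rw [h1]; exact one_mem _
  obtain ⟨h2, h3⟩ := S.stab_three hr₀ h1 h
  exact S.mem_Lt.2 ⟨hr₀.1, h2.symm, h3.symm⟩

/-- Growing a subgroup of `R` normalised by an element of order three. -/
theorem norm_step (B : Subgroup G) (hB : B ≤ S.R) (hBne : B ≠ S.R) (hXB : Subgroup.zpowers S.X ≤ B)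
    {g : G} (hgX : Commute g S.X) (hgz : Commute g K.z) (hg : g ∉ Subgroup.zpowers S.X)
    (hg3 : g ^ 3 = 1) (hgB : ∀ b ∈ B, g * b * g⁻¹ ∈ B) :
    ∃ v ∈ S.R, v ∉ B ∧ g * v * g⁻¹ * v⁻¹ ∈ B := by
  classical
  have := Fact.mk Nat.prime_three
  have hRg : Subgroup.zpowers g ≤ Subgroup.normalizer (S.R : Set G) := Subgroup.zpowers_le.2
    (mem_normalizer_of_conj (fun r hr => S.R_norm g hgX r hr))
  have hBg : Subgroup.zpowers g ≤ Subgroup.normalizer (B : Set G) :=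
    Subgroup.zpowers_le.2 (mem_normalizer_of_conj hgB)
  have hPg : IsPGroup 3 (Subgroup.zpowers g) := by
    rintro ⟨a, ha⟩
    obtain ⟨i, rfl⟩ := Subgroup.mem_zpowers_iff.1 ha
    refine ⟨1, Subtype.ext ?_⟩
    show (g ^ i) ^ 3 ^ 1 = 1
    rw [pow_one, ← zpow_natCast, ← zpow_mul, mul_comm, zpow_mul, zpow_natCast, hg3, one_zpow]
  have hPR : IsPGroup 3 S.R := IsPGroup.of_card (n := 5) (by rw [S.cardR]; norm_num)
  set P := S.R ⊔ Subgroup.zpowers g with hP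
  set Q := B ⊔ Subgroup.zpowers g with hQ
  have hPp : IsPGroup 3 P := hPR.to_sup_of_normal_left' hPg hRg
  have hgg : ∀ i : ℤ, g ^ i ∈ S.R → g ^ i ∈ B := fun i hi =>
    hXB (S.R_inter _ hi (hgz.zpow_left i))
  have hQR : ∀ q ∈ Q, q ∈ S.R → q ∈ B := by
    intro q hq hqR
    rw [hQ, ← SetLike.mem_coe, Subgroup.coe_mul_of_right_le_normalizer_left B _ hBg] at hq
    obtain ⟨b, hb, _, hi, rfl⟩ := Set.mem_mul.1 hq
    obtain ⟨i, rfl⟩ := Subgroup.mem_zpowers_iff.1 hi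
    exact mul_mem hb (hgg i ((Subgroup.mul_mem_cancel_left _ (hB hb)).1 hqR))
  have hlt : Q.subgroupOf P < ⊤ := by
    refine lt_top_iff_ne_top.2 fun h => hBne (le_antisymm hB fun r hr => hQR r ?_ hr)
    exact Subgroup.subgroupOf_eq_top.1 h (Subgroup.mem_sup_left hr)
  have : Group.IsNilpotent P := hPp.isNilpotent
  obtain ⟨⟨n, hnP⟩, hn, hnQ⟩ := SetLike.exists_of_lt
    (Group.normalizerCondition_of_isNilpotent (Q.subgroupOf P) hlt)
  have hn' := hnP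
  rw [hP, ← SetLike.mem_coe, Subgroup.coe_mul_of_right_le_normalizer_left S.R _ hRg] at hn'
  obtain ⟨v, hv, k, hk, rfl⟩ := Set.mem_mul.1 hn'
  have hkg : k * g * k⁻¹ = g := by
    obtain ⟨i, rfl⟩ := Subgroup.mem_zpowers_iff.1 hk
    rw [((Commute.refl g).zpow_left i).eq, mul_inv_cancel_right]
  have hgP : g ∈ P := Subgroup.mem_sup_right (Subgroup.mem_zpowers g)
  have hc := ((Subgroup.mem_normalizer_iff.1 hn) ⟨g, hgP⟩).1
    (Subgroup.mem_subgroupOf.2 (Subgroup.mem_sup_right (Subgroup.mem_zpowers g)))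
  rw [Subgroup.mem_subgroupOf] at hc
  have hc' : v * g * v⁻¹ ∈ Q := by
    have : v * k * g * (v * k)⁻¹ = v * g * v⁻¹ := by
      rw [mul_inv_rev, ← mul_assoc, mul_assoc v k g, mul_assoc v (k * g), hkg]
    rw [← this]; exact hc
  refine ⟨v, hv, fun hvB => hnQ (Subgroup.mem_subgroupOf.2
    (mul_mem (Subgroup.mem_sup_left hvB) (Subgroup.mem_sup_right hk))), ?_⟩
  have h1 : g * v * g⁻¹ * v⁻¹ ∈ Q := by
    rw [mul_assoc, mul_assoc, ← mul_assoc v g⁻¹]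
    refine mul_mem (Subgroup.mem_sup_right (Subgroup.mem_zpowers g)) ?_
    rw [show v * g⁻¹ * v⁻¹ = (v * g * v⁻¹)⁻¹ by group]
    exact inv_mem hc'
  exact hQR _ h1 (mul_mem (S.R_norm g hgX v hv) (inv_mem hv))

theorem notMem_zX {g : CZ} {a : Perm (Fin 9)} (hg : K.cov.φ g = a)
    (ha : ∀ i : Fin 3, a ≠ px ^ i.val) : (g : G) ∉ Subgroup.zpowers S.X := by
  classical
  intro h
  have h' : g ∈ Subgroup.zpowers S.x := by
    obtain ⟨i, hi⟩ := Subgroup.mem_zpowers_iff.1 h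
    exact Subgroup.mem_zpowers_iff.2 ⟨i, Subtype.ext hi⟩
  obtain ⟨i, hi, e⟩ := (isOfFinOrder_of_finite S.x).mem_zpowers_iff_mem_range_orderOf.1 h' |>
    Finset.mem_image.1
  rw [S.ox] at hi
  refine ha ⟨i, Finset.mem_range.1 hi⟩ ?_
  rw [← hg, ← e, map_pow, S.hx]

end Dat

end Cfsg.Agent.Lib.DoubleAlt12.Big
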