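import Cfsg.Agent.Lib.DoubleAlt12.BigLocal

/-!
# S1645: the exceptional configuration in degree nine, the abelian group of order 27 in `R`
-/

set_option autoImplicit false
set_option linter.unusedSectionVars false

namespace Cfsg.Agent.Lib.DoubleAlt12.Big

open Equiv

universe u

variable {G : Type u} [Group G] [Finite G]

namespace Dat

variable {K : Conf G 9} (S : Dat K)

set_option quotPrecheck false in
local notation "CZ" => ↥(Subgroup.centralizer (Singleton.singleton K.z : Set G))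

theorem px_ne_pow : (∀ i : Fin 3, py ≠ px ^ i.val) ∧ (∀ i : Fin 3, pd ≠ px ^ i.val) := by decide

/-- Conjugation by an element normalising `⟨x⟩` maps `R` to itself. -/
theorem T_norm {r : G} (hr : r ∈ S.R) (hT : ∀ r ∈ S.R, S.T * r * S.T⁻¹ ∈ S.R) :
    S.T * r * S.T ∈ S.R := by
  have := hT r hr; rwa [S.T_inv] at this

theorem inv_of_conj {g r : G} (hgz : Commute g K.z) (hr : S.Inv r) (hm : g * r * g⁻¹ ∈ S.R) :
    S.Inv (g * r * g⁻¹) := by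
  refine ⟨hm, ?_⟩
  rw [conj_z_mul, conj_z_mul, conj_z_inv, conj_z_fix hgz, hr.2]
  group

theorem E_norm_Lt {r : G} (hr : r ∈ S.Lt) : S.E * r * S.E⁻¹ ∈ S.Lt := by
  obtain ⟨h1, h2, h3⟩ := S.mem_Lt.1 hr
  have hEX : Commute S.E S.X := mul_inv_eq_iff_eq_mul.1 S.EX
  refine S.mem_Lt.2 ⟨S.R_norm _ hEX r h1, ?_, ?_⟩
  · have := (Commute.conj_iff S.E).2 h2.inv_right
    rwa [show S.E * S.Y⁻¹ * S.E⁻¹ = (S.E * S.Y * S.E⁻¹)⁻¹ by group, S.EY, inv_inv] at this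
  · have := (Commute.conj_iff S.E).2 h3.inv_right
    rwa [show S.E * S.Y'⁻¹ * S.E⁻¹ = (S.E * S.Y' * S.E⁻¹)⁻¹ by group, S.EY', inv_inv] at this

theorem T_norm_Lt (hT : ∀ r ∈ S.R, S.T * r * S.T⁻¹ ∈ S.R) {r : G} (hr : r ∈ S.Lt) :
    S.T * r * S.T⁻¹ ∈ S.Lt := by
  obtain ⟨h1, h2, h3⟩ := S.mem_Lt.1 hr
  refine S.mem_Lt.2 ⟨hT r h1, ?_, ?_⟩
  · have := (Commute.conj_iff S.T).2 h3.inv_right
    rwa [show S.T * S.Y'⁻¹ * S.T⁻¹ = (S.T * S.Y' * S.T⁻¹)⁻¹ by group, S.TY', inv_inv] at this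
  · have := (Commute.conj_iff S.T).2 h2.inv_right
    rwa [show S.T * S.Y⁻¹ * S.T⁻¹ = (S.T * S.Y * S.T⁻¹)⁻¹ by group, S.TY, inv_inv] at this

theorem Y_moves : ∃ v ∈ S.R, v ∉ S.Lt ∧ S.Y * v * S.Y⁻¹ * v⁻¹ ∈ S.Lt := by
  refine S.norm_step S.Lt inf_le_left (fun h => ?_) S.zX_le_Lt S.XY.symm (cz S.y)
    (S.notMem_zX S.hy px_ne_pow.1) S.Y3 (fun b hb => ?_)
  · have h1 := S.low_faithful S.y_low (fun r hr => ((S.mem_Lt.1 (h.ge hr)).2.1).symm)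
    rw [S.hy] at h1
    exact p_orders.2.2.2.2.1 h1
  · rw [← (S.mem_Lt.1 hb).2.1.eq, mul_inv_cancel_right]; exact hb

theorem Lt_ne_zX : Subgroup.zpowers S.X ≠ S.Lt := by
  intro h
  have hne : Subgroup.zpowers S.X ≠ S.R := by
    intro h2
    have := S.card_zX
    rw [h2, S.cardR] at this
    omega
  obtain ⟨v, hv, hvn, hc⟩ := S.norm_step _ S.zX_le hne le_rfl S.XY.symm (cz S.y)
    (S.notMem_zX S.hy px_ne_pow.1) S.Y3 (fun b hb => by
      rw [(S.mem_zX hb).2.2.2 _ S.XY.symm |>.eq, mul_inv_cancel_right]; exact hb)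
  obtain ⟨u, hu, v₀, hv₀, rfl⟩ := S.inv_facts.2 v hv
  have hYu := (S.mem_zX hu).2.2.2 _ S.XY.symm
  have h1 : Commute S.Y v₀ := by
    refine Inv.comm_of S (cz S.y) S.XY.symm hv₀ ?_
    have e : S.Y * (u * v₀) * S.Y⁻¹ * (u * v₀)⁻¹ = u * (S.Y * v₀ * S.Y⁻¹ * v₀⁻¹) * u⁻¹ := by
      rw [← mul_assoc, hYu.eq]; group
    rw [e] at hc
    have := mul_mem (mul_mem (inv_mem hu) hc) hu
    simpa [mul_assoc] using this
  exact hvn (h ▸ mul_mem (S.zX_le_Lt hu) (S.comm_R_Lt hv₀.1 (Or.inl h1)))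

/-- The fixed points of `t` in `C_R(A)`. -/
def Lp : Subgroup G := S.Lt ⊓ Subgroup.centralizer ({S.T} : Set G)

/-- The fixed points of `z t` in `C_R(A)`. -/
def Lm : Subgroup G := S.Lt ⊓ Subgroup.centralizer ({K.z * S.T} : Set G)

theorem T_zX {u : G} (hu : u ∈ Subgroup.zpowers S.X) : S.T * u * S.T⁻¹ = u⁻¹ := by
  obtain ⟨i, rfl⟩ := Subgroup.mem_zpowers_iff.1 hu
  rw [← conj_zpow, S.TX, inv_zpow]

theorem Lp_inv (hT : ∀ r ∈ S.R, S.T * r * S.T⁻¹ ∈ S.R) {r : G} (hr : r ∈ S.Lp) : S.Inv r := by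
  have hrR := (S.mem_Lt.1 hr.1).1
  obtain ⟨u, hu, r₀, hr₀, rfl⟩ := S.inv_facts.2 r hrR
  have hc : Commute (u * r₀) S.T := Subgroup.mem_centralizer_singleton_iff.1 hr.2
  have h1 : S.T * (u * r₀) * S.T⁻¹ = u * r₀ := by rw [← hc.eq, mul_inv_cancel_right]
  have h2 : S.T * r₀ * S.T⁻¹ = u * u * r₀ := by
    rw [show S.T * (u * r₀) * S.T⁻¹ = (S.T * u * S.T⁻¹) * (S.T * r₀ * S.T⁻¹) by group, S.T_zX hu,
      inv_mul_eq_iff_eq_mul, ← mul_assoc] at h1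
    exact h1
  obtain ⟨e, -⟩ := Inv.eq_of S (mul_mem hu hu) hr₀ (S.inv_of_conj (cz S.t) hr₀ (hT _ hr₀.1)) h2
  rw [eq_one_of_sq e 1 (S.mem_zX hu).2.2.1, one_mul]
  exact hr₀

theorem Lm_inv (hT : ∀ r ∈ S.R, S.T * r * S.T⁻¹ ∈ S.R) {r : G} (hr : r ∈ S.Lm) : S.Inv r := by
  have hrR := (S.mem_Lt.1 hr.1).1
  obtain ⟨u, hu, r₀, hr₀, rfl⟩ := S.inv_facts.2 r hrR
  have hc : Commute (u * r₀) (K.z * S.T) := Subgroup.mem_centralizer_singleton_iff.1 hr.2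
  have h0 : (K.z * S.T) * (u * r₀) * (K.z * S.T)⁻¹ = u * r₀ := by
    rw [← hc.eq, mul_inv_cancel_right]
  have hTr := S.inv_of_conj (cz S.t) hr₀ (hT _ hr₀.1)
  have h1 : u⁻¹ * (S.T * r₀ * S.T⁻¹)⁻¹ = u * r₀ := by
    rw [← hTr.2, ← S.T_zX hu]
    conv_lhs => rw [← conj_z_fix (u := S.T * u * S.T⁻¹) (by
      rw [S.T_zX hu]; exact (S.mem_zX hu).1.inv_left), ← conj_z_mul]
    conv_rhs => rw [← h0, mul_inv_rev, inv_eq_of_mul_eq_one_right (zz (K := K))]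
    group
  rw [inv_mul_eq_iff_eq_mul, ← mul_assoc] at h1
  obtain ⟨e, -⟩ := Inv.eq_of S (mul_mem hu hu) hr₀
    ⟨inv_mem hTr.1, by rw [conj_z_inv, hTr.2]⟩ h1
  rw [eq_one_of_sq e 1 (S.mem_zX hu).2.2.1, one_mul]
  exact hr₀

theorem card_Lt_eq (hT : ∀ r ∈ S.R, S.T * r * S.T⁻¹ ∈ S.R) :
    Nat.card S.Lt = 3 * (Nat.card S.Lp * Nat.card S.Lp) := by
  have hmp : Nat.card S.Lm = Nat.card S.Lp := by
    have e : S.Lp.map (MulAut.conj S.E).toMonoidHom ≤ S.Lm := by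
      rintro _ ⟨r, hr, rfl⟩
      refine ⟨S.E_norm_Lt hr.1, Subgroup.mem_centralizer_singleton_iff.2 ?_⟩
      have h := (Commute.conj_iff S.E).2 (Subgroup.mem_centralizer_singleton_iff.1 hr.2 : Commute r S.T)
      rw [S.ET] at h
      exact h
    have e' : S.Lm.map (MulAut.conj S.E).toMonoidHom ≤ S.Lp := by
      rintro _ ⟨r, hr, rfl⟩
      refine ⟨S.E_norm_Lt hr.1, Subgroup.mem_centralizer_singleton_iff.2 ?_⟩
      have h := (Commute.conj_iff S.E).2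
        (Subgroup.mem_centralizer_singleton_iff.1 hr.2 : Commute r (K.z * S.T))
      rw [show S.E * (K.z * S.T) * S.E⁻¹ = S.T by
        rw [← mul_assoc, (cz S.e).eq, mul_assoc, mul_assoc, ← mul_assoc S.E, S.ET, ← mul_assoc, zz,
          one_mul]] at h
      exact h
    have h1 := Nat.le_of_dvd Nat.card_pos (Subgroup.card_dvd_of_le e)
    have h2 := Nat.le_of_dvd Nat.card_pos (Subgroup.card_dvd_of_le e')
    rw [Subgroup.card_map_of_injective (MulAut.conj S.E).injective] at h1 h2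
    omega
  let f : Subgroup.zpowers S.X × S.Lp × S.Lm → S.Lt := fun p =>
    ⟨(p.1 : G) * ((p.2.1 : G) * p.2.2), mul_mem (S.zX_le_Lt p.1.2) (mul_mem p.2.1.2.1 p.2.2.2.1)⟩
  have hinj : Function.Injective f := by
    rintro ⟨u, a, b⟩ ⟨u', a', b'⟩ h
    have h' : (u : G) * (a * b) = u' * (a' * b') := congrArg Subtype.val h
    have hq : (u' : G)⁻¹ * (u : G) ∈ Subgroup.zpowers S.X := mul_mem (inv_mem u'.2) u.2
    set q : G := (u' : G)⁻¹ * (u : G) with hqd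
    have h1 : q * ((a : G) * b) = a' * b' := by rw [hqd, mul_assoc, h', inv_mul_cancel_left]
    have hα : ((a' : G)⁻¹ * a) ∈ S.Lp := mul_mem (inv_mem a'.2) a.2
    have hβ : ((b' : G) * (b : G)⁻¹) ∈ S.Lm := mul_mem b'.2 (inv_mem b.2)
    have h2 : (b' : G) * (b : G)⁻¹ = q * ((a' : G)⁻¹ * a) := by
      rw [← mul_assoc, (S.mem_zX hq).2.1 _ (inv_mem (S.mem_Lt.1 a'.2.1).1) |>.eq, mul_assoc]
      calc (b' : G) * (b : G)⁻¹ = (a' : G)⁻¹ * (a' * b') * (b : G)⁻¹ := by group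
        _ = (a' : G)⁻¹ * (q * (a * b)) * (b : G)⁻¹ := by rw [h1]
        _ = (a' : G)⁻¹ * (q * a) := by group
    obtain ⟨hq1, hαβ⟩ := Inv.eq_of S hq (S.Lp_inv hT hα) (S.Lm_inv hT hβ) h2
    have hc1 : Commute ((a' : G)⁻¹ * a) S.T := Subgroup.mem_centralizer_singleton_iff.1 hα.2
    have hc2 : Commute ((a' : G)⁻¹ * a) (K.z * S.T) :=
      hαβ ▸ Subgroup.mem_centralizer_singleton_iff.1 hβ.2
    have hc3 : Commute ((a' : G)⁻¹ * a) K.z := by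
      have := hc2.mul_right hc1.inv_right
      rwa [mul_inv_cancel_right] at this
    have h3 : (a' : G)⁻¹ * a = 1 := (Inv.eq_of S
      (S.R_inter _ (S.mem_Lt.1 hα.1).1 hc3) ⟨one_mem _, by rw [mul_one, zz, inv_one]⟩
      (S.Lp_inv hT hα) (mul_one _).symm).2
    rw [h3, hq1, one_mul] at h2
    rw [mul_inv_eq_one] at h2
    rw [inv_mul_eq_one] at h3
    rw [hqd, inv_mul_eq_one] at hq1
    exact Prod.ext (Subtype.ext hq1.symm) (Prod.ext (Subtype.ext h3.symm) (Subtype.ext h2.symm))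
  have hsurj : Function.Surjective f := by
    rintro ⟨r, hr⟩
    have hr243 : r ^ 243 = 1 := S.odd_R (S.mem_Lt.1 hr).1
    obtain ⟨s, hs, hrs⟩ : ∃ s ∈ S.Lt, r = s * s := ⟨r ^ 122, pow_mem hr 122, by
      rw [← pow_add, show 122 + 122 = 243 + 1 from rfl, pow_succ, hr243, one_mul]⟩
    subst hrs
    obtain ⟨u, hu, s₀, hs₀, rfl⟩ := S.inv_facts.2 s (S.mem_Lt.1 hs).1
    have hs₀L : s₀ ∈ S.Lt := by
      have := mul_mem (inv_mem (S.zX_le_Lt hu)) hs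
      rwa [inv_mul_cancel_left] at this
    have hs'' : S.Inv (S.T * s₀ * S.T⁻¹) := S.inv_of_conj (cz S.t) hs₀ (hT _ hs₀.1)
    have hs'L : S.T * s₀ * S.T⁻¹ ∈ S.Lt := S.T_norm_Lt hT hs₀L
    set s' := S.T * s₀ * S.T⁻¹ with hs'd
    have hTs' : S.T * s' * S.T⁻¹ = s₀ := by
      rw [hs'd, S.T_inv, show S.T * (S.T * s₀ * S.T) * S.T = (S.T * S.T) * s₀ * (S.T * S.T) by group,
        S.T2, one_mul, mul_one]
    obtain ⟨q, hq, a₀, ha₀, hA⟩ := S.inv_facts.2 (s₀ * s') (mul_mem hs₀.1 hs''.1)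
    obtain ⟨q', hq', b₀, hb₀, hB⟩ := S.inv_facts.2 (s₀ * s'⁻¹) (mul_mem hs₀.1 (inv_mem hs''.1))
    have hLq : ∀ {m q c : G}, q ∈ Subgroup.zpowers S.X → m ∈ S.Lt → m = q * c → c ∈ S.Lt :=
      fun {m q c} hq hm e => by
        have := mul_mem (inv_mem (S.zX_le_Lt hq)) hm
        rwa [e, inv_mul_cancel_left] at this
    have ha : a₀ ∈ S.Lp := by
      refine ⟨hLq hq (mul_mem hs₀L hs'L) hA, Subgroup.mem_centralizer_singleton_iff.2 ?_⟩
      obtain ⟨w, hw, hw'⟩ := S.commutator_zX hs''.1 hs₀.1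
      have h1 : S.T * (q * a₀) * S.T⁻¹ = w * (q * a₀) := by
        rw [← hA, show S.T * (s₀ * s') * S.T⁻¹ = (S.T * s₀ * S.T⁻¹) * (S.T * s' * S.T⁻¹) by group,
          hTs', hw']
      have h2 : S.T * a₀ * S.T⁻¹ = q * w * q * a₀ := by
        rw [show S.T * (q * a₀) * S.T⁻¹ = (S.T * q * S.T⁻¹) * (S.T * a₀ * S.T⁻¹) by group,
          S.T_zX hq, inv_mul_eq_iff_eq_mul] at h1
        rw [h1]; group
      have e := (Inv.eq_of S (mul_mem (mul_mem hq hw) hq) ha₀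
        (S.inv_of_conj (cz S.t) ha₀ (hT _ ha₀.1)) h2).2
      exact (mul_inv_eq_iff_eq_mul.1 e).symm
    have hb : b₀ ∈ S.Lm := by
      refine ⟨hLq hq' (mul_mem hs₀L (inv_mem hs'L)) hB, Subgroup.mem_centralizer_singleton_iff.2 ?_⟩
      have h1 : S.T * (q' * b₀) * S.T⁻¹ = (q' * b₀)⁻¹ := by
        rw [← hB, show S.T * (s₀ * s'⁻¹) * S.T⁻¹ = (S.T * s₀ * S.T⁻¹) * (S.T * s' * S.T⁻¹)⁻¹ by
          group, hTs', mul_inv_rev, inv_inv]
      have hqb := (S.mem_zX hq').2.1 b₀ hb₀.1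
      have h2 : S.T * b₀ * S.T⁻¹ = b₀⁻¹ := by
        rw [show S.T * (q' * b₀) * S.T⁻¹ = (S.T * q' * S.T⁻¹) * (S.T * b₀ * S.T⁻¹) by group,
          S.T_zX hq', hqb.eq, mul_inv_rev] at h1
        exact mul_left_cancel h1
      show b₀ * (K.z * S.T) = (K.z * S.T) * b₀
      have h3 : (K.z * S.T) * b₀ * (K.z * S.T)⁻¹ = b₀ := by
        rw [mul_inv_rev, inv_eq_of_mul_eq_one_right (zz (K := K)),
          show K.z * S.T * b₀ * (S.T⁻¹ * K.z) = K.z * (S.T * b₀ * S.T⁻¹) * K.z by group, h2,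
          conj_z_inv, hb₀.2, inv_inv]
      exact (mul_inv_eq_iff_eq_mul.1 h3).symm
    obtain ⟨w, hw, hw'⟩ := S.commutator_zX hs''.1 hs₀.1
    obtain ⟨huz, huR, -, -⟩ := S.mem_zX hu
    obtain ⟨hwz, hwR, -, -⟩ := S.mem_zX hw
    obtain ⟨-, hqR, -, -⟩ := S.mem_zX hq
    obtain ⟨-, hq'R, -, -⟩ := S.mem_zX hq'
    refine ⟨(⟨u * u * (w⁻¹ * q * q'), mul_mem (mul_mem hu hu) (mul_mem (mul_mem (inv_mem hw) hq) hq')⟩,
      ⟨a₀, ha⟩, ⟨b₀, hb⟩), Subtype.ext ?_⟩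
    show u * u * (w⁻¹ * q * q') * (a₀ * b₀) = u * s₀ * (u * s₀)
    have h5 : q * q' * (a₀ * b₀) = w * (s₀ * s₀) := by
      calc q * q' * (a₀ * b₀) = q * a₀ * (q' * b₀) := by
            rw [mul_assoc, mul_assoc, ← mul_assoc q', (hq'R a₀ ha₀.1).eq, mul_assoc a₀ q']
        _ = s₀ * s' * (s₀ * s'⁻¹) := by rw [← hA, ← hB]
        _ = s₀ * (s' * s₀) * s'⁻¹ := by group
        _ = s₀ * (w * (s₀ * s')) * s'⁻¹ := by rw [hw']
        _ = w * (s₀ * s₀) := by rw [← mul_assoc s₀ w, ← (hwR s₀ hs₀.1).eq]; group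
    calc u * u * (w⁻¹ * q * q') * (a₀ * b₀) = u * u * w⁻¹ * (q * q' * (a₀ * b₀)) := by group
      _ = u * u * (s₀ * s₀) := by rw [h5]; group
      _ = u * (u * s₀) * s₀ := by group
      _ = u * (s₀ * u) * s₀ := by rw [(huR s₀ hs₀.1).eq]
      _ = u * s₀ * (u * s₀) := by group
  rw [← Nat.card_congr (Equiv.ofBijective f ⟨hinj, hsurj⟩), Nat.card_prod, Nat.card_prod, hmp,
    S.card_zX]

theorem card_Lp (hT : ∀ r ∈ S.R, S.T * r * S.T⁻¹ ∈ S.R) :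
    Nat.card S.Lp = 3 ∧ Nat.card S.Lt = 27 := by
  have h := S.card_Lt_eq hT
  obtain ⟨j, hj, hj'⟩ := (Nat.dvd_prime_pow Nat.prime_three).1
    ((Subgroup.card_dvd_of_le (inf_le_left : S.Lt ≤ S.R)).trans
      (show Nat.card S.R ∣ 3 ^ 5 by rw [S.cardR]; norm_num))
  have h1 : Nat.card S.Lp ≠ 1 := fun e => by
    rw [e] at h
    exact S.Lt_ne_zX (Subgroup.eq_of_le_of_card_ge S.zX_le_Lt (by rw [h, S.card_zX]))
  have h2 : Nat.card S.Lt ≠ 243 := fun e => by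
    have e' := Subgroup.eq_of_le_of_card_ge (inf_le_left : S.Lt ≤ S.R) (by rw [S.cardR]; exact e.ge)
    obtain ⟨v, hv, hvn, -⟩ := S.Y_moves
    exact hvn (e'.ge hv)
  obtain ⟨k, hk, hk'⟩ := (Nat.dvd_prime_pow Nat.prime_three).1
    ((Subgroup.card_dvd_of_le ((inf_le_left : S.Lp ≤ S.Lt).trans inf_le_left)).trans
      (show Nat.card S.R ∣ 3 ^ 5 by rw [S.cardR]; norm_num))
  rw [show Nat.card S.Lp = 3 ^ k from hk'] at h h1 ⊢
  rw [show Nat.card S.Lt = 3 ^ j from hj'] at h h2 ⊢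
  interval_cases k <;> interval_cases j <;> omega

theorem Lt_comm (hT : ∀ r ∈ S.R, S.T * r * S.T⁻¹ ∈ S.R) :
    ∀ a ∈ S.Lt, ∀ b ∈ S.Lt, Commute a b := by
  have hcard := (S.card_Lp hT).2
  obtain ⟨v, hv, hvn, hm⟩ := S.Y_moves
  set m := S.Y * v * S.Y⁻¹ * v⁻¹ with hmd
  have hYv : S.Y * v * S.Y⁻¹ = m * v := by rw [hmd, inv_mul_cancel_right]
  have hmc : ∀ l ∈ S.Lt, Commute m l := by
    intro l hl
    obtain ⟨hlR, hlY, -⟩ := S.mem_Lt.1 hl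
    obtain ⟨u, hu, he⟩ := S.commutator_zX hv hlR
    have hYu := (S.mem_zX hu).2.2.2 _ S.XY.symm
    have h2 := congrArg (fun g => S.Y * g * S.Y⁻¹) he
    rw [show S.Y * (v * l) * S.Y⁻¹ = (S.Y * v * S.Y⁻¹) * (S.Y * l * S.Y⁻¹) by group,
      show S.Y * (u * (l * v)) * S.Y⁻¹ = (S.Y * u * S.Y⁻¹) * ((S.Y * l * S.Y⁻¹) * (S.Y * v * S.Y⁻¹))
        by group, hYv, ← hlY.eq, mul_inv_cancel_right, hYu.eq, mul_inv_cancel_right,
      mul_assoc m v, he] at h2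
    have hmu := (S.mem_zX hu).2.1 m (S.mem_Lt.1 hm).1
    rw [← mul_assoc m u, ← hmu.eq, mul_assoc u m, mul_left_cancel_iff, ← mul_assoc m l, ← mul_assoc l m]
      at h2
    exact mul_right_cancel h2
  have hm' : m ∉ Subgroup.zpowers S.X := by
    intro h
    obtain ⟨u, hu, v₀, hv₀, e⟩ := S.inv_facts.2 v hv
    have hYu := (S.mem_zX hu).2.2.2 _ S.XY.symm
    have h1 : Commute S.Y v₀ := by
      refine Inv.comm_of S (cz S.y) S.XY.symm hv₀ ?_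
      rw [hmd, e] at h
      have e2 : S.Y * (u * v₀) * S.Y⁻¹ * (u * v₀)⁻¹ = u * (S.Y * v₀ * S.Y⁻¹ * v₀⁻¹) * u⁻¹ := by
        rw [← mul_assoc, hYu.eq]; group
      rw [e2] at h
      have := mul_mem (mul_mem (inv_mem hu) h) hu
      simpa [mul_assoc] using this
    exact hvn (e ▸ mul_mem (S.zX_le_Lt hu) (S.comm_R_Lt hv₀.1 (Or.inl h1)))
  intro a ha b hb
  have hpow : ∀ (W : Subgroup G), W ≤ S.Lt → ∀ U : Subgroup G, U ≤ W → U ≠ W →
      3 * Nat.card U ≤ Nat.card W := by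
    intro W hW U hU hne
    obtain ⟨i, -, hi⟩ := (Nat.dvd_prime_pow Nat.prime_three).1
      ((Subgroup.card_dvd_of_le hW).trans (show Nat.card S.Lt ∣ 3 ^ 3 by rw [hcard]; norm_num))
    obtain ⟨k, -, hk⟩ := (Nat.dvd_prime_pow Nat.prime_three).1
      (hi ▸ Subgroup.card_dvd_of_le hU)
    have hlt : k < i := by
      by_contra hge
      exact hne (Subgroup.eq_of_le_of_card_ge hU (by
        rw [hi, hk]; exact Nat.pow_le_pow_right (by norm_num) (not_lt.1 hge)))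
    rw [hi, hk, ← pow_succ']
    exact Nat.pow_le_pow_right (by norm_num) hlt
  set U := Subgroup.zpowers S.X ⊔ Subgroup.zpowers m with hU
  have hUL : U ≤ S.Lt := sup_le S.zX_le_Lt (Subgroup.zpowers_le.2 hm)
  have hUc : ∀ l ∈ S.Lt, U ≤ Subgroup.centralizer ({l} : Set G) := fun l hl =>
    sup_le (Subgroup.zpowers_le.2 (Subgroup.mem_centralizer_singleton_iff.2
        (S.R_comm l (S.mem_Lt.1 hl).1).symm))
      (Subgroup.zpowers_le.2 (Subgroup.mem_centralizer_singleton_iff.2 (hmc l hl)))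
  have hU9 : 9 ≤ Nat.card U := by
    have := hpow U hUL (Subgroup.zpowers S.X) le_sup_left
      (fun e => hm' (e ▸ Subgroup.mem_sup_right (Subgroup.mem_zpowers m)))
    rw [S.card_zX] at this
    exact this
  by_cases hbU : b ∈ U
  · exact (Subgroup.mem_centralizer_singleton_iff.1 (hUc a ha hbU) : Commute b a).symm
  set W := U ⊔ Subgroup.zpowers b with hW
  have hWL : W ≤ S.Lt := sup_le hUL (Subgroup.zpowers_le.2 hb)
  have := hpow W hWL U le_sup_left (fun e => hbU (e ▸ Subgroup.mem_sup_right (Subgroup.mem_zpowers b)))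
  have hWe := Subgroup.eq_of_le_of_card_ge hWL (by omega)
  have hcb : W ≤ Subgroup.centralizer ({b} : Set G) :=
    sup_le (hUc b hb) (Subgroup.zpowers_le.2 (Subgroup.mem_centralizer_singleton_iff.2 rfl))
  exact Subgroup.mem_centralizer_singleton_iff.1 (hcb (hWe.ge ha))

end Dat

end Cfsg.Agent.Lib.DoubleAlt12.Big
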