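import Cfsg.Agent.Lib.DoubleAlt12.BigBase

/-!
# S1645: the exceptional configuration in degree nine, stabilisers of inverted elements
-/

set_option autoImplicit false
set_option linter.unusedSectionVars false

namespace Cfsg.Agent.Lib.DoubleAlt12.Big

open Equiv

universe u

variable {G : Type u} [Group G] [Finite G]

theorem supp_sub_low {σ : Perm (Fin 9)} (h : σ 0 = 0 ∧ σ 1 = 1 ∧ σ 2 = 2) :
    σ.support.card ≤ 6 := by
  have : σ.support ⊆ ({3, 4, 5, 6, 7, 8} : Finset (Fin 9)) := fun s hs => by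
    rw [Perm.mem_support] at hs
    have hmem : ∀ s : Fin 9, s ≠ 0 → s ≠ 1 → s ≠ 2 → s ∈ ({3, 4, 5, 6, 7, 8} : Finset (Fin 9)) := by
      decide
    refine hmem s ?_ ?_ ?_ <;> rintro rfl
    exacts [hs h.1, hs h.2.1, hs h.2.2]
  exact (Finset.card_le_card this).trans (by decide)

theorem low_comm_px {σ : Perm (Fin 9)} (h : σ 0 = 0 ∧ σ 1 = 1 ∧ σ 2 = 2) : Commute σ px := by
  have hd : σ.Disjoint px := fun s => by
    have hfix : ∀ s : Fin 9, s ≠ 0 → s ≠ 1 → s ≠ 2 → px s = s := by decide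
    by_cases h0 : s = 0
    · exact Or.inl (h0 ▸ h.1)
    by_cases h1 : s = 1
    · exact Or.inl (h1 ▸ h.2.1)
    by_cases h2 : s = 2
    · exact Or.inl (h2 ▸ h.2.2)
    exact Or.inr (hfix s h0 h1 h2)
  exact hd.commute

theorem low_le_range {σ : Perm (Fin 9)} (h : σ 0 = 0 ∧ σ 1 = 1 ∧ σ 2 = 2) :
    σ ∈ (Perm.ofSubtype : Perm {s : Fin 9 // 3 ≤ s.val} →* Perm (Fin 9)).range := by
  have hfix : ∀ s : Fin 9, ¬ 3 ≤ s.val → σ s = s := fun s hs => by
    have : ∀ s : Fin 9, ¬ 3 ≤ s.val → s = 0 ∨ s = 1 ∨ s = 2 := by decide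
    rcases this s hs with rfl | rfl | rfl
    exacts [h.1, h.2.1, h.2.2]
  have h1 : ∀ s : Fin 9, 3 ≤ (σ s).val ↔ 3 ≤ s.val := fun s => by
    constructor
    · intro h2
      by_contra h3
      rw [hfix s h3] at h2
      exact h3 h2
    · intro h2
      by_contra h3
      have := σ.injective (hfix (σ s) h3)
      rw [this] at h3
      exact h3 h2
  exact ⟨σ.subtypePerm h1, Perm.ofSubtype_subtypePerm h1 fun s hs => by
    by_contra h3; exact hs (hfix s h3)⟩

theorem ofSubtype_low (τ : Perm {s : Fin 9 // 3 ≤ s.val}) :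
    Perm.ofSubtype τ 0 = 0 ∧ Perm.ofSubtype τ 1 = 1 ∧ Perm.ofSubtype τ 2 = 2 :=
  ⟨Perm.ofSubtype_apply_of_not_mem τ (by decide), Perm.ofSubtype_apply_of_not_mem τ (by decide),
    Perm.ofSubtype_apply_of_not_mem τ (by decide)⟩

theorem low_gens : (py 0 = 0 ∧ py 1 = 1 ∧ py 2 = 2) ∧ (py' 0 = 0 ∧ py' 1 = 1 ∧ py' 2 = 2) ∧
    (pd 0 = 0 ∧ pd 1 = 1 ∧ pd 2 = 2) ∧ (pe 0 = 0 ∧ pe 1 = 1 ∧ pe 2 = 2) := by decide

theorem p_orders : py ^ 3 = 1 ∧ py' ^ 3 = 1 ∧ px ^ 3 = 1 ∧ pd ^ 3 = 1 ∧ py ≠ 1 ∧ py' ≠ 1 ∧ pd ≠ 1 ∧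
    px ≠ 1 ∧ py * py' = py' * py ∧ px * pt ≠ pt * px := by decide

namespace Dat

variable {K : Conf G 9} (S : Dat K)

set_option quotPrecheck false in
local notation "CZ" => ↥(Subgroup.centralizer (Singleton.singleton K.z : Set G))

theorem odd_x : Odd (orderOf S.x) := by rw [S.ox]; decide
theorem odd_y : Odd (orderOf S.y) := by rw [S.oy]; decide
theorem odd_y' : Odd (orderOf S.y') := by rw [S.oy']; decide

theorem coe_comm {a b : CZ} (h : Commute a b) : Commute (a : G) (b : G) := congrArg Subtype.val h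

theorem coe_comm' {a b : CZ} (h : Commute (a : G) (b : G)) : Commute a b := Subtype.ext h

theorem comm_X_of {g : CZ} (h : Commute (K.cov.φ g) px) : Commute (g : G) S.X :=
  (coe_comm (K.cov.commute_of_odd S.odd_x (by rw [S.hx]; exact h.symm))).symm

theorem XY : Commute S.X S.Y :=
  coe_comm (K.cov.commute_of_odd S.odd_x (by rw [S.hx, S.hy]; exact p_comm.1))

theorem XY' : Commute S.X S.Y' :=
  coe_comm (K.cov.commute_of_odd S.odd_x (by rw [S.hx, S.hy']; exact p_comm.2.1))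

theorem YY' : Commute S.Y S.Y' :=
  coe_comm (K.cov.commute_of_odd S.odd_y (by rw [S.hy, S.hy']; exact p_comm.2.2.1))

theorem XD : Commute S.X S.D := S.XY.mul_right S.XY'.inv_right

theorem cz_D : Commute S.D K.z := (cz S.y).mul_left (cz S.y').inv_left

/-- The low subgroup of `C(z)`: elements fixing `0`, `1`, `2`. -/
def low : Subgroup CZ where
  carrier := {g | K.cov.φ g 0 = 0 ∧ K.cov.φ g 1 = 1 ∧ K.cov.φ g 2 = 2}
  one_mem' := by simp
  mul_mem' := fun {a b} ha hb => by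
    refine ⟨?_, ?_, ?_⟩ <;> simp only [map_mul, Perm.mul_apply]
    exacts [(congrArg _ hb.1).trans ha.1, (congrArg _ hb.2.1).trans ha.2.1,
      (congrArg _ hb.2.2).trans ha.2.2]
  inv_mem' := fun {a} ha => by
    refine ⟨?_, ?_, ?_⟩ <;> rw [map_inv, Perm.inv_eq_iff_eq]
    exacts [ha.1.symm, ha.2.1.symm, ha.2.2.symm]

theorem low_comm {g : CZ} (hg : g ∈ low (K := K)) : Commute (g : G) S.X :=
  S.comm_X_of (low_comm_px hg)

theorem y_low : S.y ∈ low (K := K) := by
  show _ ∧ _; rw [S.hy]; exact low_gens.1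

theorem y'_low : S.y' ∈ low (K := K) := by
  show _ ∧ _; rw [S.hy']; exact low_gens.2.1

/-- The map of the low subgroup to the permutations of the six moved points. -/
theorem low_card : 720 ≤ Nat.card (low (K := K)) := by
  classical
  let α := {s : Fin 9 // 3 ≤ s.val}
  have hA : Nat.card (alternatingGroup α) = 360 := by
    have : Nat.card α = 6 := by rw [Nat.card_eq_fintype_card]; decide
    have : Nontrivial α := ⟨⟨⟨3, le_rfl⟩, ⟨4, by decide⟩, by decide⟩⟩
    rw [nat_card_alternatingGroup, ‹Nat.card α = 6›]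
    decide
  have hl : ∀ a : alternatingGroup α, ∃ g : CZ, g ∈ low (K := K) ∧ K.cov.φ g = Perm.ofSubtype a.1 := by
    intro a
    obtain ⟨g, hg⟩ := K.cov.exists_lift (a := Perm.ofSubtype a.1)
      (by rw [Perm.sign_ofSubtype]; exact a.2)
    exact ⟨g, by show _ ∧ _; rw [hg]; exact ofSubtype_low _, hg⟩
  choose l hl1 hl2 using hl
  have hz : K.cov.z ∈ low (K := K) := by show _ ∧ _; rw [K.cov.φ_z]; exact ⟨rfl, rfl, rfl⟩
  let f : alternatingGroup α × Bool → low (K := K) := fun p =>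
    if p.2 then ⟨K.cov.z * l p.1, mul_mem hz (hl1 p.1)⟩ else ⟨l p.1, hl1 p.1⟩
  have hf : Function.Injective f := by
    rintro ⟨a, i⟩ ⟨b, j⟩ h
    have hφ : ∀ p, K.cov.φ (f p : CZ) = Perm.ofSubtype p.1.1 := by
      rintro ⟨a, i⟩
      cases i <;> simp [f, hl2, K.cov.φ_z]
    have hab : a = b := Subtype.ext (Perm.ofSubtype_injective
      ((hφ (a, i)).symm.trans ((congrArg (fun g : low (K := K) => K.cov.φ g) h).trans (hφ (b, j)))))
    subst hab
    have h' : (f (a, i) : CZ) = f (a, j) := congrArg Subtype.val h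
    cases i <;> cases j <;> simp [f, K.cov.z_ne_one] at h' ⊢
  have := Nat.card_le_card_of_injective f hf
  rw [Nat.card_prod, hA, show Nat.card Bool = 2 by simp] at this
  omega

/-- The kernel of the action of the low subgroup on `R`. -/
theorem low_faithful {g : CZ} (hg : g ∈ low (K := K)) (hR : ∀ r ∈ S.R, Commute (g : G) r) :
    K.cov.φ g = 1 := by
  classical
  let α := {s : Fin 9 // 3 ≤ s.val}
  have hα : Nat.card α = 6 := by rw [Nat.card_eq_fintype_card]; decide
  have : IsSimpleGroup (alternatingGroup α) := alternatingGroup.isSimpleGroup (by omega)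
  let N : Subgroup (alternatingGroup α) :=
    { carrier := {a | ∃ k : CZ, K.cov.φ k = Perm.ofSubtype a.1 ∧ ∀ r ∈ S.R, Commute (k : G) r}
      one_mem' := ⟨1, by simp, fun r _ => Commute.one_left r⟩
      mul_mem' := fun {a b} ⟨k, hk, hk'⟩ ⟨m, hm, hm'⟩ => ⟨k * m, by rw [map_mul, hk, hm, ← map_mul]; rfl,
        fun r hr => (hk' r hr).mul_left (hm' r hr)⟩
      inv_mem' := fun {a} ⟨k, hk, hk'⟩ => ⟨k⁻¹, by rw [map_inv, hk, ← map_inv]; rfl,
        fun r hr => (hk' r hr).inv_left⟩ }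
  have hN : N.Normal := ⟨fun a ⟨k, hk, hk'⟩ b => by
    obtain ⟨m, hm⟩ := K.cov.exists_lift (a := Perm.ofSubtype b.1)
      (by rw [Perm.sign_ofSubtype]; exact b.2)
    refine ⟨m * k * m⁻¹, by rw [map_mul, map_mul, map_inv, hk, hm, ← map_inv, ← map_mul, ← map_mul]; rfl,
      fun r hr => ?_⟩
    have hmX : Commute (m : G) S.X := S.comm_X_of (low_comm_px (hm ▸ ofSubtype_low _))
    have h1 := hk' _ (S.R_norm _ hmX.inv_left r hr)
    rw [inv_inv] at h1
    show ((m : G) * k * (m : G)⁻¹) * r = r * ((m : G) * k * (m : G)⁻¹)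
    calc (m : G) * k * (m : G)⁻¹ * r = m * (k * ((m : G)⁻¹ * r * m)) * (m : G)⁻¹ := by group
      _ = m * (((m : G)⁻¹ * r * m) * k) * (m : G)⁻¹ := by rw [h1.eq]
      _ = r * ((m : G) * k * (m : G)⁻¹) := by group⟩
  by_contra hne
  obtain ⟨a, ha⟩ := low_le_range hg
  have hsa : a ∈ alternatingGroup α := by
    rw [Perm.mem_alternatingGroup, ← Perm.sign_ofSubtype, ha, K.cov.sign_φ]
  have hmem : (⟨a, hsa⟩ : alternatingGroup α) ∈ N := ⟨g, ha.symm, hR⟩
  rcases hN.eq_bot_or_eq_top with hb | ht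
  · have := Subgroup.mem_bot.1 (hb ▸ hmem)
    apply hne
    rw [← ha, show a = 1 from congrArg Subtype.val this, map_one]
  · let w : Perm α := swap ⟨3, le_rfl⟩ ⟨4, by decide⟩ * swap ⟨5, by decide⟩ ⟨6, by decide⟩
    have hw : w ∈ alternatingGroup α := by
      rw [Perm.mem_alternatingGroup, Perm.sign_mul, Perm.sign_swap (by decide),
        Perm.sign_swap (by decide)]
      rfl
    have hwN : (⟨w, hw⟩ : alternatingGroup α) ∈ N := ht ▸ Subgroup.mem_top _
    obtain ⟨k, hk, hk'⟩ := hwN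
    have hdt : IsDT (K.cov.φ k) := ⟨3, 4, 5, 6, by decide, by
      rw [hk, map_mul, Perm.ofSubtype_swap_eq, Perm.ofSubtype_swap_eq]⟩
    have hzk : ∀ r ∈ S.R, Commute K.z r := fun r hr => by
      rw [← K.cov_z, ← K.cov.sq_dt k hdt, Subgroup.coe_mul]
      exact (hk' r hr).mul_left (hk' r hr)
    obtain ⟨v, hv, hv1⟩ := S.exists_inv_ne_one
    have hu := S.R_inter v hv.1 (hzk v hv.1).symm
    have hone : S.Inv 1 := ⟨one_mem _, by rw [mul_one, zz, inv_one]⟩
    exact hv1 (Inv.eq_of S hu hone hv (mul_one v).symm).2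

theorem zpowers_R_card {g : G} (hg : Commute g S.X) (n : ℕ) [Fact n.Prime] (hn : orderOf g = n) :
    Nat.card (S.R ⊓ Subgroup.centralizer ({g} : Set G) : Subgroup G) ≡ 243 [MOD n] := by
  classical
  let Γ := Subgroup.zpowers g
  have hΓ : ∀ k : Γ, Commute (k : G) S.X := fun k => by
    obtain ⟨i, hi⟩ := Subgroup.mem_zpowers_iff.1 k.2
    rw [← hi]; exact hg.zpow_left i
  let act : MulAction Γ S.R :=
    { smul := fun k r => ⟨(k : G) * r * (k : G)⁻¹, S.R_norm _ (hΓ k) r r.2⟩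
      one_smul := fun r => Subtype.ext (show (1 : G) * r * (1 : G)⁻¹ = r by group)
      mul_smul := fun a b r => Subtype.ext (show
        ((a : G) * b) * r * ((a : G) * b)⁻¹ = a * ((b : G) * r * (b : G)⁻¹) * (a : G)⁻¹ by group) }
  have hp : IsPGroup n Γ := IsPGroup.of_card (n := 1) (by rw [pow_one, Nat.card_zpowers, hn])
  have := hp.card_modEq_card_fixedPoints S.R
  rw [S.cardR] at this
  refine (Eq.subst (motive := fun m => m ≡ 243 [MOD n]) ?_ this.symm)
  refine Nat.card_congr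
    { toFun := fun r => ⟨(r.1 : G), r.1.2, Subgroup.mem_centralizer_singleton_iff.2 ?_⟩
      invFun := fun r => ⟨⟨r.1, r.2.1⟩, fun k => ?_⟩
      left_inv := fun r => rfl
      right_inv := fun r => rfl }
  · have h := congrArg Subtype.val (r.2 ⟨g, Subgroup.mem_zpowers g⟩)
    exact (mul_inv_eq_iff_eq_mul.1 h).symm
  · refine Subtype.ext ?_
    obtain ⟨i, hi⟩ := Subgroup.mem_zpowers_iff.1 k.2
    show (k : G) * r.1 * (k : G)⁻¹ = r.1
    have hc : Commute r.1 g := Subgroup.mem_centralizer_singleton_iff.1 r.2.2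
    rw [← hi, ← (hc.zpow_right i).eq, mul_inv_cancel_right]

/-- Inverted fixed elements of `y`, `y'` or `y y'⁻¹` are fixed by `y` and by `y'`. -/
theorem stab_three {v : G} (hv : S.Inv v) (hv1 : v ≠ 1)
    (h : Commute S.Y v ∨ Commute S.Y' v ∨ Commute S.D v) : Commute S.Y v ∧ Commute S.Y' v := by
  classical
  cases nonempty_fintype G
  let M : Subgroup CZ := low (K := K) ⊓ (Subgroup.centralizer ({v} : Set G)).comap (Subgroup.subtype _)
  have hMv : ∀ {g : CZ}, g ∈ M → Commute (g : G) v := fun hg =>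
    Subgroup.mem_centralizer_singleton_iff.1 hg.2
  -- pigeonhole
  let F := {r : G // S.Inv r ∧ r ≠ 1}
  have hF : Nat.card F ≤ 80 := by
    let emb : F → {r : G // S.Inv r} := fun r => ⟨r.1, r.2.1⟩
    have hinj : Function.Injective emb := fun a b e => Subtype.ext (congrArg Subtype.val e :)
    have hns : ¬ Function.Surjective emb := fun hs => by
      obtain ⟨r, hr⟩ := hs ⟨1, ⟨one_mem _, by rw [mul_one, zz, inv_one]⟩⟩
      exact r.2.2 (congrArg Subtype.val hr :)
    have := Fintype.card_lt_of_injective_not_surjective emb hinj hns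
    rw [← Nat.card_eq_fintype_card, ← Nat.card_eq_fintype_card, S.inv_facts.1] at this
    omega
  let orb : low (K := K) → F := fun g => ⟨(g.1 : G) * v * (g.1 : G)⁻¹,
    hv.conj S (cz g.1) (S.low_comm g.2), fun e => hv1 (by
      rw [mul_inv_eq_one, mul_eq_left] at e; exact e)⟩
  have hfib : ∀ b ∈ (Finset.univ : Finset (low (K := K))).image orb,
      ((Finset.univ : Finset (low (K := K))).filter fun a => orb a = b).card ≤ Nat.card M := by
    intro b hb
    obtain ⟨g, -, rfl⟩ := Finset.mem_image.1 hb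
    rw [Nat.card_eq_fintype_card, ← Finset.card_univ]
    refine Finset.card_le_card_of_surjOn (fun m : M => g * ⟨m.1, m.2.1⟩) ?_
    intro a ha
    have e : (a.1 : G) * v * (a.1 : G)⁻¹ = (g.1 : G) * v * (g.1 : G)⁻¹ :=
      congrArg Subtype.val (Finset.mem_filter.1 ha).2
    refine ⟨⟨g.1⁻¹ * a.1, Subgroup.mul_mem _ (Subgroup.inv_mem _ g.2) a.2, ?_⟩, Finset.mem_coe.2 (Finset.mem_univ _),
      Subtype.ext (mul_inv_cancel_left g.1 a.1)⟩
    refine Subgroup.mem_centralizer_singleton_iff.2 ?_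
    show (g.1 : G)⁻¹ * (a.1 : G) * v = v * ((g.1 : G)⁻¹ * (a.1 : G))
    calc (g.1 : G)⁻¹ * (a.1 : G) * v = (g.1 : G)⁻¹ * ((a.1 : G) * v * (a.1 : G)⁻¹) * a.1 := by group
      _ = (g.1 : G)⁻¹ * ((g.1 : G) * v * (g.1 : G)⁻¹) * a.1 := by rw [e]
      _ = v * ((g.1 : G)⁻¹ * (a.1 : G)) := by group
  have hM9 : 9 ≤ Nat.card M := by
    have h1 := Finset.card_le_mul_card_image (Finset.univ : Finset (low (K := K))) _ hfib
    have h2 : ((Finset.univ : Finset (low (K := K))).image orb).card ≤ 80 :=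
      (Finset.card_le_univ _).trans (by rwa [← Nat.card_eq_fintype_card])
    have h3 := low_card (K := K)
    rw [Nat.card_eq_fintype_card, ← Finset.card_univ] at h3
    have := h3.trans (h1.trans (Nat.mul_le_mul_left _ h2))
    omega
  -- no elements of order two or five
  have hz : K.cov.z ∉ M := fun hm => hv1 (by
    have hc := hMv hm
    rw [K.cov_z] at hc
    have h1 := hv.2
    rw [hc.eq, mul_assoc, zz, mul_one] at h1
    exact eq_one_of_sq (mul_eq_one_iff_eq_inv.2 h1) 121 (S.odd_R hv.1))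
  have h2 : ¬ 2 ∣ Nat.card M := fun h2 => by
    have := Fact.mk Nat.prime_two
    obtain ⟨g, hg⟩ := exists_prime_orderOf_dvd_card' 2 h2
    have hg' : orderOf (g : CZ) = 2 := by rw [Subgroup.orderOf_coe, hg]
    have hs := K.cov.involution_support hg' (fun e => hz (e ▸ g.2))
    have := supp_sub_low g.2.1
    have := Nat.le_of_dvd hs.2.1 hs.2.2
    omega
  have h5 : ¬ 5 ∣ Nat.card M := fun h5 => by
    have := Fact.mk (show Nat.Prime 5 by norm_num)
    obtain ⟨g, hg⟩ := exists_prime_orderOf_dvd_card' 5 h5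
    have hg' : orderOf ((g : CZ) : G) = 5 := by rw [Subgroup.orderOf_coe, Subgroup.orderOf_coe, hg]
    have hgX := S.low_comm g.2.1
    have hmod := S.zpowers_R_card hgX 5 hg'
    set U := S.R ⊓ Subgroup.centralizer ({((g : CZ) : G)} : Set G) with hU
    obtain ⟨j, hj, hUj⟩ := (Nat.dvd_prime_pow Nat.prime_three).1
      ((Subgroup.card_dvd_of_le (inf_le_left : U ≤ S.R)).trans
        (show Nat.card S.R ∣ 3 ^ 5 by rw [S.cardR]; norm_num))
    rw [hUj] at hmod
    have hj5 : j = 1 ∨ j = 5 := by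
      interval_cases j <;> simp [Nat.ModEq] at hmod ⊢
    rcases hj5 with rfl | rfl
    · have hle : Subgroup.zpowers S.X ≤ U := Subgroup.zpowers_le.2
        ⟨S.X_mem, Subgroup.mem_centralizer_singleton_iff.2 hgX.symm⟩
      have he := Subgroup.eq_of_le_of_card_ge hle (by rw [hUj, S.card_zX]; norm_num)
      have hvU : v ∈ U := ⟨hv.1, Subgroup.mem_centralizer_singleton_iff.2 (hMv g.2).symm⟩
      rw [← he] at hvU
      exact hv1 (Inv.eq_of S hvU ⟨one_mem _, by rw [mul_one, zz, inv_one]⟩ hv (mul_one v).symm).2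
    · have he := Subgroup.eq_of_le_of_card_ge (inf_le_left : U ≤ S.R)
        (by rw [S.cardR, hUj]; norm_num)
      have hall : ∀ r ∈ S.R, Commute ((g : CZ) : G) r := fun r hr =>
        (Subgroup.mem_centralizer_singleton_iff.1 (he.ge hr : r ∈ U).2 : Commute r _).symm
      rcases (K.cov.ker_iff _).1 (S.low_faithful g.2.1 hall) with e | e
      · rw [Subgroup.orderOf_coe, e, orderOf_one] at hg'; omega
      · exact hz (e ▸ g.2)
  have hinj : Function.Injective (K.cov.φ.comp M.subtype) := by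
    refine (injective_iff_map_eq_one _).2 fun g hg => ?_
    rcases (K.cov.ker_iff _).1 hg with e | e
    · exact Subtype.ext e
    · exact absurd (e ▸ g.2) hz
  have h720 : Nat.card M ∣ 720 := by
    rw [Nat.card_congr (MonoidHom.ofInjective hinj).toEquiv]
    have hle : (K.cov.φ.comp M.subtype).range ≤
        (Perm.ofSubtype : Perm {s : Fin 9 // 3 ≤ s.val} →* Perm (Fin 9)).range := by
      rintro _ ⟨g, rfl⟩; exact low_le_range g.2.1
    refine (Subgroup.card_dvd_of_le hle).trans ?_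
    rw [← Nat.card_congr (MonoidHom.ofInjective Perm.ofSubtype_injective).toEquiv, Nat.card_perm,
      Nat.card_eq_fintype_card]
    decide
  have hM : Nat.card M = 9 := by
    have h80 : Nat.Coprime (Nat.card M) 80 := by
      rw [show (80 : ℕ) = 2 ^ 4 * 5 by norm_num]
      exact Nat.Coprime.mul_right
        (Nat.Coprime.pow_right 4 (Nat.Coprime.symm ((Nat.Prime.coprime_iff_not_dvd Nat.prime_two).2 h2)))
        ((Nat.Prime.coprime_iff_not_dvd (by norm_num)).2 h5).symm
    have := h80.dvd_of_dvd_mul_right (show Nat.card M ∣ 9 * 80 from h720)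
    exact le_antisymm (Nat.le_of_dvd (by norm_num) this) hM9
  have hab : ∀ a b : M, a * b = b * a := by
    have := Fact.mk Nat.prime_three
    exact (IsPGroup.isMulCommutative_of_card_eq_prime_sq (p := 3) (G := M) (by rw [hM]; norm_num)).is_comm.comm
  -- all nine lifts are in `M`
  obtain ⟨c, hcM, hc⟩ : ∃ c : CZ, c ∈ M ∧
      (K.cov.φ c = py ∨ K.cov.φ c = py' ∨ K.cov.φ c = pd) := by
    rcases h with h | h | h
    · exact ⟨S.y, ⟨S.y_low, Subgroup.mem_centralizer_singleton_iff.2 h⟩, Or.inl S.hy⟩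
    · exact ⟨S.y', ⟨S.y'_low, Subgroup.mem_centralizer_singleton_iff.2 h⟩, Or.inr (Or.inl S.hy')⟩
    · exact ⟨S.y * S.y'⁻¹, ⟨Subgroup.mul_mem _ S.y_low (Subgroup.inv_mem _ S.y'_low),
        Subgroup.mem_centralizer_singleton_iff.2 h⟩, Or.inr (Or.inr (by rw [map_mul, map_inv, S.hy, S.hy']))⟩
  have him : ∀ m : M, ∃ p : Fin 3 × Fin 3, K.cov.φ m = py ^ p.1.val * py' ^ p.2.val := by
    intro m
    have e : K.cov.φ m * K.cov.φ c = K.cov.φ c * K.cov.φ m := by
      rw [← map_mul, ← map_mul]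
      exact congrArg (fun g : M => K.cov.φ g) (hab m ⟨c, hcM⟩)
    obtain ⟨j, l, hjl⟩ := fix_low m.2.1.1 m.2.1.2.1 m.2.1.2.2 (K.cov.sign_φ _) (by
      rcases hc with hc | hc | hc <;> rw [hc] at e
      exacts [Or.inl e, Or.inr (Or.inl e), Or.inr (Or.inr e)])
    exact ⟨(j, l), hjl⟩
  choose P hP using him
  have hPinj : Function.Injective P := fun a b e => hinj (by
    show K.cov.φ a = K.cov.φ b; rw [hP a, hP b, e])
  have hPbij := (Nat.bijective_iff_injective_and_card P).2 ⟨hPinj, by rw [hM]; simp⟩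
  have hodd : ∀ g : M, Odd (orderOf (g : CZ)) := fun g => by
    rw [Subgroup.orderOf_coe]
    refine Odd.of_dvd_nat (show Odd 9 by decide) ?_
    exact (orderOf_dvd_natCard g).trans hM.dvd
  constructor
  · obtain ⟨g, hg⟩ := hPbij.2 ((1 : Fin 3), (0 : Fin 3))
    have e : (g : CZ) = S.y := K.cov.odd_lift_unique (hodd g) S.odd_y (by rw [hP g, hg, S.hy]; simp)
    have := hMv g.2
    rwa [e] at this
  · obtain ⟨g, hg⟩ := hPbij.2 ((0 : Fin 3), (1 : Fin 3))
    have e : (g : CZ) = S.y' := K.cov.odd_lift_unique (hodd g) S.odd_y' (by rw [hP g, hg, S.hy']; simp)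
    have := hMv g.2
    rwa [e] at this

end Dat

end Cfsg.Agent.Lib.DoubleAlt12.Big
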