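import Cfsg.Agent.Lib.DoubleAlt12.Spec

/-!
# S1645: lifting in a non-split double cover of an alternating group
-/

set_option autoImplicit false

namespace Cfsg.Agent.Lib.DoubleAlt12

open Equiv Equiv.Perm

variable {C : Type*} [Group C] {n : ℕ}

namespace Cov

variable (c : Cov C n)

theorem φ_z : c.φ c.z = 1 := (c.ker_iff _).2 (Or.inr rfl)

theorem z_ne_one : c.z ≠ 1 := fun h => by
  have := c.hz; rw [h, orderOf_one] at this; omega

theorem z_mul_self : c.z * c.z = 1 := by
  rw [← pow_two, ← c.hz, pow_orderOf_eq_one]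

theorem z_inv : c.z⁻¹ = c.z := inv_eq_of_mul_eq_one_right c.z_mul_self

theorem commute_z (g : C) : Commute g c.z := c.central g

theorem sign_φ (g : C) : sign (c.φ g) = 1 := by
  rw [← mem_alternatingGroup, ← c.range_eq]; exact ⟨g, rfl⟩

theorem exists_lift {a : Perm (Fin n)} (ha : sign a = 1) : ∃ g, c.φ g = a := by
  have h : a ∈ c.φ.range := by rw [c.range_eq, mem_alternatingGroup]; exact ha
  exact h

theorem eq_or_eq {g h : C} (e : c.φ g = c.φ h) : g = h ∨ g = c.z * h := by
  have h1 : c.φ (g * h⁻¹) = 1 := by rw [map_mul, map_inv, e, mul_inv_cancel]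
  rcases (c.ker_iff _).1 h1 with h2 | h2
  · exact Or.inl (mul_inv_eq_one.1 h2)
  · exact Or.inr (mul_inv_eq_iff_eq_mul.1 h2)

theorem comm_or_anti {g h : C} (e : Commute (c.φ g) (c.φ h)) :
    g * h = h * g ∨ g * h = c.z * (h * g) :=
  c.eq_or_eq (by rw [map_mul, map_mul]; exact e.eq)

theorem commute_of_odd {g h : C} (ho : Odd (orderOf g)) (e : Commute (c.φ g) (c.φ h)) :
    Commute g h := by
  rcases c.comm_or_anti e with h1 | h1
  · exact h1
  exfalso
  have hs : SemiconjBy h g (c.z * g) := by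
    show h * g = c.z * g * h
    rw [mul_assoc, h1, ← mul_assoc, c.z_mul_self, one_mul]
  have h2 := hs.pow_right (orderOf g)
  rw [pow_orderOf_eq_one, (c.commute_z g).symm.mul_pow, pow_orderOf_eq_one, mul_one] at h2
  obtain ⟨j, hj⟩ := ho
  rw [hj, pow_succ, pow_mul, pow_two, c.z_mul_self, one_pow, one_mul] at h2
  have h3 : h * 1 = c.z * h := h2
  rw [mul_one] at h3
  exact c.z_ne_one (mul_right_cancel (h3.symm.trans (one_mul h).symm))

theorem odd_lift_unique {g h : C} (hg : Odd (orderOf g)) (hh : Odd (orderOf h))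
    (e : c.φ g = c.φ h) : g = h := by
  rcases c.eq_or_eq e with h1 | h1
  · exact h1
  exfalso
  have hk : Odd (orderOf g * orderOf h) := hg.mul hh
  have h2 : g ^ (orderOf g * orderOf h) = (c.z * h) ^ (orderOf g * orderOf h) := by rw [← h1]
  rw [(c.commute_z h).symm.mul_pow, orderOf_dvd_iff_pow_eq_one.1 (dvd_mul_right _ _),
    orderOf_dvd_iff_pow_eq_one.1 (dvd_mul_left (orderOf h) (orderOf g)), mul_one] at h2
  obtain ⟨j, hj⟩ := hk
  rw [hj, pow_succ, pow_mul, pow_two, c.z_mul_self, one_pow, one_mul] at h2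
  exact c.z_ne_one h2.symm

theorem exists_odd_lift {a : Perm (Fin n)} (ha : sign a = 1) (ho : Odd (orderOf a)) :
    ∃ g, c.φ g = a ∧ orderOf g = orderOf a := by
  obtain ⟨g, rfl⟩ := c.exists_lift ha
  have hkey : ∀ k : C, c.φ k = c.φ g → k ^ orderOf (c.φ g) = 1 → orderOf k = orderOf (c.φ g) :=
    fun k hk hp => Nat.dvd_antisymm (orderOf_dvd_of_pow_eq_one hp)
      (hk ▸ orderOf_map_dvd c.φ k)
  have h1 : c.φ (g ^ orderOf (c.φ g)) = 1 := by rw [map_pow, pow_orderOf_eq_one]
  rcases (c.ker_iff _).1 h1 with h2 | h2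
  · exact ⟨g, rfl, hkey g rfl h2⟩
  · have h3 : c.φ (c.z * g) = c.φ g := by rw [map_mul, c.φ_z, one_mul]
    refine ⟨c.z * g, h3, hkey _ h3 ?_⟩
    rw [(c.commute_z g).symm.mul_pow, h2]
    obtain ⟨j, hj⟩ := ho
    rw [hj, pow_succ, pow_mul, pow_two, c.z_mul_self, one_pow, one_mul, c.z_mul_self]

/-- Two lifts of double transpositions whose product is a double transposition anticommute. -/
theorem anti {g h : C} (hg : IsDT (c.φ g)) (hh : IsDT (c.φ h))
    (hgh : IsDT (c.φ g * c.φ h)) : g * h = c.z * (h * g) := by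
  have h1 := c.sq_dt g hg
  have h2 := c.sq_dt h hh
  have h3 := c.sq_dt (g * h) (by rwa [map_mul])
  have hgi : g⁻¹ = c.z * g := inv_eq_of_mul_eq_one_right (by
    rw [← mul_assoc, c.central g, mul_assoc, h1, c.z_mul_self])
  have hhi : h⁻¹ = c.z * h := inv_eq_of_mul_eq_one_right (by
    rw [← mul_assoc, c.central h, mul_assoc, h2, c.z_mul_self])
  calc g * h = (g * h) * (g * h) * (g * h)⁻¹ := by group
    _ = c.z * (h⁻¹ * g⁻¹) := by rw [h3, mul_inv_rev]
    _ = c.z * ((c.z * h) * (c.z * g)) := by rw [hgi, hhi]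
    _ = c.z * (h * g) := by
      rw [c.commute_z h |>.symm.eq, mul_assoc h, ← mul_assoc c.z c.z g, c.z_mul_self, one_mul]

/-- An even permutation is a word in the three cycles supported on its support. -/
theorem mem_closure_three_cycles {α : Type*} [Fintype α] [DecidableEq α] (a : Perm α)
    (ha : sign a = 1) :
    a ∈ Subgroup.closure {b : Perm α | b.IsThreeCycle ∧ b.support ⊆ a.support} := by
  classical
  let p : α → Prop := fun x => x ∈ a.support
  have h1 : ∀ x, p (a x) ↔ p x := fun x => Perm.apply_mem_support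
  have h2 : ∀ x, a x ≠ x → p x := fun x hx => mem_support.2 hx
  set a' := a.subtypePerm h1 with ha'
  have e : ofSubtype a' = a := ofSubtype_subtypePerm h1 h2
  have hs : sign a' = 1 := by rw [← sign_ofSubtype, e, ha]
  have hmem : a' ∈ Subgroup.closure {b : Perm {x // p x} | b.IsThreeCycle} := by
    rw [closure_three_cycles_eq_alternating]; exact mem_alternatingGroup.2 hs
  have h4 := Subgroup.mem_map_of_mem (ofSubtype (p := p)) hmem
  rw [e, MonoidHom.map_closure] at h4
  refine Subgroup.closure_mono ?_ h4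
  rintro _ ⟨b, hb, rfl⟩
  refine ⟨?_, fun x hx => ?_⟩
  · show (ofSubtype b).cycleType = {3}
    rw [cycleType_ofSubtype]; exact hb
  · by_contra hnx
    exact mem_support.1 hx (ofSubtype_apply_of_not_mem b hnx)

theorem commute_of_disjoint {g h : C} (hd : (c.φ g).Disjoint (c.φ h)) : Commute g h := by
  have hle : Subgroup.closure {b : Perm (Fin n) | b.IsThreeCycle ∧ b.support ⊆ (c.φ g).support} ≤
      (Subgroup.centralizer ({h} : Set C)).map c.φ := by
    rw [Subgroup.closure_le]
    rintro b ⟨hb, hsub⟩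
    have hbo : Odd (orderOf b) := by rw [hb.orderOf]; decide
    obtain ⟨k, hk, hko⟩ := c.exists_odd_lift hb.sign hbo
    refine ⟨k, Subgroup.mem_centralizer_singleton_iff.2 ?_, hk⟩
    have hbd : b.Disjoint (c.φ h) :=
      disjoint_iff_disjoint_support.2 ((disjoint_iff_disjoint_support.1 hd).mono_left hsub)
    exact (c.commute_of_odd (hko ▸ hbo) (by rw [hk]; exact hbd.commute)).eq
  obtain ⟨k, hk, hkg⟩ := hle (mem_closure_three_cycles _ (c.sign_φ g))
  have hkh : Commute k h := Subgroup.mem_centralizer_singleton_iff.1 hk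
  rcases c.eq_or_eq hkg.symm with e | e
  · exact e ▸ hkh
  · exact e ▸ ((c.commute_z h).symm.mul_left hkh)

include c in
theorem card_eq [Finite C] : Nat.card C = 2 * Nat.card (alternatingGroup (Fin n)) := by
  have hker : c.φ.ker = Subgroup.zpowers c.z := by
    ext g
    rw [MonoidHom.mem_ker, c.ker_iff]
    refine ⟨fun h => ?_, ?_⟩
    · rcases h with rfl | rfl
      exacts [one_mem _, Subgroup.mem_zpowers _]
    · rintro ⟨j, rfl⟩
      rcases Int.even_or_odd' j with ⟨i, rfl | rfl⟩
      · left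
        show c.z ^ (2 * i) = 1
        rw [zpow_mul, zpow_two, c.z_mul_self, one_zpow]
      · right
        show c.z ^ (2 * i + 1) = c.z
        rw [zpow_add, zpow_mul, zpow_two, c.z_mul_self, one_zpow, one_mul, zpow_one]
  rw [Subgroup.card_eq_card_quotient_mul_card_subgroup c.φ.ker,
    Nat.card_congr (QuotientGroup.quotientKerEquivRange c.φ).toEquiv, c.range_eq, hker,
    Nat.card_zpowers, c.hz, mul_comm]

/-- The square of a lift of an involution of the alternating group. -/
theorem sq_of_involutive : ∀ (m : ℕ) (g : C), (c.φ g).support.card = m → c.φ g * c.φ g = 1 →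
    ∃ j, m = 4 * j ∧ g * g = c.z ^ j := by
  intro m
  induction m using Nat.strong_induction_on with
  | _ m ih =>
  intro g hm hinv
  set σ := c.φ g with hσ
  rcases eq_or_ne σ 1 with h1 | h1
  · refine ⟨0, by rw [← hm, h1]; simp, ?_⟩
    rw [pow_zero]
    rcases (c.ker_iff g).1 h1 with rfl | rfl
    exacts [one_mul 1, c.z_mul_self]
  have hss : ∀ x, σ (σ x) = x := fun x => by rw [← Perm.mul_apply, hinv, Perm.one_apply]
  obtain ⟨p, hp⟩ : ∃ p, σ p ≠ p := by
    by_contra h; push Not at h; exact h1 (Equiv.ext h)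
  obtain ⟨q, hq, hqp, hqp'⟩ : ∃ q, σ q ≠ q ∧ q ≠ p ∧ q ≠ σ p := by
    by_contra h
    push Not at h
    have he : σ = swap p (σ p) := Equiv.ext fun x => by
      rcases eq_or_ne x p with rfl | hxp
      · rw [swap_apply_left]
      rcases eq_or_ne x (σ p) with rfl | hxp'
      · rw [swap_apply_right, hss]
      rw [swap_apply_of_ne_of_ne hxp hxp']
      by_contra hx
      exact hxp' (h x hx hxp)
    have hsg := c.sign_φ g
    rw [← hσ, he, sign_swap hp.symm] at hsg
    exact absurd hsg (by decide)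
  set d : Perm (Fin n) := swap p (σ p) * swap q (σ q) with hd
  have h12 : σ p ≠ q := hqp'.symm
  have h13 : p ≠ σ q := fun e => hqp' (by rw [e, hss])
  have h14 : σ p ≠ σ q := fun e => hqp (σ.injective e).symm
  have hnd : [p, σ p, q, σ q].Nodup := by
    simp only [List.nodup_cons, List.mem_cons, List.not_mem_nil, or_false, not_or]
    exact ⟨⟨hp.symm, hqp.symm, h13⟩, ⟨h12, h14⟩, hq.symm, not_false, List.nodup_nil⟩
  have hdT : IsDT d := ⟨p, σ p, q, σ q, hnd, rfl⟩
  have hdsign : sign d = 1 := by rw [hd, Perm.sign_mul, sign_swap hp.symm, sign_swap hq.symm]; rfl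
  have hdmove : ∀ x, (x = p ∨ x = σ p ∨ x = q ∨ x = σ q) → d x = σ x := by
    intro x hx
    rw [hd, Perm.mul_apply]
    rcases hx with rfl | rfl | rfl | rfl
    · rw [swap_apply_of_ne_of_ne hqp.symm h13, swap_apply_left]
    · rw [swap_apply_of_ne_of_ne h12 h14, swap_apply_right, hss]
    · rw [swap_apply_left, swap_apply_of_ne_of_ne h13.symm h14.symm]
    · rw [swap_apply_right, swap_apply_of_ne_of_ne hqp hqp', hss]
  have hdfix : ∀ x, ¬ (x = p ∨ x = σ p ∨ x = q ∨ x = σ q) → d x = x := by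
    intro x hx
    push Not at hx
    obtain ⟨x1, x2, x3, x4⟩ := hx
    rw [hd, Perm.mul_apply, swap_apply_of_ne_of_ne x3 x4, swap_apply_of_ne_of_ne x1 x2]
  set r : Perm (Fin n) := σ * d with hr
  have hrin : ∀ x, (x = p ∨ x = σ p ∨ x = q ∨ x = σ q) → r x = x := fun x hx => by
    rw [hr, Perm.mul_apply, hdmove x hx, hss]
  have hrout : ∀ x, ¬ (x = p ∨ x = σ p ∨ x = q ∨ x = σ q) → r x = σ x := fun x hx => by
    rw [hr, Perm.mul_apply, hdfix x hx]
  have hrsup : r.support = σ.support \ {p, σ p, q, σ q} := by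
    ext x
    simp only [mem_support, Finset.mem_sdiff, Finset.mem_insert, Finset.mem_singleton]
    by_cases hx : x = p ∨ x = σ p ∨ x = q ∨ x = σ q
    · simp [hrin x hx, hx]
    · simp [hrout x hx, hx]
  have hsub : ({p, σ p, q, σ q} : Finset (Fin n)) ⊆ σ.support := by
    simp only [Finset.insert_subset_iff, Finset.singleton_subset_iff, mem_support, hss]
    exact ⟨hp, hp.symm, hq, hq.symm⟩
  have hcard4 : ({p, σ p, q, σ q} : Finset (Fin n)).card = 4 := by
    have := List.toFinset_card_of_nodup hnd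
    simpa using this
  have h4m : 4 ≤ m := by rw [← hm, ← hcard4]; exact Finset.card_le_card hsub
  have hrcard : r.support.card = m - 4 := by
    rw [hrsup, Finset.card_sdiff_of_subset hsub, hcard4, hm]
  obtain ⟨h, hh⟩ := c.exists_lift hdsign
  have hrsign : sign r = 1 := by rw [hr, Perm.sign_mul, hdsign, hσ, c.sign_φ, mul_one]
  obtain ⟨g', hg'⟩ := c.exists_lift hrsign
  have hrinv : r * r = 1 := by
    apply Equiv.ext
    intro x
    rw [Perm.mul_apply, Perm.one_apply]
    by_cases hx : x = p ∨ x = σ p ∨ x = q ∨ x = σ q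
    · rw [hrin x hx, hrin x hx]
    · have hx' : ¬ (σ x = p ∨ σ x = σ p ∨ σ x = q ∨ σ x = σ q) := by
        rintro (e | e | e | e)
        · exact hx (Or.inr (Or.inl (by rw [← e, hss])))
        · exact hx (Or.inl (σ.injective e))
        · exact hx (Or.inr (Or.inr (Or.inr (by rw [← e, hss]))))
        · exact hx (Or.inr (Or.inr (Or.inl (σ.injective e))))
      rw [hrout x hx, hrout _ hx', hss]
  obtain ⟨j, hj, hg'sq⟩ := ih (m - 4) (by omega) g' (by rw [hg', hrcard]) (by rw [hg', hrinv])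
  have hdisj : (c.φ g').Disjoint (c.φ h) := fun x => by
    rw [hg', hh]
    by_cases hx : x = p ∨ x = σ p ∨ x = q ∨ x = σ q
    · exact Or.inl (hrin x hx)
    · exact Or.inr (hdfix x hx)
  have hcm : Commute g' h := c.commute_of_disjoint hdisj
  have hprod : c.φ g = c.φ (g' * h) := by
    have hdd : d * d = 1 := by
      rw [← hh, ← map_mul, c.sq_dt h (hh.symm ▸ hdT), c.φ_z]
    rw [map_mul, hg', hh, ← hσ, hr, mul_assoc, hdd, mul_one]
  refine ⟨j + 1, by omega, ?_⟩
  have hgg : g * g = (g' * h) * (g' * h) := by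
    rcases c.eq_or_eq hprod with e | e
    · rw [e]
    · rw [e, (c.commute_z _).mul_mul_mul_comm, c.z_mul_self, one_mul]
  rw [hgg, hcm.symm.mul_mul_mul_comm, hg'sq, c.sq_dt h (hh.symm ▸ hdT), pow_succ]

theorem involution_support {t : C} (ht : orderOf t = 2) (hne : t ≠ c.z) :
    orderOf (c.φ t) = 2 ∧ 0 < (c.φ t).support.card ∧ 8 ∣ (c.φ t).support.card := by
  have htt : t * t = 1 := by rw [← pow_two, ← ht, pow_orderOf_eq_one]
  have h1 : c.φ t ≠ 1 := fun h => by
    rcases (c.ker_iff t).1 h with h | h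
    · rw [h, orderOf_one] at ht; omega
    · exact hne h
  have h2 : c.φ t * c.φ t = 1 := by rw [← map_mul, htt, map_one]
  refine ⟨orderOf_eq_prime (by rw [pow_two, h2]) h1,
    Finset.card_pos.2 (Finset.nonempty_iff_ne_empty.2 fun h => h1 (support_eq_empty_iff.1 h)), ?_⟩
  obtain ⟨j, hj, hz⟩ := c.sq_of_involutive _ t rfl h2
  rw [hj]
  rcases Nat.even_or_odd' j with ⟨i, rfl | rfl⟩
  · exact ⟨i, by ring⟩
  · exfalso
    rw [htt, pow_succ, pow_mul, pow_two, c.z_mul_self, one_pow, one_mul] at hz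
    exact c.z_ne_one hz.symm

end Cov

end Cfsg.Agent.Lib.DoubleAlt12
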