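import Mathlib

/-!
# Involution centralisers that are non-split double covers of alternating groups (S1645): interfaces

`Cov C n` : `C` is a non-split double cover of `Alt n` via `φ`, with kernel `⟨z⟩`.
`Conf G n` : a group `G` with an involution whose centraliser is such a cover.
-/

set_option autoImplicit false

namespace Cfsg.Agent.Lib.DoubleAlt12

open Equiv

universe u

/-- A permutation which is a product of two disjoint transpositions. -/
def IsDT {α : Type*} [DecidableEq α] (a : Perm α) : Prop :=
  ∃ p q r s : α, [p, q, r, s].Nodup ∧ a = swap p q * swap r s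

/-- A non-split double cover of the alternating group of degree `n`: every lift of a product of two disjoint
transpositions squares to the central involution. -/
structure Cov (C : Type*) [Group C] (n : ℕ) where
  /-- the covering map -/
  φ : C →* Perm (Fin n)
  range_eq : φ.range = alternatingGroup (Fin n)
  /-- the central involution -/
  z : C
  hz : orderOf z = 2
  central : ∀ g : C, g * z = z * g
  ker_iff : ∀ g : C, φ g = 1 ↔ g = 1 ∨ g = z
  sq_dt : ∀ g : C, IsDT (φ g) → g * g = z

/-- A group with an involution `z` whose centraliser is a non-split double cover of `Alt n`. -/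
structure Conf (G : Type u) [Group G] (n : ℕ) where
  /-- the involution -/
  z : G
  hz : orderOf z = 2
  /-- the centraliser as a double cover -/
  cov : Cov (Subgroup.centralizer ({z} : Set G)) n
  cov_z : (cov.z : G) = z

variable {G : Type u} [Group G] {n : ℕ}

/-- The centraliser of every lift of a three cycle lies in the centraliser of `z`. -/
def XCent (K : Conf G n) : Prop :=
  ∀ x : Subgroup.centralizer ({K.z} : Set G), orderOf x = 3 → (K.cov.φ x).IsThreeCycle →
    ∀ g : G, Commute g (x : G) → Commute g K.z

/-- The exceptional local configuration in degree nine: a lift `x` of a three cycle whose centraliser has a normal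
subgroup `R` of order `243`, meeting the centraliser of `z` in `⟨x⟩` and covering modulo it. -/
def BigCore (K : Conf G n) : Prop :=
  ∃ (x : Subgroup.centralizer ({K.z} : Set G)) (R : Subgroup G),
    orderOf x = 3 ∧ (K.cov.φ x).IsThreeCycle ∧ Nat.card R = 243 ∧
    R ≤ Subgroup.centralizer ({(x : G)} : Set G) ∧
    Subgroup.centralizer ({(x : G)} : Set G) ≤ Subgroup.normalizer (R : Set G) ∧
    R ⊓ Subgroup.centralizer ({K.z} : Set G) = Subgroup.zpowers (x : G) ∧
    ∀ g : G, Commute g (x : G) → ∃ r ∈ R, Commute (r * g) K.z

/-- Brick: degree at least 13 is impossible. -/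
def LargeStmt : Prop :=
  ∀ (G : Type u) [Group G] [Finite G] [IsSimpleGroup G] (n : ℕ) (_ : Conf G n), 13 ≤ n → False

/-- Brick: degree 12 is impossible. -/
def TwelveStmt : Prop :=
  ∀ (G : Type u) [Group G] [Finite G] [IsSimpleGroup G] (_ : Conf G 12), False

/-- Brick: in degree 9 and 10 the centraliser of a three cycle is as expected, up to one configuration. -/
def ThreeCentralStmt : Prop :=
  ∀ (G : Type u) [Group G] [Finite G] [IsSimpleGroup G] (n : ℕ) (K : Conf G n),
    n = 9 ∨ n = 10 → XCent K ∨ (n = 9 ∧ BigCore K)

/-- Brick: the exceptional configuration is impossible. -/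
def BigCoreStmt : Prop :=
  ∀ (G : Type u) [Group G] [Finite G] [IsSimpleGroup G] (K : Conf G 9), BigCore K → False

/-- Brick: the local consequences in degree 9 and 10. For `d` over a product of two three cycles: `81` does not
divide the order of its centraliser, and every involution other than `z` in the centraliser of `z` and `d` is
conjugate to `z` inside the centraliser of `d`. -/
def LocalStmt : Prop :=
  ∀ (G : Type u) [Group G] [Finite G] [IsSimpleGroup G] (n : ℕ) (K : Conf G n),
    n = 9 ∨ n = 10 → XCent K →
    ∀ d : Subgroup.centralizer ({K.z} : Set G), orderOf d = 3 →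
      (∃ σ τ : Perm (Fin n), σ.IsThreeCycle ∧ τ.IsThreeCycle ∧ σ.Disjoint τ ∧ K.cov.φ d = σ * τ) →
      ¬ 81 ∣ Nat.card (Subgroup.centralizer ({(d : G)} : Set G)) ∧
        ∀ u : Subgroup.centralizer ({K.z} : Set G), orderOf u = 2 → u ≠ K.cov.z → Commute u d →
          ∃ g : G, Commute g (d : G) ∧ g * (u : G) * g⁻¹ = K.z

/-- Brick: degree 9 with small three centraliser is impossible. -/
def NineStmt : Prop :=
  ∀ (G : Type u) [Group G] [Finite G] [IsSimpleGroup G] (K : Conf G 9), XCent K → False

/-- Brick: degree 10 with small three centraliser is impossible. -/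
def TenStmt : Prop :=
  ∀ (G : Type u) [Group G] [Finite G] [IsSimpleGroup G] (K : Conf G 10), XCent K → False

/-- Brick: abelian subgroups of odd order inverted by an involution of the cover other than `z`. -/
def InvBoundStmt : Prop :=
  ∀ (C : Type u) [Group C] [Finite C] (n : ℕ) (c : Cov C n), n = 9 ∨ n = 10 →
    ∀ A : Subgroup C, Odd (Nat.card A) → (∀ a ∈ A, ∀ b ∈ A, Commute a b) →
      ∀ w : C, orderOf w = 2 → w ≠ c.z → (∀ a ∈ A, w * a * w⁻¹ = a⁻¹) →
        Nat.card A ∣ 1575 ∧ (n = 9 → Nat.card A ∣ 315)

end Cfsg.Agent.Lib.DoubleAlt12
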