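import Mathlib
import Cfsg.Agent.Lib.DoubleAlt12.Spec

/-!
# S1645: abelian subgroups of odd order inverted by an involution of the double cover

In degree at most ten the only abelian group of order `27` is generated by three disjoint three cycles, and a
permutation inverting it is odd.
-/

set_option autoImplicit false

namespace Cfsg.Agent.Lib.DoubleAlt12

open Equiv MulAction

namespace InvBound

variable {n : ℕ} (B : Subgroup (Perm (Fin n)))

theorem smul_eq (b : B) (x : Fin n) : b • x = (b : Perm (Fin n)) x := rfl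

theorem fix_orbit (hab : ∀ a ∈ B, ∀ b ∈ B, Commute a b) {b : B} {x y : Fin n}
    (hb : b ∈ stabilizer B x) (hy : y ∈ orbit B x) : b • y = y := by
  obtain ⟨c, rfl⟩ := hy
  rw [← mul_smul, show b * c = c * b from Subtype.ext (hab _ b.2 _ c.2).eq, mul_smul, hb]

/-- An element moving exactly the orbit of `a` among the points, with the behaviour of an inverting `g` there. -/
theorem swap_of_cycle {c g : Perm (Fin n)} (hg : g * c * g⁻¹ = c⁻¹) {a : Fin n} {O : Set (Fin n)}
    (hO : O = {a, c a, c⁻¹ a}) (hfix : ∀ y, y ∉ O → c y = y) (h1 : c a ≠ a) (h2 : c a ≠ c⁻¹ a)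
    (h3 : c (c a) = c⁻¹ a) :
    ∃ p ∈ O, ∃ q ∈ O, p ≠ q ∧ ∀ x ∈ O, g x = swap p q x := by
  have hgc : ∀ x, g (c x) = c⁻¹ (g x) := fun x => by
    rw [← hg]; simp
  have hgi : ∀ x, g (c⁻¹ x) = c (g x) := fun x => by
    have := hgc (c⁻¹ x)
    simp only [show c (c⁻¹ x) = x by simp] at this
    rw [this]; simp
  have h4 : c⁻¹ a ≠ a := fun e => h1 (by
    have := congrArg c e
    simpa using this.symm)
  have h5 : c⁻¹ (c⁻¹ a) = c a := by
    rw [← h3]; simp
  have hga : g a = a ∨ g a = c a ∨ g a = c⁻¹ a := by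
    by_contra hne
    have hn : g a ∉ O := by rw [hO]; simpa using hne
    have := hfix _ hn
    refine h1 (g.injective ?_)
    rw [hgc, Perm.inv_eq_iff_eq]
    exact this.symm
  subst hO
  rcases hga with e | e | e
  · refine ⟨c a, by simp, c⁻¹ a, by simp, h2, ?_⟩
    rintro x (rfl | rfl | rfl)
    · rw [e, swap_apply_of_ne_of_ne h1.symm h4.symm]
    · rw [hgc, e, swap_apply_left]
    · rw [hgi, e, swap_apply_right]
  · refine ⟨a, by simp, c a, by simp, h1.symm, ?_⟩
    rintro x (rfl | rfl | rfl)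
    · rw [e, swap_apply_left]
    · rw [hgc, e, swap_apply_right]; simp
    · rw [hgi, e, h3, swap_apply_of_ne_of_ne h4 h2.symm]
  · refine ⟨a, by simp, c⁻¹ a, by simp, h4.symm, ?_⟩
    rintro x (rfl | rfl | rfl)
    · rw [e, swap_apply_left]
    · rw [hgc, e, h5, swap_apply_of_ne_of_ne h1 h2]
    · rw [hgi, e, swap_apply_right]; simp

theorem sign_eq_neg_one (hn : n ≤ 10) (hcard : Nat.card B = 27)
    (hab : ∀ a ∈ B, ∀ b ∈ B, Commute a b) (g : Perm (Fin n))
    (hg : ∀ b ∈ B, g * b * g⁻¹ = b⁻¹) : Perm.sign g = -1 := by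
  classical
  have hdiv : ∀ x : Fin n, (orbit B x).ncard ∣ 27 := fun x => by
    rw [← hcard, ← index_stabilizer]
    exact Subgroup.index_dvd_card _
  have hle : ∀ x : Fin n, (orbit B x).ncard ≤ 10 := fun x =>
    ((Set.ncard_le_card _).trans (by simp)).trans hn
  have hindex_bot : ∀ S : Subgroup B, S = ⊥ → S.index = 27 := fun S h => by
    rw [h, Subgroup.index_bot, hcard]
  -- no orbit has more than three points
  have hle3 : ∀ x : Fin n, (orbit B x).ncard = 1 ∨ (orbit B x).ncard = 3 := by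
    intro x
    have hx := hdiv x
    have hx' := hle x
    have hcases : (orbit B x).ncard = 1 ∨ (orbit B x).ncard = 3 ∨ (orbit B x).ncard = 9 := by
      generalize hm : (orbit B x).ncard = m at hx hx'
      interval_cases m <;> revert hx <;> decide
    rcases hcases with h | h | h
    · exact Or.inl h
    · exact Or.inr h
    exfalso
    have hbot : stabilizer B x = ⊥ := by
      rw [eq_bot_iff]
      intro b hb
      rw [Subgroup.mem_bot]
      apply Subtype.ext
      ext1 y
      show b • y = y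
      by_cases hy : y ∈ orbit B x
      · exact fix_orbit B hab hb hy
      have hdis : Disjoint (orbit B x) (orbit B y) := by
        rw [Set.disjoint_left]
        intro t ht ht'
        exact hy (by rw [← (orbit_eq_iff.2 ht), orbit_eq_iff.2 ht']; exact mem_orbit_self y)
      have hsum := Set.ncard_union_eq hdis
      have := ((Set.ncard_le_card (orbit B x ∪ orbit B y)).trans (by simp)).trans hn
      have hy1 : (orbit B y).ncard ≤ 1 := by omega
      exact (Set.ncard_le_one (Set.toFinite _)).1 hy1 _ (mem_orbit y b) _ (mem_orbit_self y)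
    have := hindex_bot _ hbot
    rw [index_stabilizer, h] at this
    omega
  have hidx : ∀ x : Fin n, (stabilizer B x).index ≤ 3 := fun x => by
    rw [index_stabilizer]
    rcases hle3 x with h | h <;> omega
  have hne : ∀ S : Subgroup B, S.index ≤ 9 → ∃ b ∈ S, ∃ y : Fin n, b • y ≠ y := by
    intro S hS
    by_contra! hall
    have : S = ⊥ := by
      rw [eq_bot_iff]
      intro b hb
      rw [Subgroup.mem_bot]
      apply Subtype.ext
      ext1 y
      exact hall b hb y
    have := hindex_bot S this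
    omega
  have hinf : ∀ x y : Fin n, (stabilizer B x ⊓ stabilizer B y).index ≤ 9 := fun x y =>
    Subgroup.index_inf_le.trans (by nlinarith [hidx x, hidx y])
  obtain ⟨-, -, a1, -⟩ := hne ⊤ (by simp)
  obtain ⟨b1, -, a1, hb1⟩ := hne ⊤ (by simp)
  obtain ⟨b2, hb2s, a2, hb2⟩ := hne (stabilizer B a1) (by linarith [hidx a1])
  obtain ⟨b3, hb3s, a3, hb3⟩ := hne (stabilizer B a1 ⊓ stabilizer B a2) (hinf a1 a2)
  have h12 : a2 ∉ orbit B a1 := fun h => hb2 (fix_orbit B hab hb2s h)
  have h13 : a3 ∉ orbit B a1 := fun h => hb3 (fix_orbit B hab hb3s.1 h)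
  have h23 : a3 ∉ orbit B a2 := fun h => hb3 (fix_orbit B hab hb3s.2 h)
  have hdisj : ∀ x y : Fin n, y ∉ orbit B x → Disjoint (orbit B x) (orbit B y) := by
    intro x y hy
    rw [Set.disjoint_left]
    intro t ht ht'
    exact hy (by rw [← (orbit_eq_iff.2 ht), orbit_eq_iff.2 ht']; exact mem_orbit_self y)
  have hthree : ∀ (x : Fin n) (b : B), b • x ≠ x → (orbit B x).ncard = 3 := by
    intro x b hb
    refine (hle3 x).resolve_left fun h => hb ?_
    exact (Set.ncard_le_one (Set.toFinite _)).1 h.le _ (mem_orbit x b) _ (mem_orbit_self x)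
  have d12 := hdisj _ _ h12
  have d13 := hdisj _ _ h13
  have d23 := hdisj _ _ h23
  have hU : ∀ y : Fin n, y ∉ orbit B a1 ∪ orbit B a2 ∪ orbit B a3 → ∀ b : B, b • y = y := by
    intro y hy b
    simp only [Set.mem_union, not_or] at hy
    have e := hdisj _ _ hy.1.1
    have e' := hdisj _ _ hy.1.2
    have e'' := hdisj _ _ hy.2
    have dU : Disjoint (orbit B a1 ∪ orbit B a2 ∪ orbit B a3) (orbit B y) := by
      simp only [Set.disjoint_union_left]; exact ⟨⟨e, e'⟩, e''⟩
    have hc := Set.ncard_union_eq dU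
    have d3 : Disjoint (orbit B a1 ∪ orbit B a2) (orbit B a3) :=
      Set.disjoint_union_left.2 ⟨d13, d23⟩
    rw [Set.ncard_union_eq d3, Set.ncard_union_eq d12, hthree a1 b1 hb1, hthree a2 b2 hb2,
      hthree a3 b3 hb3] at hc
    have := ((Set.ncard_le_card (orbit B a1 ∪ orbit B a2 ∪ orbit B a3 ∪ orbit B y)).trans (by simp)).trans hn
    have hy1 : (orbit B y).ncard ≤ 1 := by omega
    exact (Set.ncard_le_one (Set.toFinite _)).1 hy1 _ (mem_orbit y b) _ (mem_orbit_self y)
  -- on each of the three orbits `g` is a transposition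
  have key : ∀ i j k : Fin n, (orbit B i).ncard = 3 →
      (∀ y, y ∉ orbit B i → y ∉ orbit B j → y ∉ orbit B k → ∀ b : B, b • y = y) →
      ∃ p ∈ orbit B i, ∃ q ∈ orbit B i, p ≠ q ∧ ∀ x ∈ orbit B i, g x = swap p q x := by
    intro i j k hi hout
    obtain ⟨c, hc, y, hy⟩ := hne (stabilizer B j ⊓ stabilizer B k) (hinf j k)
    have hfix : ∀ t, t ∉ orbit B i → c • t = t := fun t ht => by
      by_cases h : t ∈ orbit B j
      · exact fix_orbit B hab hc.1 h
      by_cases h' : t ∈ orbit B k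
      · exact fix_orbit B hab hc.2 h'
      exact hout t ht h h' c
    have h1 : c • i ≠ i := by
      intro h
      refine hy ?_
      by_cases hyi : y ∈ orbit B i
      · exact fix_orbit B hab h hyi
      · exact hfix y hyi
    have h2 : c • i ≠ c⁻¹ • i := by
      intro h
      refine h1 ?_
      have hsq : (c ^ 2) • i = i := by
        rw [pow_two, mul_smul, h, smul_inv_smul]
      have hc27 : c ^ 27 = 1 := by rw [← hcard]; exact pow_card_eq_one'
      have : c ^ 2 ∈ stabilizer B i := hsq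
      have h28 := (stabilizer B i).pow_mem this 14
      rw [← pow_mul, show 2 * 14 = 27 + 1 by norm_num, pow_succ, hc27, one_mul] at h28
      exact h28
    have h4 : c⁻¹ • i ≠ i := fun h => h1 (by
      conv_lhs => rw [← h]
      rw [smul_inv_smul])
    have hsub : ({i, c • i, c⁻¹ • i} : Set (Fin n)) ⊆ orbit B i := by
      rintro t (rfl | rfl | rfl)
      · exact mem_orbit_self _
      · exact mem_orbit _ _
      · exact mem_orbit _ _
    have hO : orbit B i = ({i, c • i, c⁻¹ • i} : Set (Fin n)) :=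
      (Set.eq_of_subset_of_ncard_le hsub (by
        rw [hi, Set.ncard_eq_three.2 ⟨i, c • i, c⁻¹ • i, h1.symm, h4.symm, h2, rfl⟩])).symm
    have h3 : c • (c • i) = c⁻¹ • i := by
      have hm : c • (c • i) ∈ orbit B i := by rw [← mul_smul]; exact mem_orbit _ _
      rw [hO] at hm
      rcases hm with h | h | h
      · exfalso
        apply h2
        conv_rhs => rw [← h]
        rw [inv_smul_smul]
      · exact absurd (smul_left_cancel c h) h1
      · exact h
    exact swap_of_cycle (c := (c : Perm (Fin n))) (hg _ c.2) hO hfix h1 h2 h3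
  have hfixU := hU
  simp only [Set.mem_union, not_or, and_imp] at hfixU
  obtain ⟨p1, hp1, q1, hq1, ne1, e1⟩ := key a1 a2 a3 (hthree _ _ hb1) hfixU
  obtain ⟨p2, hp2, q2, hq2, ne2, e2⟩ :=
    key a2 a1 a3 (hthree _ _ hb2) (fun y h2' h1' h3' => hfixU y h1' h2' h3')
  obtain ⟨p3, hp3, q3, hq3, ne3, e3⟩ :=
    key a3 a1 a2 (hthree _ _ hb3) (fun y h3' h1' h2' => hfixU y h1' h2' h3')
  have hne' : ∀ {x p : Fin n} {s t : Set (Fin n)}, Disjoint s t → x ∈ s → p ∈ t → x ≠ p :=
    fun hd hx hp e => Set.disjoint_left.1 hd hx (e ▸ hp)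
  have m1 : ∀ x ∈ orbit B a1, swap p1 q1 x ∈ orbit B a1 := fun x hx => by
    rw [swap_apply_def]; split_ifs <;> assumption
  have m2 : ∀ x ∈ orbit B a2, swap p2 q2 x ∈ orbit B a2 := fun x hx => by
    rw [swap_apply_def]; split_ifs <;> assumption
  have m3 : ∀ x ∈ orbit B a3, swap p3 q3 x ∈ orbit B a3 := fun x hx => by
    rw [swap_apply_def]; split_ifs <;> assumption
  have hgeq : g = swap p1 q1 * swap p2 q2 * swap p3 q3 := by
    -- the product agrees with `g` on each orbit, and outside at most one point is left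
    have hon : ∀ x ∈ orbit B a1 ∪ orbit B a2 ∪ orbit B a3,
        g x = (swap p1 q1 * swap p2 q2 * swap p3 q3) x := by
      rintro x ((hx | hx) | hx)
      · rw [Perm.mul_apply, Perm.mul_apply, swap_apply_of_ne_of_ne (hne' d13 hx hp3) (hne' d13 hx hq3),
          swap_apply_of_ne_of_ne (hne' d12 hx hp2) (hne' d12 hx hq2)]
        exact e1 x hx
      · rw [Perm.mul_apply, Perm.mul_apply, swap_apply_of_ne_of_ne (hne' d23 hx hp3) (hne' d23 hx hq3),
          swap_apply_of_ne_of_ne (hne' d12.symm (m2 x hx) hp1) (hne' d12.symm (m2 x hx) hq1)]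
        exact e2 x hx
      · rw [Perm.mul_apply, Perm.mul_apply,
          swap_apply_of_ne_of_ne (hne' d23.symm (m3 x hx) hp2) (hne' d23.symm (m3 x hx) hq2),
          swap_apply_of_ne_of_ne (hne' d13.symm (m3 x hx) hp1) (hne' d13.symm (m3 x hx) hq1)]
        exact e3 x hx
    ext1 y
    by_cases hy : y ∈ orbit B a1 ∪ orbit B a2 ∪ orbit B a3
    · exact hon y hy
    -- `y` is the only point left
    have hy' := hy
    simp only [Set.mem_union, not_or] at hy'
    set h := swap p1 q1 * swap p2 q2 * swap p3 q3 with hh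
    have hhy : h y = y := by
      rw [hh, Perm.mul_apply, Perm.mul_apply,
        swap_apply_of_ne_of_ne (fun e : y = p3 => hy'.2 (e ▸ hp3)) (fun e : y = q3 => hy'.2 (e ▸ hq3)),
        swap_apply_of_ne_of_ne (fun e : y = p2 => hy'.1.2 (e ▸ hp2)) (fun e : y = q2 => hy'.1.2 (e ▸ hq2)),
        swap_apply_of_ne_of_ne (fun e : y = p1 => hy'.1.1 (e ▸ hp1)) (fun e : y = q1 => hy'.1.1 (e ▸ hq1))]
    rw [hhy]
    by_contra hgy
    have hU9 : (orbit B a1 ∪ orbit B a2 ∪ orbit B a3).ncard = 9 := by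
      rw [Set.ncard_union_eq (Set.disjoint_union_left.2 ⟨d13, d23⟩), Set.ncard_union_eq d12,
        hthree a1 b1 hb1, hthree a2 b2 hb2, hthree a3 b3 hb3]
    have hgyU : g y ∈ orbit B a1 ∪ orbit B a2 ∪ orbit B a3 := by
      by_contra hgn
      have hsub : ({y, g y} : Set (Fin n)) ⊆ (orbit B a1 ∪ orbit B a2 ∪ orbit B a3)ᶜ := by
        rintro t (rfl | rfl) <;> assumption
      have := Set.ncard_le_ncard hsub (Set.toFinite _)
      rw [Set.ncard_pair (Ne.symm hgy), Set.ncard_compl, hU9, Nat.card_eq_fintype_card,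
        Fintype.card_fin] at this
      omega
    -- but `g` maps the union to itself
    have hmaps : Set.MapsTo g (orbit B a1 ∪ orbit B a2 ∪ orbit B a3) (orbit B a1 ∪ orbit B a2 ∪ orbit B a3) := by
      rintro x ((hx | hx) | hx)
      · rw [e1 x hx]; exact Or.inl (Or.inl (m1 x hx))
      · rw [e2 x hx]; exact Or.inl (Or.inr (m2 x hx))
      · rw [e3 x hx]; exact Or.inr (m3 x hx)
    have himg : g '' (orbit B a1 ∪ orbit B a2 ∪ orbit B a3) = orbit B a1 ∪ orbit B a2 ∪ orbit B a3 :=
      Set.eq_of_subset_of_ncard_le hmaps.image_subset (Set.ncard_image_of_injective _ g.injective).ge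
    obtain ⟨x, hx, hxy⟩ := himg.ge hgyU
    exact hy (g.injective hxy ▸ hx)
  rw [hgeq]
  simp [ne1, ne2, ne3]

variable {C : Type*} [Group C] [Finite C]

omit [Finite C] in
theorem card_cover (c : Cov C n) (hn : 2 ≤ n) : Nat.card C = n.factorial := by
  have hker : Nat.card c.φ.ker = 2 := by
    have hz1 : c.z ≠ 1 := fun e => by
      have := c.hz; rw [e, orderOf_one] at this; norm_num at this
    have : (c.φ.ker : Set C) = {1, c.z} := by
      ext g
      simp [c.ker_iff g]
    rw [← SetLike.coe_sort_coe, Nat.card_coe_set_eq, this, Set.ncard_pair (Ne.symm hz1)]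
  have h1 := Subgroup.card_mul_index c.φ.ker
  rw [Subgroup.index_ker, hker, c.range_eq] at h1
  have : Nontrivial (Fin n) := Fin.nontrivial_iff_two_le.2 hn
  have h2 := two_mul_nat_card_alternatingGroup (α := Fin n)
  rw [← h1, h2, Nat.card_perm, Nat.card_fin]

theorem not_dvd (c : Cov C n) (hn : n ≤ 10) (A : Subgroup C) (hodd : Odd (Nat.card A))
    (hab : ∀ a ∈ A, ∀ b ∈ A, Commute a b) (w : C) (hw : ∀ a ∈ A, w * a * w⁻¹ = a⁻¹) :
    ¬ 27 ∣ Nat.card A := by
  intro h27
  have : Fact (Nat.Prime 3) := ⟨Nat.prime_three⟩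
  obtain ⟨P, hP⟩ := Sylow.exists_subgroup_card_pow_prime 3 (G := A) (n := 3) h27
  set B : Subgroup (Perm (Fin n)) := P.map (c.φ.comp A.subtype) with hB
  have hinj : Function.Injective (c.φ.comp A.subtype) := by
    rw [injective_iff_map_eq_one]
    intro a ha
    rcases (c.ker_iff (a : C)).1 ha with h | h
    · exact Subtype.ext h
    · exfalso
      have hd := orderOf_dvd_natCard a
      rw [← Subgroup.orderOf_coe, h, c.hz] at hd
      exact (Nat.not_even_iff_odd.2 hodd) (even_iff_two_dvd.2 hd)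
  have hcard : Nat.card B = 27 := by
    rw [hB, ← Nat.card_congr (P.equivMapOfInjective _ hinj).toEquiv, hP]; norm_num
  have hBab : ∀ a ∈ B, ∀ b ∈ B, Commute a b := by
    rintro _ ⟨a, -, rfl⟩ _ ⟨b, -, rfl⟩
    exact (hab _ a.2 _ b.2).map c.φ
  have hg : ∀ b ∈ B, c.φ w * b * (c.φ w)⁻¹ = b⁻¹ := by
    rintro _ ⟨a, -, rfl⟩
    show c.φ w * c.φ a * (c.φ w)⁻¹ = (c.φ a)⁻¹
    rw [← map_inv, ← map_mul, ← map_mul, hw _ a.2, map_inv]
  have hs := sign_eq_neg_one B hn hcard hBab (c.φ w) hg
  have hmem : c.φ w ∈ alternatingGroup (Fin n) := c.range_eq ▸ ⟨w, rfl⟩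
  rw [Equiv.Perm.mem_alternatingGroup] at hmem
  rw [hmem] at hs
  exact absurd hs (by decide)

end InvBound

universe u

theorem invBound : InvBoundStmt.{u} := by
  intro C _ _ n c hn A hodd hab w _ _ hw
  have hle : n ≤ 10 := by omega
  have h27 := InvBound.not_dvd c hle A hodd hab w hw
  have hC := InvBound.card_cover c (by omega)
  have hdvd : Nat.card A ∣ n.factorial := hC ▸ Subgroup.card_subgroup_dvd_card A
  have hodd' : ∀ m k, Nat.card A ∣ 2 ^ k * m → Nat.card A ∣ m := fun m k h =>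
    ((Nat.coprime_two_right.2 hodd).pow_right k).dvd_of_dvd_mul_left h
  -- a divisor of `81 * m` not divisible by `27` divides `9 * m`
  have h3 : ∀ m, ¬ 3 ∣ m → Nat.card A ∣ 81 * m → Nat.card A ∣ 9 * m := by
    intro m _ h
    obtain ⟨a, b, ha, hb, hab'⟩ := Nat.dvd_mul.1 h
    have hpow : a ∣ 3 ^ 4 := by simpa using ha
    obtain ⟨i, hi, rfl⟩ := (Nat.dvd_prime_pow Nat.prime_three).1 hpow
    have hi2 : i ≤ 2 := by
      by_contra hi3
      exact h27 ((pow_dvd_pow 3 (show 3 ≤ i by omega)).trans ⟨b, hab'.symm⟩)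
    rw [← hab']
    exact mul_dvd_mul (pow_dvd_pow 3 hi2) hb
  rcases hn with rfl | rfl
  · have h : Nat.card A ∣ 315 := h3 35 (by norm_num) (hodd' _ 7 (by simpa [Nat.factorial] using hdvd))
    exact ⟨h.trans (by norm_num), fun _ => h⟩
  · exact ⟨h3 175 (by norm_num) (hodd' _ 8 (by simpa [Nat.factorial] using hdvd)), fun h => absurd h (by norm_num)⟩

end Cfsg.Agent.Lib.DoubleAlt12
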