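import Cfsg.Agent.Lib.DoubleAlt12.Spec
import Mathlib.GroupTheory.SpecificGroups.Alternating.Simple

/-!
# Pairs and fixed points of a permutation of order two (brick `Large` of S1645)
-/

set_option autoImplicit false

namespace Cfsg.Agent.Lib.DoubleAlt12.Large

open Equiv

/-- `k` pairs and `m` further points. -/
abbrev Pts (k m : ℕ) : Type := (Fin k × Bool) ⊕ Fin m

variable {k m n : ℕ}

/-- The standard involution: it exchanges the two members of each pair. -/
def flipAll (k m : ℕ) : Perm (Pts k m) :=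
  Function.Involutive.toPerm (Sum.map (fun p => (p.1, !p.2)) id) (by rintro (⟨i, b⟩ | f) <;> simp)

@[simp] theorem flipAll_inl (i : Fin k) (b : Bool) :
    flipAll k m (Sum.inl (i, b)) = Sum.inl (i, !b) := rfl

@[simp] theorem flipAll_inr (f : Fin m) : flipAll k m (Sum.inr f) = Sum.inr f := rfl

theorem exists_model (π : Perm (Fin n)) (hπ : orderOf π = 2) :
    ∃ (k m : ℕ) (e : Pts k m ≃ Fin n),
      π = e.permCongrHom (flipAll k m) ∧ π.support.card = 2 * k ∧ 2 * k + m = n := by
  classical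
  have h2 : ∀ p, π (π p) = p := by
    intro p
    have h := pow_orderOf_eq_one π
    rw [hπ, sq] at h
    exact Perm.ext_iff.1 h p
  set k := Fintype.card {p : Fin n // p < π p} with hk
  set m := Fintype.card {p : Fin n // π p = p} with hm
  set eR := (Fintype.equivFin {p : Fin n // p < π p}).symm
  set eF := (Fintype.equivFin {p : Fin n // π p = p}).symm
  let f : Pts k m → Fin n :=
    Sum.elim (fun q => if q.2 then π (eR q.1).1 else (eR q.1).1) (fun i => (eF i).1)
  have hinj : Function.Injective f := by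
    rintro (⟨i, b⟩ | i) (⟨j, c⟩ | j) h
    · have hi := (eR i).2
      have hj := (eR j).2
      have eRinj : ∀ {x y : Fin k}, (eR x).1 = (eR y).1 → x = y := fun h => eR.injective (Subtype.ext h)
      cases b <;> cases c <;> simp [f] at h
      · rw [eRinj h]
      · rw [h, h2] at hi
        exact absurd hi (not_lt.2 hj.le)
      · rw [← h, h2] at hj
        exact absurd hj (not_lt.2 hi.le)
      · rw [eRinj h]
    · have hi := (eR i).2
      have hj := (eF j).2
      cases b <;> simp [f] at h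
      · rw [h, hj] at hi; exact absurd hi (lt_irrefl _)
      · rw [← h, h2] at hj; rw [← hj] at hi; exact absurd hi (lt_irrefl _)
    · have hi := (eR j).2
      have hj := (eF i).2
      cases c <;> simp [f] at h
      · rw [← h, hj] at hi; exact absurd hi (lt_irrefl _)
      · rw [h, h2] at hj; rw [← hj] at hi; exact absurd hi (lt_irrefl _)
    · simp [f] at h
      rw [eF.injective (Subtype.ext h)]
  have hsurj : Function.Surjective f := by
    intro p
    rcases lt_trichotomy p (π p) with h | h | h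
    · exact ⟨Sum.inl (eR.symm ⟨p, h⟩, false), by simp [f]⟩
    · exact ⟨Sum.inr (eF.symm ⟨p, h.symm⟩), by simp [f]⟩
    · exact ⟨Sum.inl (eR.symm ⟨π p, by rwa [h2]⟩, true), by simp [f, h2]⟩
  let e : Pts k m ≃ Fin n := Equiv.ofBijective f ⟨hinj, hsurj⟩
  have hcard : 2 * k + m = n := by
    have := Fintype.card_congr e
    simp at this
    omega
  refine ⟨k, m, e, ?_, ?_, hcard⟩
  · ext p
    obtain ⟨q, rfl⟩ := e.surjective p
    show ((π (e q) : Fin n) : ℕ) = ((e (flipAll k m (e.symm (e q))) : Fin n) : ℕ)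
    rw [e.symm_apply_apply]
    show ((π (f q) : Fin n) : ℕ) = ((f (flipAll k m q) : Fin n) : ℕ)
    rcases q with ⟨i, b⟩ | i
    · cases b <;> simp [f, h2]
    · simp [f, (eF i).2]
  · have h : π.support = (Finset.univ.filter fun p => π p = p)ᶜ := by
      ext p; simp
    rw [h, Finset.card_compl, Fintype.card_fin, ← Fintype.card_subtype, ← hm]
    omega

/-- The centraliser of the standard involution. -/
abbrev Cz (k m : ℕ) : Subgroup (Perm (Pts k m)) :=
  Subgroup.centralizer ({flipAll k m} : Set (Perm (Pts k m)))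

theorem cz_comm (σ : Cz k m) (p : Pts k m) :
    flipAll k m ((σ : Perm (Pts k m)) p) = (σ : Perm (Pts k m)) (flipAll k m p) := by
  have h : flipAll k m * (σ : Perm (Pts k m)) = (σ : Perm (Pts k m)) * flipAll k m :=
    Subgroup.mem_centralizer_iff.1 σ.2 _ (Set.mem_singleton _)
  exact Perm.ext_iff.1 h p

theorem cz_inr (σ : Cz k m) (f : Fin m) : ∃ g, (σ : Perm (Pts k m)) (Sum.inr f) = Sum.inr g := by
  rcases h : (σ : Perm (Pts k m)) (Sum.inr f) with ⟨i, b⟩ | g
  · have := cz_comm σ (Sum.inr f)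
    simp [h] at this
  · exact ⟨g, rfl⟩

theorem cz_inl (σ : Cz k m) (i : Fin k) : ∃ j c, ∀ b,
    (σ : Perm (Pts k m)) (Sum.inl (i, b)) = Sum.inl (j, xor b c) := by
  rcases h : (σ : Perm (Pts k m)) (Sum.inl (i, false)) with ⟨j, c⟩ | g
  · refine ⟨j, c, fun b => ?_⟩
    cases b
    · simpa using h
    · have := cz_comm σ (Sum.inl (i, false))
      simp [h] at this
      simp [← this]
  · have := cz_comm σ (Sum.inl (i, false))
    rw [h, flipAll_inr, flipAll_inl] at this
    have := (σ : Perm (Pts k m)).injective (h.trans this)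
    simp at this

/-- The action on pairs. -/
def pm (σ : Cz k m) (i : Fin k) : Fin k :=
  Sum.elim Prod.fst (fun _ => i) ((σ : Perm (Pts k m)) (Sum.inl (i, false)))

theorem pm_spec (σ : Cz k m) (i : Fin k) (b : Bool) :
    ∃ c, (σ : Perm (Pts k m)) (Sum.inl (i, b)) = Sum.inl (pm σ i, c) := by
  obtain ⟨j, c, h⟩ := cz_inl σ i
  refine ⟨xor b c, ?_⟩
  rw [h b, pm, h false]
  rfl

theorem pm_eq {σ : Cz k m} {i j : Fin k} {b c : Bool}
    (h : (σ : Perm (Pts k m)) (Sum.inl (i, b)) = Sum.inl (j, c)) : pm σ i = j := by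
  obtain ⟨c', h'⟩ := pm_spec σ i b
  rw [h'] at h
  exact congrArg Prod.fst (Sum.inl_injective h)

theorem pm_mul (σ τ : Cz k m) (i : Fin k) : pm (σ * τ) i = pm σ (pm τ i) := by
  obtain ⟨c, h⟩ := pm_spec τ i false
  obtain ⟨d, h'⟩ := pm_spec σ (pm τ i) c
  refine pm_eq (b := false) (c := d) ?_
  rw [Subgroup.coe_mul, Perm.mul_apply, h, h']

theorem pm_one (i : Fin k) : pm (1 : Cz k m) i = i := rfl

/-- The homomorphism to the permutations of the pairs. -/
def pairHom : Cz k m →* Perm (Fin k) where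
  toFun σ :=
    { toFun := pm σ
      invFun := pm σ⁻¹
      left_inv := fun i => by rw [← pm_mul, inv_mul_cancel, pm_one]
      right_inv := fun i => by rw [← pm_mul, mul_inv_cancel, pm_one] }
  map_one' := Equiv.ext fun i => pm_one (m := m) i
  map_mul' σ τ := Equiv.ext fun i => pm_mul σ τ i

theorem pairHom_apply (σ : Cz k m) (i : Fin k) : pairHom σ i = pm σ i := rfl

/-- The action on the fixed points. -/
def fm (σ : Cz k m) (i : Fin m) : Fin m :=
  Sum.elim (fun _ => i) id ((σ : Perm (Pts k m)) (Sum.inr i))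

theorem fm_spec (σ : Cz k m) (i : Fin m) :
    (σ : Perm (Pts k m)) (Sum.inr i) = Sum.inr (fm σ i) := by
  obtain ⟨g, h⟩ := cz_inr σ i
  rw [fm, h]
  rfl

theorem fm_mul (σ τ : Cz k m) (i : Fin m) : fm (σ * τ) i = fm σ (fm τ i) := by
  apply Sum.inr_injective (α := Fin k × Bool)
  rw [← fm_spec, Subgroup.coe_mul, Perm.mul_apply, fm_spec, fm_spec]

theorem fm_one (i : Fin m) : fm (1 : Cz k m) i = i := rfl

/-- The homomorphism to the permutations of the fixed points. -/
def fixHom : Cz k m →* Perm (Fin m) where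
  toFun σ :=
    { toFun := fm σ
      invFun := fm σ⁻¹
      left_inv := fun i => by rw [← fm_mul, inv_mul_cancel, fm_one]
      right_inv := fun i => by rw [← fm_mul, mul_inv_cancel, fm_one] }
  map_one' := Equiv.ext fun i => fm_one (k := k) i
  map_mul' σ τ := Equiv.ext fun i => fm_mul σ τ i

theorem fixHom_apply (σ : Cz k m) (i : Fin m) : fixHom σ i = fm σ i := rfl

theorem inr_of_fix {σ : Cz k m} (h : fixHom σ = 1) (i : Fin m) :
    (σ : Perm (Pts k m)) (Sum.inr i) = Sum.inr i := by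
  rw [fm_spec, ← fixHom_apply, h, Perm.one_apply]

theorem inl_of_pair {σ : Cz k m} (h : pairHom σ = 1) (i : Fin k) :
    ∃ c, ∀ b, (σ : Perm (Pts k m)) (Sum.inl (i, b)) = Sum.inl (i, xor b c) := by
  obtain ⟨j, c, hc⟩ := cz_inl σ i
  have : j = i := by rw [← pm_eq (hc false), ← pairHom_apply, h, Perm.one_apply]
  subst this
  exact ⟨c, hc⟩

theorem inl_commutator {σ τ : Cz k m} (hσ : pairHom σ = 1) (hτ : pairHom τ = 1) (p : Fin k × Bool) :
    ((σ * τ * σ⁻¹ * τ⁻¹ : Cz k m) : Perm (Pts k m)) (Sum.inl p) = Sum.inl p := by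
  have hc : ∀ q : Fin k × Bool,
      ((σ : Perm (Pts k m)) * τ) (Sum.inl q) = ((τ : Perm (Pts k m)) * σ) (Sum.inl q) := by
    rintro ⟨i, b⟩
    obtain ⟨c, hc⟩ := inl_of_pair hσ i
    obtain ⟨d, hd⟩ := inl_of_pair hτ i
    simp only [Perm.mul_apply, hc, hd, Bool.xor_assoc, Bool.xor_comm c d]
  have h1 : pairHom (σ⁻¹ * τ⁻¹) = 1 := by rw [map_mul, map_inv, map_inv, hσ, hτ]; simp
  obtain ⟨i, b⟩ := p
  obtain ⟨c, hq⟩ := inl_of_pair h1 i
  have hq' := hq b
  show ((σ : Perm (Pts k m)) * τ * (σ : Perm (Pts k m))⁻¹ * (τ : Perm (Pts k m))⁻¹) (Sum.inl (i, b)) = _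
  rw [mul_assoc _ ((σ : Perm (Pts k m))⁻¹), Perm.mul_apply]
  simp only [Subgroup.coe_mul, Subgroup.coe_inv] at hq'
  rw [hq', hc, ← hq', ← Perm.mul_apply]
  simp [mul_assoc]

theorem sq_of_ker {σ : Cz k m} (hp : pairHom σ = 1) (hf : fixHom σ = 1) : σ * σ = 1 := by
  refine Subtype.ext (Equiv.ext ?_)
  rintro (⟨i, b⟩ | i)
  · obtain ⟨c, hc⟩ := inl_of_pair hp i
    simp [hc, Bool.xor_assoc]
  · simp [inr_of_fix hf]

/-- A permutation of the pairs, acting on both members. -/
def embPair (σ : Perm (Fin k)) : Cz k m :=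
  ⟨Equiv.sumCongr (σ.prodCongr (Equiv.refl Bool)) (Equiv.refl (Fin m)), by
    refine Subgroup.mem_centralizer_singleton_iff.2 (Equiv.ext ?_)
    rintro (⟨i, b⟩ | i) <;> simp⟩

theorem pairHom_embPair (σ : Perm (Fin k)) : pairHom (embPair (m := m) σ) = σ := Equiv.ext fun _ => rfl

theorem embPair_pow (σ : Perm (Fin k)) (j : ℕ) (h : σ ^ j = 1) :
    ((embPair (m := m) σ : Cz k m) : Perm (Pts k m)) ^ j = 1 := by
  have key : ∀ j, ((embPair (m := m) σ : Cz k m) : Perm (Pts k m)) ^ j =
      Equiv.sumCongr ((σ ^ j).prodCongr (Equiv.refl Bool)) (Equiv.refl (Fin m)) := by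
    intro j
    induction j with
    | zero => ext (⟨i, b⟩ | i) <;> rfl
    | succ j ih =>
      rw [pow_succ, ih, pow_succ]
      ext (⟨i, b⟩ | i) <;> rfl
  rw [key, h]
  ext (⟨i, b⟩ | i) <;> rfl

/-- A permutation of the fixed points. -/
def embFix (τ : Perm (Fin m)) : Cz k m :=
  ⟨Equiv.sumCongr (Equiv.refl (Fin k × Bool)) τ, by
    refine Subgroup.mem_centralizer_singleton_iff.2 (Equiv.ext ?_)
    rintro (⟨i, b⟩ | i) <;> simp⟩

theorem fixHom_embFix (τ : Perm (Fin m)) : fixHom (embFix (k := k) τ) = τ := Equiv.ext fun _ => rfl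

theorem pairHom_embFix (τ : Perm (Fin m)) : pairHom (embFix (k := k) τ) = 1 := Equiv.ext fun _ => rfl

theorem sign_embFix (τ : Perm (Fin m)) :
    Perm.sign ((embFix (k := k) τ : Cz k m) : Perm (Pts k m)) = Perm.sign τ := by
  show Perm.sign (Perm.sumCongr (1 : Perm (Fin k × Bool)) τ) = _
  rw [Perm.sign_sumCongr, map_one, one_mul]

theorem eq_embFix {σ : Cz k m} (h : ∀ p, (σ : Perm (Pts k m)) (Sum.inl p) = Sum.inl p) :
    σ = embFix (fixHom σ) := by
  refine Subtype.ext (Equiv.ext ?_)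
  rintro (p | i)
  · exact h p
  · exact fm_spec σ i

/-- The product of the flips of two pairs. -/
def flipTwo (i j : Fin k) : Perm (Pts k m) :=
  swap (Sum.inl (i, false)) (Sum.inl (i, true)) * swap (Sum.inl (j, false)) (Sum.inl (j, true))

theorem flipTwo_apply {i j : Fin k} (hij : i ≠ j) (l : Fin k) (b : Bool) :
    flipTwo (m := m) i j (Sum.inl (l, b)) =
      Sum.inl (l, if l = i ∨ l = j then !b else b) := by
  unfold flipTwo
  by_cases h1 : l = i
  · subst h1
    cases b <;> simp [Perm.mul_apply, swap_apply_def, hij]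
  · by_cases h2 : l = j
    · subst h2
      cases b <;> simp [Perm.mul_apply, swap_apply_def, h1]
    · cases b <;> simp [Perm.mul_apply, swap_apply_def, h1, h2]

theorem flipTwo_inr (i j : Fin k) (f : Fin m) : flipTwo i j (Sum.inr f) = Sum.inr f := by
  simp [flipTwo, swap_apply_def]

theorem flipTwo_mem {i j : Fin k} (hij : i ≠ j) : flipTwo (m := m) i j ∈ Cz k m := by
  refine Subgroup.mem_centralizer_singleton_iff.2 (Equiv.ext ?_)
  rintro (⟨l, b⟩ | f)
  · simp only [Perm.mul_apply, flipAll_inl, flipTwo_apply hij]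
    split_ifs <;> rfl
  · simp [flipTwo_inr]

theorem flipTwo_ker {i j : Fin k} (hij : i ≠ j) :
    pairHom (⟨flipTwo (m := m) i j, flipTwo_mem hij⟩ : Cz k m) = 1 ∧
      fixHom (⟨flipTwo (m := m) i j, flipTwo_mem hij⟩ : Cz k m) = 1 := by
  refine ⟨Equiv.ext fun l => ?_, Equiv.ext fun f => ?_⟩
  · exact pm_eq (b := false) (flipTwo_apply hij l false)
  · rw [fixHom_apply, Perm.one_apply]
    apply Sum.inr_injective (α := Fin k × Bool)
    rw [← fm_spec]
    exact flipTwo_inr i j f

theorem flipTwo_mul {a b c : Fin k} (hab : a ≠ b) (hac : a ≠ c) (hbc : b ≠ c) :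
    flipTwo (m := m) a b * flipTwo a c = flipTwo b c := by
  refine Equiv.ext ?_
  rintro (⟨l, x⟩ | f)
  · simp only [Perm.mul_apply, flipTwo_apply hab, flipTwo_apply hac, flipTwo_apply hbc]
    by_cases h1 : l = a <;> by_cases h2 : l = b <;> by_cases h3 : l = c <;> simp_all
  · simp [flipTwo_inr]

/-- The remaining flips are disjoint from two chosen ones. -/
theorem flipTwo_disjoint {i j : Fin k} (hij : i ≠ j) :
    (flipTwo (m := m) i j).Disjoint (flipAll k m * flipTwo i j) := by
  rintro (⟨l, b⟩ | f)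
  · by_cases h : l = i ∨ l = j
    · exact Or.inr (by simp [flipTwo_apply hij, h])
    · exact Or.inl (by simp [flipTwo_apply hij, h])
  · exact Or.inl (flipTwo_inr i j f)

theorem flipTwo_mul_rest {i j : Fin k} (hij : i ≠ j) :
    flipTwo (m := m) i j * (flipAll k m * flipTwo i j) = flipAll k m := by
  refine Equiv.ext ?_
  rintro (⟨l, b⟩ | f)
  · simp only [Perm.mul_apply, flipTwo_apply hij, flipAll_inl]
    split_ifs <;> simp
  · simp [flipTwo_inr]

theorem pair_one_of_flips (hk : 3 ≤ k) {σ : Cz k m}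
    (h : ∀ i j (hij : i ≠ j), Commute σ (⟨flipTwo (m := m) i j, flipTwo_mem hij⟩ : Cz k m)) :
    pairHom σ = 1 := by
  refine Equiv.ext fun i => ?_
  rw [pairHom_apply, Perm.one_apply]
  obtain ⟨j, c, hc⟩ := cz_inl σ i
  have hpm : pm σ i = j := pm_eq (hc false)
  rw [hpm]
  have key : ∀ l, i ≠ l → j = i ∨ j = l := by
    intro l hl
    have e := Perm.ext_iff.1 (congrArg Subtype.val (h i l hl).eq) (Sum.inl (i, false))
    simp only [Subgroup.coe_mul, Perm.mul_apply, hc, flipTwo_apply hl, true_or, if_true] at e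
    by_contra hne
    simp [hne] at e
  by_contra hne
  obtain ⟨l, hl1, hl2⟩ : ∃ l, l ≠ i ∧ l ≠ j := by
    have : ((Finset.univ : Finset (Fin k)) \ {i, j}).Nonempty := by
      rw [← Finset.card_pos, Finset.card_sdiff]
      have : ({i, j} ∩ (Finset.univ : Finset (Fin k))).card ≤ 2 := by
        refine (Finset.card_le_card Finset.inter_subset_left).trans ?_
        exact (Finset.card_insert_le _ _).trans (by simp)
      simp only [Finset.card_univ, Fintype.card_fin]
      omega
    obtain ⟨l, hl⟩ := this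
    simp at hl
    exact ⟨l, hl.1, hl.2⟩
  rcases key l (Ne.symm hl1) with h' | h'
  · exact hne h'
  · exact hl2 h'.symm

theorem one_of_commute_three {β : Type*} [DecidableEq β] [Fintype β] (hβ : 4 ≤ Fintype.card β)
    {σ : Perm β} (h : ∀ c : Perm β, c.IsThreeCycle → Commute σ c) : σ = 1 := by
  refine Equiv.ext fun p => ?_
  by_contra hp
  rw [Perm.one_apply] at hp
  obtain ⟨r, s, hr, hs, hrs⟩ : ∃ r s, (r ≠ p ∧ r ≠ σ p) ∧ (s ≠ p ∧ s ≠ σ p) ∧ r ≠ s := by
    have hc : 1 < ((Finset.univ : Finset β) \ {p, σ p}).card := by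
      rw [Finset.card_sdiff]
      have : ({p, σ p} ∩ (Finset.univ : Finset β)).card ≤ 2 := by
        refine (Finset.card_le_card Finset.inter_subset_left).trans ?_
        exact (Finset.card_insert_le _ _).trans (by simp)
      simp only [Finset.card_univ]
      omega
    obtain ⟨r, hr, s, hs, hrs⟩ := Finset.one_lt_card.1 hc
    simp at hr hs
    exact ⟨r, s, hr, hs, hrs⟩
  have h3 : (swap (σ p) r * swap (σ p) s).IsThreeCycle :=
    Perm.isThreeCycle_swap_mul_swap_same hr.2.symm hs.2.symm hrs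
  have e := Perm.ext_iff.1 (h _ h3).eq p
  have e1 : (swap (σ p) r * swap (σ p) s) p = p := by
    rw [Perm.mul_apply, swap_apply_of_ne_of_ne (Ne.symm hp) hs.1.symm,
      swap_apply_of_ne_of_ne (Ne.symm hp) hr.1.symm]
  rw [Perm.mul_apply, e1, Perm.mul_apply, Perm.mul_apply, swap_apply_left] at e
  rw [swap_apply_of_ne_of_ne hs.2 hrs.symm] at e
  exact hs.2 e.symm

theorem small_fix_one : ∀ (m : ℕ), m ≤ 3 → ∀ τ : Perm (Fin m), τ * τ = 1 → Perm.sign τ = 1 → τ = 1 := by
  intro m hm
  interval_cases m <;> decide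

theorem map_one_of_two_normal {W : Type*} [Group W] {β : Type*} [DecidableEq β] [Fintype β]
    (hβ : 5 ≤ Fintype.card β) (f : W →* Perm β) (hr : alternatingGroup β ≤ f.range)
    (N : Subgroup W) [hN : N.Normal] (h2 : IsPGroup 2 N) : ∀ x ∈ N, f x = 1 := by
  intro x hx
  set A := alternatingGroup β
  set M := N.map f
  have hM : IsPGroup 2 M := h2.map f
  have hnorm : ∀ a ∈ A, ∀ y ∈ M, a * y * a⁻¹ ∈ M := by
    rintro a ha y ⟨y, hy, rfl⟩
    obtain ⟨a, rfl⟩ := hr ha
    exact ⟨a * y * a⁻¹, hN.conj_mem y hy a, by simp⟩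
  have hn : (M.subgroupOf A).Normal := ⟨fun y hy a => hnorm a a.2 y hy⟩
  have : IsSimpleGroup A := alternatingGroup.isSimpleGroup (by rwa [Nat.card_eq_fintype_card])
  have hdisj : ∀ y ∈ M, y ∈ A → y = 1 := by
    rcases hn.eq_bot_or_eq_top with h | h
    · intro y hy hyA
      have : (⟨y, hyA⟩ : A) ∈ M.subgroupOf A := hy
      rw [h, Subgroup.mem_bot] at this
      exact congrArg Subtype.val this
    · exfalso
      obtain ⟨p, q, r, hpq, hpr, hqr⟩ :=
        Fintype.two_lt_card_iff.1 (show 2 < Fintype.card β by omega)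
      have h3 : (swap p q * swap p r).IsThreeCycle := Perm.isThreeCycle_swap_mul_swap_same hpq hpr hqr
      have hmem : (⟨_, h3.mem_alternatingGroup⟩ : A) ∈ M.subgroupOf A := h ▸ Subgroup.mem_top _
      have hmemM : swap p q * swap p r ∈ M := hmem
      obtain ⟨j, hj⟩ := IsPGroup.iff_orderOf.1 hM ⟨_, hmemM⟩
      rw [Subgroup.orderOf_mk, h3.orderOf] at hj
      rcases j with _ | j
      · norm_num at hj
      · rw [pow_succ] at hj; omega
  refine one_of_commute_three (by omega) fun c hc => ?_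
  have hy : f x ∈ M := Subgroup.mem_map_of_mem f hx
  have h1 : f x * (c * (f x)⁻¹ * c⁻¹) ∈ M := M.mul_mem hy (hnorm c hc.mem_alternatingGroup _ (M.inv_mem hy))
  have h2 : f x * (c * (f x)⁻¹ * c⁻¹) ∈ A := by
    have e : f x * (c * (f x)⁻¹ * c⁻¹) = (f x * c * (f x)⁻¹) * c⁻¹ := by group
    rw [e]
    exact A.mul_mem (alternatingGroup.normal.conj_mem c hc.mem_alternatingGroup _)
      (A.inv_mem hc.mem_alternatingGroup)
  have := hdisj _ h1 h2
  calc f x * c = f x * (c * (f x)⁻¹ * c⁻¹) * (c * f x) := by group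
    _ = c * f x := by rw [this, one_mul]

theorem two_dt_mul {β : Type*} [DecidableEq β] {p q r s : β} (h : [p, q, r, s].Nodup) :
    swap p q * swap r s * (swap p r * swap q s) = swap p s * swap q r := by
  simp [not_or] at h
  refine Equiv.ext fun t => ?_
  simp only [Perm.mul_apply, swap_apply_def]
  grind

theorem isDT_map {α : Type*} [DecidableEq α] (e : α ≃ Fin n) {p q r s : α} (h : [p, q, r, s].Nodup) :
    IsDT (e.permCongrHom (swap p q * swap r s)) := by
  refine ⟨e p, e q, e r, e s, h.map e.injective, ?_⟩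
  rw [map_mul]
  congr 1 <;>
  · refine Equiv.ext fun t => ?_
    obtain ⟨t, rfl⟩ := e.surjective t
    show e (_ : α) = _
    simp [e.injective.map_swap]

theorem isDT_flipTwo (e : Pts k m ≃ Fin n) {i j : Fin k} (hij : i ≠ j) :
    IsDT (e.permCongrHom (flipTwo i j)) :=
  isDT_map e (by simp [hij])

theorem isDT_embFix (e : Pts k m ≃ Fin n) {p q r s : Fin m} (h : [p, q, r, s].Nodup) :
    IsDT (e.permCongrHom ((embFix (k := k) (swap p q * swap r s) : Cz k m) : Perm (Pts k m))) := by
  have : ((embFix (k := k) (swap p q * swap r s) : Cz k m) : Perm (Pts k m)) =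
      swap (Sum.inr p) (Sum.inr q) * swap (Sum.inr r) (Sum.inr s) := by
    refine Equiv.ext ?_
    rintro (x | t)
    · simp [embFix, swap_apply_def]
    · show Sum.inr _ = _
      simp only [Perm.mul_apply, ← Sum.inr_injective.map_swap]
  rw [this]
  exact isDT_map e (h.map Sum.inr_injective)

theorem disjoint_map {α : Type*} (e : α ≃ Fin n) {σ τ : Perm α} (h : σ.Disjoint τ) :
    (e.permCongrHom σ).Disjoint (e.permCongrHom τ) := by
  intro t
  rcases h (e.symm t) with h' | h'
  · exact Or.inl (by show e (σ (e.symm t)) = t; rw [h', e.apply_symm_apply])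
  · exact Or.inr (by show e (τ (e.symm t)) = t; rw [h', e.apply_symm_apply])

theorem embFix_disjoint (τ : Perm (Fin m)) : ((embFix (k := k) τ : Cz k m) : Perm (Pts k m)).Disjoint (flipAll k m) := by
  rintro (p | i)
  · exact Or.inl rfl
  · exact Or.inr (flipAll_inr i)

theorem embFix_disjoint_of_fix (τ : Perm (Fin m)) {σ : Cz k m} (h : fixHom σ = 1) :
    ((embFix (k := k) τ : Cz k m) : Perm (Pts k m)).Disjoint (σ : Perm (Pts k m)) := by
  rintro (p | i)
  · exact Or.inl rfl
  · exact Or.inr (inr_of_fix h i)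

end Cfsg.Agent.Lib.DoubleAlt12.Large
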