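import Cfsg.Agent.Lib.DoubleAlt12.Cover
import Cfsg.Agent.Lib.DoubleAlt12.Move
import Cfsg.Agent.Lib.DoubleAlt12.LargePerm

/-!
# Brick `Large` of S1645: degree at least 13 is impossible

The involutions `u ≠ z` of the centraliser `C` of `z` have `k` transpositions and `m` fixed points. In the
centraliser of `u` in `C` the involution `z` is singled out by an isomorphism-invariant property.
-/

set_option autoImplicit false
set_option linter.unusedSectionVars false

namespace Cfsg.Agent.Lib.DoubleAlt12.Large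

open Equiv

universe u v

/-- `w` is a commutator of two elements centralising every normal `2`-subgroup. -/
def P1 (H : Type v) [Group H] (w : H) : Prop :=
  orderOf w = 2 ∧ (∀ g : H, Commute g w) ∧ ∃ a b : H,
    (∀ N : Subgroup H, N.Normal → IsPGroup 2 N → ∀ x ∈ N, Commute a x ∧ Commute b x) ∧
      a * b * a⁻¹ * b⁻¹ = w

/-- `w` is a commutator inside a normal `2`-subgroup. -/
def P2 (H : Type v) [Group H] (w : H) : Prop :=
  orderOf w = 2 ∧ (∀ g : H, Commute g w) ∧ ∃ N : Subgroup H, N.Normal ∧ IsPGroup 2 N ∧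
    ∃ a ∈ N, ∃ b ∈ N, a * b * a⁻¹ * b⁻¹ = w

/-- The separating property. -/
def PSep (H : Type v) [Group H] (w : H) : Prop :=
  P1 H w ∨ ((¬ ∃ w', P1 H w') ∧ P2 H w)

theorem P1.map {H J : Type v} [Group H] [Group J] (e : H ≃* J) {w : H} (h : P1 H w) : P1 J (e w) := by
  obtain ⟨ho, hc, a, b, hN, hab⟩ := h
  refine ⟨(orderOf_injective e.toMonoidHom e.injective w).trans ho, fun g => ?_, e a, e b, ?_, ?_⟩
  · obtain ⟨g, rfl⟩ := e.surjective g
    exact (hc g).map e
  · intro N hNn h2 x hx
    obtain ⟨x, rfl⟩ := e.surjective x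
    have := hN (N.comap e.toMonoidHom) (hNn.comap _) (h2.comap_of_injective _ e.injective) x hx
    exact ⟨this.1.map e, this.2.map e⟩
  · rw [← hab]; simp

theorem P2.map {H J : Type v} [Group H] [Group J] (e : H ≃* J) {w : H} (h : P2 H w) : P2 J (e w) := by
  obtain ⟨ho, hc, N, hNn, h2, a, ha, b, hb, hab⟩ := h
  refine ⟨(orderOf_injective e.toMonoidHom e.injective w).trans ho, fun g => ?_,
    N.map e.toMonoidHom, hNn.map _ e.surjective, h2.map _, e a, Subgroup.mem_map_of_mem _ ha,
    e b, Subgroup.mem_map_of_mem _ hb, ?_⟩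
  · obtain ⟨g, rfl⟩ := e.surjective g
    exact (hc g).map e
  · rw [← hab]; simp

theorem PSep.map {H J : Type v} [Group H] [Group J] (e : H ≃* J) (w : H) (h : PSep H w) : PSep J (e w) := by
  rcases h with h | ⟨h1, h2⟩
  · exact Or.inl (h.map e)
  · exact Or.inr ⟨fun ⟨w', hw'⟩ => h1 ⟨e.symm w', hw'.map e.symm⟩, h2.map e⟩

variable {C : Type*} [Group C] [Finite C] {n k m : ℕ}

/-- An involution of `C` other than the central one, with its pairs and fixed points. -/
structure Inv (c : Cov C n) (u : C) (k m : ℕ) where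
  /-- the numbering of the pairs and fixed points -/
  e : Pts k m ≃ Fin n
  hu : c.φ u = e.permCongrHom (flipAll k m)
  hord : orderOf u = 2
  hne : u ≠ c.z

variable {c : Cov C n} {u : C} (I : Inv c u k m)

include I

theorem Inv.proj (g : Subgroup.centralizer ({u} : Set C)) :
    I.e.permCongrHom.symm (c.φ (g : C)) ∈ Cz k m := by
  refine Subgroup.mem_centralizer_singleton_iff.2 ?_
  apply I.e.permCongrHom.injective
  rw [map_mul, map_mul, MulEquiv.apply_symm_apply, ← I.hu, ← map_mul, ← map_mul,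
    Subgroup.mem_centralizer_singleton_iff.1 g.2]

/-- The action of the centraliser of `u` on pairs and fixed points. -/
noncomputable def Inv.act : Subgroup.centralizer ({u} : Set C) →* Cz k m :=
  (I.e.permCongrHom.symm.toMonoidHom.comp
    (c.φ.comp (Subgroup.centralizer ({u} : Set C)).subtype)).codRestrict _ I.proj

theorem Inv.φ_eq (g : Subgroup.centralizer ({u} : Set C)) :
    c.φ (g : C) = I.e.permCongrHom ((I.act g : Cz k m) : Perm (Pts k m)) := by
  show _ = I.e.permCongrHom (I.e.permCongrHom.symm (c.φ (g : C)))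
  rw [MulEquiv.apply_symm_apply]

theorem Inv.act_eq {g : Subgroup.centralizer ({u} : Set C)} {σ : Cz k m}
    (h : c.φ (g : C) = I.e.permCongrHom (σ : Perm (Pts k m))) : I.act g = σ :=
  Subtype.ext (I.e.permCongrHom.injective ((I.φ_eq g).symm.trans h))

theorem Inv.sign_act (g : Subgroup.centralizer ({u} : Set C)) :
    Perm.sign ((I.act g : Cz k m) : Perm (Pts k m)) = 1 := by
  have h := c.sign_φ (g : C)
  rw [I.φ_eq g] at h
  exact (Perm.sign_permCongr I.e _).symm.trans h

theorem Inv.lift_fix (τ : Perm (Fin m)) (hτ : Perm.sign τ = 1) :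
    ∃ g, I.act g = embFix τ := by
  obtain ⟨g, hg⟩ := c.exists_lift (a := I.e.permCongrHom ((embFix (k := k) τ : Cz k m) : Perm (Pts k m)))
    ((Perm.sign_permCongr I.e _).trans ((sign_embFix τ).trans hτ))
  have hc : Commute g u := c.commute_of_disjoint (by
    rw [hg, I.hu]; exact disjoint_map I.e (embFix_disjoint τ))
  exact ⟨⟨g, Subgroup.mem_centralizer_singleton_iff.2 hc.eq⟩, I.act_eq hg⟩

theorem Inv.lift_pair {σ : Perm (Fin k)} (hσ : σ.IsThreeCycle) :
    ∃ g, I.act g = embPair σ := by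
  set p := I.e.permCongrHom ((embPair (m := m) σ : Cz k m) : Perm (Pts k m))
  have hp : p ^ 3 = 1 := by
    rw [← map_pow, embPair_pow σ 3 (by rw [← hσ.orderOf]; exact pow_orderOf_eq_one σ), map_one]
  have hodd : Odd (orderOf p) := Odd.of_dvd_nat (by decide) (orderOf_dvd_of_pow_eq_one hp)
  have hs : Perm.sign p = 1 := by
    have h3 : Perm.sign p ^ 3 = 1 := by rw [← map_pow, hp, map_one]
    rcases Int.units_eq_one_or (Perm.sign p) with h | h
    · exact h
    · rw [h] at h3; exact absurd h3 (by decide)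
  obtain ⟨g, hg, hgo⟩ := c.exists_odd_lift hs hodd
  have hc : Commute g u := c.commute_of_odd (hgo ▸ hodd) (by
    rw [hg, I.hu]
    refine Commute.map ?_ I.e.permCongrHom
    exact Subgroup.mem_centralizer_singleton_iff.1 (embPair (m := m) σ).2)
  exact ⟨⟨g, Subgroup.mem_centralizer_singleton_iff.2 hc.eq⟩, I.act_eq hg⟩

theorem Inv.sign_flipTwo {i j : Fin k} (_hij : i ≠ j) : Perm.sign (flipTwo (m := m) i j) = 1 := by
  simp [flipTwo]

theorem Inv.lift_flips {i j : Fin k} (hij : i ≠ j) :
    ∃ g, I.act g = ⟨flipTwo i j, flipTwo_mem hij⟩ := by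
  obtain ⟨g, hg⟩ := c.exists_lift (a := I.e.permCongrHom (flipTwo i j))
    ((Perm.sign_permCongr I.e _).trans (I.sign_flipTwo hij))
  have hu1 : Perm.sign (flipAll k m) = 1 := by
    have h := c.sign_φ u
    rw [I.hu] at h
    exact (Perm.sign_permCongr I.e _).symm.trans h
  obtain ⟨r, hr⟩ := c.exists_lift (a := I.e.permCongrHom (flipAll k m * flipTwo i j))
    ((Perm.sign_permCongr I.e _).trans (by rw [map_mul, hu1, I.sign_flipTwo hij, one_mul]))
  have hgr : Commute g r := c.commute_of_disjoint (by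
    rw [hg, hr]; exact disjoint_map I.e (flipTwo_disjoint hij))
  have hgu : Commute g u := by
    have e : c.φ u = c.φ (g * r) := by rw [map_mul, hg, hr, ← map_mul, flipTwo_mul_rest hij, I.hu]
    have h1 : Commute g (g * r) := (Commute.refl g).mul_right hgr
    rcases c.eq_or_eq e with h | h
    · rwa [h]
    · rw [h]; exact Commute.mul_right (show Commute g c.z from c.central g) h1
  exact ⟨⟨g, Subgroup.mem_centralizer_singleton_iff.2 hgu.eq⟩, I.act_eq hg⟩

/-- The elements preserving every pair and fixing every fixed point. -/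
noncomputable def Inv.base : Subgroup (Subgroup.centralizer ({u} : Set C)) :=
  (pairHom.comp I.act).ker ⊓ (fixHom.comp I.act).ker

theorem Inv.base_normal : I.base.Normal := by
  unfold Inv.base
  infer_instance

theorem Inv.base_two : IsPGroup 2 I.base := by
  rintro ⟨g, hg⟩
  rw [Inv.base, Subgroup.mem_inf, MonoidHom.mem_ker, MonoidHom.mem_ker] at hg
  have h2 : I.act (g * g) = 1 := by rw [map_mul, sq_of_ker hg.1 hg.2]
  have h3 : c.φ ((g : C) * g) = c.φ 1 := by
    rw [map_one]
    refine (I.φ_eq (g * g)).trans ?_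
    rw [h2, Subgroup.coe_one, map_one]
  refine ⟨2, Subtype.ext (Subtype.ext ?_)⟩
  show (g : C) ^ (2 ^ 2) = 1
  rw [show (2 : ℕ) ^ 2 = 2 * 2 from rfl, pow_mul, sq, sq]
  rcases c.eq_or_eq h3 with h | h <;> rw [h]
  · simp
  · rw [mul_one, c.z_mul_self]

theorem Inv.pair_one_of_P1 (hk : 3 ≤ k) (a : Subgroup.centralizer ({u} : Set C))
    (ha : ∀ x ∈ I.base, Commute a x) : pairHom (I.act a) = 1 := by
  refine pair_one_of_flips hk fun i j hij => ?_
  obtain ⟨g, hg⟩ := I.lift_flips hij
  have hmem : g ∈ I.base := by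
    rw [Inv.base, Subgroup.mem_inf, MonoidHom.mem_ker, MonoidHom.mem_ker, MonoidHom.comp_apply,
      MonoidHom.comp_apply, hg]
    exact flipTwo_ker hij
  rw [← hg]
  exact (ha g hmem).map I.act

/-- A central involution which is a commutator of elements preserving the pairs is `z`. -/
theorem Inv.eq_z (w a b : Subgroup.centralizer ({u} : Set C)) (ho : orderOf w = 2)
    (hc : ∀ g, Commute g w) (hab : a * b * a⁻¹ * b⁻¹ = w)
    (ha : pairHom (I.act a) = 1) (hb : pairHom (I.act b) = 1) : (w : C) = c.z := by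
  have hinl : ∀ p, ((I.act w : Cz k m) : Perm (Pts k m)) (Sum.inl p) = Sum.inl p := by
    intro p
    rw [← hab, map_mul, map_mul, map_mul, map_inv, map_inv]
    exact inl_commutator ha hb p
  set τ := fixHom (I.act w) with hτ
  have hsgn : Perm.sign τ = 1 := by
    have h := I.sign_act w
    rwa [eq_embFix hinl, sign_embFix] at h
  have hτ1 : τ = 1 := by
    rcases le_or_gt m 3 with hm | hm
    · refine small_fix_one m hm τ ?_ hsgn
      rw [hτ, ← map_mul, ← map_mul, ← sq, ← ho, pow_orderOf_eq_one, map_one, map_one]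
    · refine one_of_commute_three (by simp; omega) fun d hd => ?_
      obtain ⟨g, hg⟩ := I.lift_fix d hd.sign
      have h := ((hc g).symm.map I.act).map fixHom
      rwa [hg, fixHom_embFix] at h
  have hφ : c.φ (w : C) = c.φ 1 := by
    rw [map_one, I.φ_eq, eq_embFix hinl, ← hτ, hτ1]
    rw [show ((embFix (k := k) (1 : Perm (Fin m)) : Cz k m) : Perm (Pts k m)) = 1 from
      Equiv.ext (by rintro (p | i) <;> rfl), map_one]
  rcases c.eq_or_eq hφ with h | h
  · have : w = 1 := Subtype.ext h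
    rw [this, orderOf_one] at ho
    omega
  · rwa [mul_one] at h

theorem Inv.eq_z_of_P1 (hk : 3 ≤ k) {w : Subgroup.centralizer ({u} : Set C)}
    (h : P1 _ w) : (w : C) = c.z := by
  obtain ⟨ho, hc, a, b, hN, hab⟩ := h
  exact I.eq_z w a b ho hc hab
    (I.pair_one_of_P1 hk a fun x hx => (hN _ I.base_normal I.base_two x hx).1)
    (I.pair_one_of_P1 hk b fun x hx => (hN _ I.base_normal I.base_two x hx).2)

theorem Inv.eq_z_of_P2 (hk : 5 ≤ k) {w : Subgroup.centralizer ({u} : Set C)}
    (h : P2 _ w) : (w : C) = c.z := by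
  obtain ⟨ho, hc, N, hN, h2, a, ha, b, hb, hab⟩ := h
  have hr : alternatingGroup (Fin k) ≤ (pairHom.comp I.act).range := by
    rw [← Equiv.Perm.closure_three_cycles_eq_alternating, Subgroup.closure_le]
    intro σ hσ
    obtain ⟨g, hg⟩ := I.lift_pair hσ
    exact ⟨g, by rw [MonoidHom.comp_apply, hg, pairHom_embPair]⟩
  have := map_one_of_two_normal (by simpa using hk) (pairHom.comp I.act) hr N (hN := hN) h2
  exact I.eq_z w a b ho hc hab (this a ha) (this b hb)

omit I

/-- The central involution inside the centraliser of `u`. -/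
def zW (c : Cov C n) (u : C) : Subgroup.centralizer ({u} : Set C) :=
  ⟨c.z, Subgroup.mem_centralizer_singleton_iff.mpr (c.central u).symm⟩

theorem zW_facts (c : Cov C n) (u : C) : orderOf (zW c u) = 2 ∧ ∀ g, Commute g (zW c u) :=
  ⟨(Subgroup.orderOf_mk _ _).trans c.hz, fun g => Subtype.ext (c.central (g : C))⟩

theorem Inv.P1_z (I : Inv c u k m) (hm : 5 ≤ m) : P1 _ (zW c u) := by
  have hr : alternatingGroup (Fin m) ≤ (fixHom.comp I.act).range := by
    intro τ hτ
    obtain ⟨g, hg⟩ := I.lift_fix τ hτ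
    exact ⟨g, by rw [MonoidHom.comp_apply, hg, fixHom_embFix]⟩
  let f : Fin 4 → Fin m := fun i => ⟨i, by omega⟩
  have hf : Function.Injective f := fun i j h => Fin.ext (congrArg Fin.val h :)
  have h1 : [f 0, f 1, f 2, f 3].Nodup := List.Nodup.map hf (show [(0 : Fin 4), 1, 2, 3].Nodup by decide)
  have h2 : [f 0, f 2, f 1, f 3].Nodup := List.Nodup.map hf (show [(0 : Fin 4), 2, 1, 3].Nodup by decide)
  have h3 : [f 0, f 3, f 1, f 2].Nodup := List.Nodup.map hf (show [(0 : Fin 4), 3, 1, 2].Nodup by decide)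
  have hs : ∀ {p q r s : Fin m}, [p, q, r, s].Nodup → Perm.sign (swap p q * swap r s) = 1 := by
    intro p q r s h
    simp [not_or] at h
    simp [h]
  obtain ⟨a, ha⟩ := I.lift_fix _ (hs h1)
  obtain ⟨b, hb⟩ := I.lift_fix _ (hs h2)
  have hanti : (a : C) * b = c.z * (b * a) := by
    refine c.anti ?_ ?_ ?_
    · rw [I.φ_eq, ha]; exact isDT_embFix I.e h1
    · rw [I.φ_eq, hb]; exact isDT_embFix I.e h2
    · rw [← map_mul]
      have hab : I.act (a * b) = embFix (swap (f 0) (f 3) * swap (f 1) (f 2)) := by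
        rw [map_mul, ha, hb, ← two_dt_mul h1]
        exact Subtype.ext (Equiv.ext (by rintro (p | i) <;> rfl))
      rw [show c.φ ((a : C) * b) = _ from I.φ_eq (a * b), hab]
      exact isDT_embFix I.e h3
  refine ⟨(zW_facts c u).1, (zW_facts c u).2, a, b, fun N hN h2 x hx => ?_, Subtype.ext ?_⟩
  · have hx1 := map_one_of_two_normal (by simpa using hm) (fixHom.comp I.act) hr N (hN := hN) h2 x hx
    have key : ∀ (g : Subgroup.centralizer ({u} : Set C)) (τ : Perm (Fin m)),
        I.act g = embFix τ → Commute g x := fun g τ hg => Subtype.ext (c.commute_of_disjoint (by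
          rw [I.φ_eq g, I.φ_eq x, hg]; exact disjoint_map I.e (embFix_disjoint_of_fix τ hx1))).eq
    exact ⟨key a _ ha, key b _ hb⟩
  · show (a : C) * b * (a : C)⁻¹ * (b : C)⁻¹ = c.z
    rw [hanti]; group

theorem Inv.P2_z (I : Inv c u k m) (hk : 3 ≤ k) : P2 _ (zW c u) := by
  let i0 : Fin k := ⟨0, by omega⟩
  let i1 : Fin k := ⟨1, by omega⟩
  let i2 : Fin k := ⟨2, by omega⟩
  have h01 : i0 ≠ i1 := by simp [i0, i1]
  have h02 : i0 ≠ i2 := by simp [i0, i2]
  have h12 : i1 ≠ i2 := by simp [i1, i2]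
  obtain ⟨a, ha⟩ := I.lift_flips h01
  obtain ⟨b, hb⟩ := I.lift_flips h02
  have hanti : (a : C) * b = c.z * (b * a) := by
    refine c.anti ?_ ?_ ?_
    · rw [I.φ_eq, ha]; exact isDT_flipTwo I.e h01
    · rw [I.φ_eq, hb]; exact isDT_flipTwo I.e h02
    · rw [I.φ_eq, I.φ_eq, ha, hb, ← map_mul, flipTwo_mul h01 h02 h12]
      exact isDT_flipTwo I.e h12
  have hbase : ∀ g {i j : Fin k} (hij : i ≠ j), I.act g = ⟨flipTwo i j, flipTwo_mem hij⟩ → g ∈ I.base := by
    intro g i j hij hg
    rw [Inv.base, Subgroup.mem_inf, MonoidHom.mem_ker, MonoidHom.mem_ker, MonoidHom.comp_apply,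
      MonoidHom.comp_apply, hg]
    exact flipTwo_ker hij
  refine ⟨(zW_facts c u).1, (zW_facts c u).2, I.base, I.base_normal, I.base_two, a, hbase a h01 ha,
    b, hbase b h02 hb, Subtype.ext ?_⟩
  show (a : C) * b * (a : C)⁻¹ * (b : C)⁻¹ = c.z
  rw [hanti]; group

/-- In degree at least 13 the property separates `z` from `u`. -/
theorem separates {C : Type v} [Group C] [Finite C] {n : ℕ} (c : Cov C n) (hn : 13 ≤ n) (u : C)
    (hu : orderOf u = 2) (hne : u ≠ c.z) :
    PSep (Subgroup.centralizer ({u} : Set C))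
        ⟨c.z, Subgroup.mem_centralizer_singleton_iff.mpr (c.central u).symm⟩ ∧
      ¬ PSep (Subgroup.centralizer ({u} : Set C))
        ⟨u, Subgroup.mem_centralizer_singleton_iff.mpr rfl⟩ := by
  obtain ⟨ho, hpos, h8⟩ := c.involution_support hu hne
  obtain ⟨k, m, e, he, hk, hkm⟩ := exists_model _ ho
  let I : Inv c u k m := ⟨e, he, hu, hne⟩
  have hcase : 5 ≤ m ∨ 5 ≤ k := by omega
  have hk3 : 3 ≤ k := by omega
  constructor
  · by_cases h1 : ∃ w', P1 (Subgroup.centralizer ({u} : Set C)) w'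
    · obtain ⟨w', hw'⟩ := h1
      have : w' = (zW c u) := Subtype.ext (I.eq_z_of_P1 hk3 hw')
      exact Or.inl (by rw [this] at hw'; exact hw')
    · exact Or.inr ⟨h1, I.P2_z hk3⟩
  · rintro (h | ⟨h1, h⟩)
    · exact hne (I.eq_z_of_P1 hk3 h)
    · rcases hcase with hm | hk5
      · exact h1 ⟨_, I.P1_z hm⟩
      · exact hne (I.eq_z_of_P2 hk5 h)

end Cfsg.Agent.Lib.DoubleAlt12.Large

namespace Cfsg.Agent.Lib.DoubleAlt12

universe u

/-- Degree at least 13 is impossible. -/
theorem large : LargeStmt.{u} := by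
  intro G _ _ _ n K hn
  exact K.false_of_separated (by omega) Large.PSep (fun _ _ _ _ e w h => Large.PSep.map e w h)
    fun v hv hne => Large.separates K.cov hn v hv hne

end Cfsg.Agent.Lib.DoubleAlt12
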