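import Cfsg.Agent.Lib.DoubleAlt12.Cover
import Cfsg.Agent.Lib.DoubleAlt12.Move

/-!
# S1645, degree nine and ten: the centraliser of a product of two three cycles
-/

set_option autoImplicit false
set_option linter.unusedSectionVars false

namespace Cfsg.Agent.Lib.DoubleAlt12

open Equiv Subgroup

universe u

namespace Local

variable {α : Type*} [Fintype α] [DecidableEq α]

theorem cycleType_three {a : Perm α} (ha : orderOf a = 3) :
    ∃ m : ℕ, a.cycleType = Multiset.replicate (m + 1) 3 ∧ a.support.card = 3 * (m + 1) := by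
  obtain ⟨m, hm⟩ := Perm.cycleType_prime_order (σ := a) (by rw [ha]; exact Nat.prime_three)
  rw [ha] at hm
  refine ⟨m, hm, ?_⟩
  rw [← Perm.sum_cycleType, hm, Multiset.sum_replicate, smul_eq_mul, mul_comm]

/-- An element of order three commuting with an involution moving eight of at most ten points moves six points. -/
theorem support_six (hcard : Fintype.card α ≤ 10) {a v : Perm α} (ha : orderOf a = 3) (hv : orderOf v = 2)
    (hc : Commute a v) (h8 : 8 ∣ v.support.card) (hpos : 0 < v.support.card) :
    a.support.card = 6 := by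
  obtain ⟨m, -, hm⟩ := cycleType_three ha
  have hA := Finset.card_le_univ a.support
  have hV : v.support.card = 8 := by
    have := Finset.card_le_univ v.support
    obtain ⟨k, hk⟩ := h8
    omega
  have hvv : ∀ p, v (v p) = p := fun p => by
    have h := pow_orderOf_eq_one v
    rw [hv, pow_two] at h
    exact congrArg (fun e : Perm α => e p) h
  have haaa : ∀ p, a (a (a p)) = p := fun p => by
    have h := pow_orderOf_eq_one a
    rw [ha, pow_succ, pow_two] at h
    exact congrArg (fun e : Perm α => e p) h
  have hav : ∀ p, a (v p) = v (a p) := fun p => congrArg (fun e : Perm α => e p) hc.eq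
  have hvA : ∀ p, p ∈ a.support → v p ∈ a.support := fun p hp => by
    rw [Perm.mem_support] at hp ⊢
    rw [hav]
    exact fun e => hp (v.injective e)
  have haV : ∀ p, p ∈ v.support → a p ∈ v.support := fun p hp => by
    rw [Perm.mem_support] at hp ⊢
    rw [← hav]
    exact fun e => hp (a.injective e)
  rcases (by omega : a.support.card = 3 ∨ a.support.card = 6 ∨ 9 ≤ a.support.card) with h | h | h
  · exfalso
    obtain ⟨p, hpa, hpv⟩ : ∃ p, p ∈ a.support ∧ p ∈ v.support := by
      by_contra hno
      push Not at hno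
      have := Finset.card_union_of_disjoint (Finset.disjoint_left.2 hno)
      have := Finset.card_le_univ (a.support ∪ v.support)
      omega
    rw [Perm.mem_support] at hpv
    have hpa' : a p ≠ p := Perm.mem_support.1 hpa
    have hsub : ({p, a p, a (a p)} : Finset α) ⊆ a.support := by
      intro r hr
      simp only [Finset.mem_insert, Finset.mem_singleton] at hr
      rcases hr with rfl | rfl | rfl <;>
        simp only [Perm.apply_mem_support, hpa]
    have hthree : ({p, a p, a (a p)} : Finset α).card = 3 := by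
      have h1 : a (a p) ≠ p := fun e => hpa' (by
        have := congrArg a e
        rw [haaa] at this
        exact this.symm)
      have h2 : a (a p) ≠ a p := fun e => hpa' (a.injective e)
      rw [Finset.card_insert_of_notMem (by simp [Ne.symm hpa', Ne.symm h1]),
        Finset.card_insert_of_notMem (by simp [Ne.symm h2]), Finset.card_singleton]
    have heq := Finset.eq_of_subset_of_card_le hsub (by omega)
    have hmem := hvA p hpa
    rw [← heq] at hmem
    simp only [Finset.mem_insert, Finset.mem_singleton] at hmem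
    rcases hmem with e | e | e
    · exact hpv e
    · have e' : a (a p) = p := by
        have := congrArg v e
        rw [hvv, ← hav, e] at this
        exact this.symm
      exact hpa' (by have := congrArg a e'; rw [haaa] at this; exact this.symm)
    · have e' : a p = p := by
        have := congrArg v e
        rw [hvv, ← hav, ← hav, e, haaa] at this
        exact this.symm
      exact hpa' e'
  · exact h
  · exfalso
    -- the points outside the support of `a` form at most one point, which `v` fixes
    have hsub : v.support ⊆ a.support := by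
      intro q hq
      by_contra hqa
      have hvq : v q ∉ a.support := fun h' => hqa (by
        have := hvA _ h'
        rwa [hvv] at this)
      have hle : ({q, v q} : Finset α).card ≤ a.supportᶜ.card := Finset.card_le_card fun r hr => by
        simp only [Finset.mem_insert, Finset.mem_singleton] at hr
        rw [Finset.mem_compl]
        rcases hr with rfl | rfl <;> assumption
      rw [Finset.card_pair (Ne.symm (Perm.mem_support.1 hq)), Finset.card_compl] at hle
      omega
    have hd : (a.support \ v.support).card = a.support.card - 8 := by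
      rw [Finset.card_sdiff_of_subset hsub, hV]
    obtain ⟨p, hp⟩ : (a.support \ v.support).Nonempty := Finset.card_pos.1 (by omega)
    rw [Finset.mem_sdiff] at hp
    have hap : a p ∈ a.support \ v.support := by
      refine Finset.mem_sdiff.2 ⟨Perm.apply_mem_support.2 hp.1, fun h' => hp.2 ?_⟩
      have := haV _ (haV _ h')
      rwa [haaa] at this
    have h2 : 1 < (a.support \ v.support).card := Finset.one_lt_card.2
      ⟨p, Finset.mem_sdiff.2 hp, a p, hap, Ne.symm (Perm.mem_support.1 hp.1)⟩
    omega

/-- Two elements of order three moving six of at least eight points are conjugate under an even permutation. -/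
theorem conj_six (hcard : 8 ≤ Fintype.card α) {a b : Perm α} (ha : orderOf a = 3) (hb : orderOf b = 3)
    (ha6 : a.support.card = 6) (hb6 : b.support.card = 6) :
    ∃ π : Perm α, Perm.sign π = 1 ∧ π * b * π⁻¹ = a := by
  obtain ⟨m, hm, hm'⟩ := cycleType_three ha
  obtain ⟨k, hk, hk'⟩ := cycleType_three hb
  obtain ⟨π, hπ⟩ := isConj_iff.1 (Perm.isConj_iff_cycleType_eq.2
    (by rw [hm, hk, show k = m by omega] : b.cycleType = a.cycleType))
  rcases Int.units_eq_one_or (Perm.sign π) with h | h
  · exact ⟨π, h, hπ⟩
  · obtain ⟨p, hp, q, hq, hpq⟩ := Finset.one_lt_card.1 (show 1 < a.supportᶜ.card by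
      rw [Finset.card_compl]; omega)
    rw [Finset.mem_compl, Perm.notMem_support] at hp hq
    refine ⟨swap p q * π, by rw [map_mul, Perm.sign_swap hpq, h]; decide, ?_⟩
    have hcomm : swap p q * a = a * swap p q := by
      rw [Equiv.mul_swap_eq_swap_mul, hp, hq]
    calc swap p q * π * b * (swap p q * π)⁻¹
        = swap p q * (π * b * π⁻¹) * (swap p q)⁻¹ := by group
      _ = a := by rw [hπ, hcomm, mul_inv_cancel_right]

/-- The centraliser of an element of order three moving six points. -/
theorem card_centralizer_six {a : Perm α} (ha : orderOf a = 3) (ha6 : a.support.card = 6) :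
    Nat.card (centralizer ({a} : Set (Perm α))) = (Fintype.card α - 6).factorial * 18 := by
  obtain ⟨m, hm, hm'⟩ := cycleType_three ha
  obtain rfl : m = 1 := by omega
  rw [Perm.nat_card_centralizer, hm]
  simp [Multiset.replicate_succ, mul_assoc]

end Local

variable {G : Type u} [Group G] [Finite G] {n : ℕ}

namespace Local

/-- The order of the centraliser in the cover. -/
theorem not_dvd_card_cent {C : Type u} [Group C] [Finite C] (c : Cov C n) (hn : n = 9 ∨ n = 10) {d : C}
    (ha : orderOf (c.φ d) = 3) (h6 : (c.φ d).support.card = 6) :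
    ¬ 81 ∣ Nat.card (centralizer ({d} : Set C)) := by
  intro h
  let f : centralizer ({d} : Set C) →* centralizer ({c.φ d} : Set (Perm (Fin n))) :=
    (c.φ.comp (centralizer ({d} : Set C)).subtype).codRestrict _ fun g =>
      mem_centralizer_singleton_iff.2 (by
        show c.φ (g : C) * c.φ d = c.φ d * c.φ (g : C)
        rw [← map_mul, ← map_mul, mem_centralizer_singleton_iff.1 g.2])
  have hker : Nat.card f.ker ≤ 2 := by
    rw [← Nat.card_fin 2]
    classical
    refine Nat.card_le_card_of_injective
      (fun g : f.ker => if ((g : centralizer ({d} : Set C)) : C) = 1 then (0 : Fin 2) else 1) ?_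
    intro g g' e
    have key : ∀ g : f.ker, ((g : centralizer ({d} : Set C)) : C) = 1 ∨
        ((g : centralizer ({d} : Set C)) : C) = c.z := fun g =>
      (c.ker_iff _).1 (congrArg Subtype.val (MonoidHom.mem_ker.1 g.2) :)
    refine Subtype.ext (Subtype.ext ?_)
    rcases key g with h1 | h1 <;> rcases key g' with h2 | h2 <;> rw [h1, h2] <;>
      simp only [h1, h2] at e <;> split_ifs at e with h0 <;>
        first
          | rfl
          | exact h0.symm
          | exact h0
          | simp_all
  have hrange := card_subgroup_dvd_card f.range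
  rw [card_centralizer_six ha h6, Fintype.card_fin] at hrange
  have hmul := f.ker.card_mul_index
  rw [Subgroup.index_ker] at hmul
  rw [← hmul] at h
  have hr3 : Nat.card f.range ∣ 432 := by
    rcases hn with rfl | rfl
    · exact hrange.trans (by decide)
    · exact hrange.trans (by decide)
  have hpos : 0 < Nat.card f.ker := Nat.card_pos
  have h81 : 81 ∣ Nat.card f.range := by
    have : Nat.Coprime 81 (Nat.card f.ker) := by
      interval_cases Nat.card f.ker <;> norm_num
    exact this.dvd_of_dvd_mul_left h
  have := h81.trans hr3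
  norm_num at this

/-- The element of order three commuting with a second involution is of the same type. -/
theorem conj_in_cov (K : Conf G n) (hn : n = 9 ∨ n = 10)
    {d d' v : centralizer ({K.z} : Set G)} (hd : orderOf d = 3) (hd' : orderOf d' = 3)
    (h6 : (K.cov.φ d).support.card = 6) (hv : orderOf v = 2) (hne : v ≠ K.cov.z) (hc : Commute d' v) :
    ∃ h : centralizer ({K.z} : Set G), h * d' * h⁻¹ = d := by
  have h3 : ∀ e : centralizer ({K.z} : Set G), orderOf e = 3 → orderOf (K.cov.φ e) = 3 := fun e he => by
    refine orderOf_eq_prime (by rw [← map_pow, ← he, pow_orderOf_eq_one, map_one]) fun h1 => ?_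
    rcases (K.cov.ker_iff e).1 h1 with e1 | e1
    · rw [e1, orderOf_one] at he; norm_num at he
    · rw [e1, K.cov.hz] at he; norm_num at he
  obtain ⟨hv2, hpos, h8⟩ := K.cov.involution_support hv hne
  have h6' := support_six (by rw [Fintype.card_fin]; omega) (h3 d' hd') hv2 (hc.map K.cov.φ) h8 hpos
  obtain ⟨π, hπ, hπc⟩ := conj_six (by rw [Fintype.card_fin]; omega) (h3 d hd) (h3 d' hd') h6 h6'
  obtain ⟨h, rfl⟩ := K.cov.exists_lift hπ
  refine ⟨h, K.cov.odd_lift_unique ?_ (by rw [hd]; exact ⟨1, rfl⟩) (by simp [hπc])⟩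
  rw [← MulAut.conj_apply, MulEquiv.orderOf_eq, hd']
  exact ⟨1, rfl⟩

theorem mem_cov (K : Conf G n) {g : G} (h : Commute g K.z) : g ∈ centralizer ({K.z} : Set G) :=
  mem_centralizer_singleton_iff.2 h.eq

/-- The centraliser of a lift of a product of two three cycles has no subgroup of order `81`. -/
theorem not_dvd_card (K : Conf G n) (hn : n = 9 ∨ n = 10) (hX : XCent K)
    {d x : centralizer ({K.z} : Set G)} (hd : orderOf (K.cov.φ d) = 3)
    (h6 : (K.cov.φ d).support.card = 6) (hx : orderOf x = 3) (hx3 : (K.cov.φ x).IsThreeCycle)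
    (hxd : Commute x d) : ¬ 81 ∣ Nat.card (centralizer ({(d : G)} : Set G)) := by
  intro h81
  haveI : Fact (Nat.Prime 3) := ⟨Nat.prime_three⟩
  -- `z` is the only involution commuting with `x`
  have huniq : ∀ w : G, orderOf w = 2 → Commute w (x : G) → w = K.z := by
    intro w hw hwx
    set w' : centralizer ({K.z} : Set G) := ⟨w, mem_cov K (hX x hx hx3 w hwx)⟩ with hw'
    have hw2 : orderOf w' = 2 := by rw [hw', Subgroup.orderOf_mk, hw]
    by_contra hne
    have hne' : w' ≠ K.cov.z := fun e => hne (by rw [← K.cov_z, ← e])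
    obtain ⟨h2, hpos, h8⟩ := K.cov.involution_support hw2 hne'
    have hxw : Commute x w' := Subtype.ext hwx.symm.eq
    have := support_six (by rw [Fintype.card_fin]; omega) hx3.orderOf h2 (hxw.map K.cov.φ) h8 hpos
    rw [hx3.card_support] at this
    norm_num at this
  set H := centralizer ({(d : G)} : Set G) with hH
  have hxH : (x : G) ∈ H ⊓ (centralizer ({K.z} : Set G)) := ⟨mem_centralizer_singleton_iff.2 (congrArg Subtype.val hxd.eq :), x.2⟩
  obtain ⟨T, hT⟩ := (IsPGroup.of_card (p := 3) (n := 1)
    (by rw [Nat.card_zpowers, Subgroup.orderOf_mk, Subgroup.orderOf_coe, hx, pow_one]) :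
      IsPGroup 3 (zpowers (⟨x, hxH⟩ : ↥(H ⊓ (centralizer ({K.z} : Set G)))))).exists_le_sylow
  set P : Subgroup G := (T : Subgroup ↥(H ⊓ (centralizer ({K.z} : Set G)))).map (H ⊓ (centralizer ({K.z} : Set G))).subtype with hP
  have hxP : (x : G) ∈ P := ⟨⟨x, hxH⟩, hT (mem_zpowers _), rfl⟩
  have hPle : P ≤ H ⊓ (centralizer ({K.z} : Set G)) := map_subtype_le _
  have hPp : IsPGroup 3 P := T.2.map _
  have hNP : normalizer (P : Set G) ≤ (centralizer ({K.z} : Set G)) := by
    intro g hg
    have hz : g⁻¹ * K.z * g = K.z := by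
      refine huniq _ ?_ ?_
      · rw [show g⁻¹ * K.z * g = MulAut.conj g⁻¹ K.z by simp, MulEquiv.orderOf_eq, K.hz]
      · have h1 : g * (x : G) * g⁻¹ ∈ (centralizer ({K.z} : Set G)) := (hPle ((mem_normalizer_iff.1 hg _).1 hxP)).2
        have h2 : Commute (g * (x : G) * g⁻¹) K.z := mem_centralizer_singleton_iff.1 h1
        have h3 := (h2.map (MulAut.conj g⁻¹).toMonoidHom).symm
        simpa [mul_assoc] using h3
    refine mem_centralizer_singleton_iff.2 ?_
    calc g * K.z = g * (g⁻¹ * K.z * g) := by rw [hz]
      _ = K.z * g := by group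
  obtain ⟨S, hS⟩ := (hPp.comap_subtype (K := H)).exists_le_sylow
  set Q : Subgroup G := (S : Subgroup H).map H.subtype with hQ
  have hPQ : P ≤ Q := fun e he => ⟨⟨e, (hPle he).1⟩, hS he, rfl⟩
  have hQp : IsPGroup 3 Q := S.2.map _
  have hQH : Q ≤ H := map_subtype_le _
  -- `P` is its own normaliser in `Q`
  have hQP : Q ≤ P := by
    by_contra hlt
    haveI : Group.IsNilpotent Q := hQp.isNilpotent
    have hlt' : P.subgroupOf Q < ⊤ := lt_top_iff_ne_top.2 fun e => hlt (subgroupOf_eq_top.1 e)
    obtain ⟨w, hw, hwP⟩ := SetLike.exists_of_lt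
      (Group.normalizerCondition_of_isNilpotent _ hlt')
    have hwn : (w : G) ∈ normalizer (P : Set G) := by
      rw [mem_normalizer_iff]
      intro e
      constructor
      · intro he
        exact (mem_normalizer_iff.1 hw ⟨e, hPQ he⟩).1 he
      · intro he
        have heQ : e ∈ Q := by
          have := mul_mem (mul_mem (inv_mem w.2) (hPQ he)) w.2
          simpa [mul_assoc] using this
        exact (mem_normalizer_iff.1 hw ⟨e, heQ⟩).2 he
    -- the subgroup generated by `P` and `w` is a `3`-subgroup of `H ⊓ (centralizer ({K.z} : Set G))`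
    have hle : P ⊔ zpowers (w : G) ≤ Q := sup_le hPQ (zpowers_le.2 w.2)
    have hle2 : P ⊔ zpowers (w : G) ≤ H ⊓ (centralizer ({K.z} : Set G)) :=
      sup_le hPle (zpowers_le.2 ⟨hQH w.2, hNP hwn⟩)
    have hTeq := T.3 ((hQp.to_le hle).comap_subtype (K := H ⊓ (centralizer ({K.z} : Set G))))
      (fun e he => (le_sup_left : P ≤ _) ⟨e, he, rfl⟩)
    have hmem : (⟨(w : G), ⟨hQH w.2, hNP hwn⟩⟩ : ↥(H ⊓ (centralizer ({K.z} : Set G)))) ∈ (T : Subgroup ↥(H ⊓ (centralizer ({K.z} : Set G)))) := by
      rw [← hTeq]
      exact (le_sup_right : zpowers (w : G) ≤ P ⊔ zpowers (w : G)) (mem_zpowers _)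
    exact hwP ⟨_, hmem, rfl⟩
  have hd81 : 81 ∣ Nat.card Q := by
    rw [hQ, Subgroup.card_map_of_injective H.subtype_injective]
    exact S.pow_dvd_card_of_pow_dvd_card (n := 4) h81
  have hQC : Q ≤ (centralizer ({K.z} : Set G)) := hQP.trans (hPle.trans inf_le_right)
  refine not_dvd_card_cent K.cov hn hd h6 (hd81.trans ?_)
  rw [← Nat.card_congr (Subgroup.subgroupOfEquivOfLe hQC).toEquiv]
  refine card_dvd_of_le fun e he => mem_centralizer_singleton_iff.2 (Subtype.ext ?_)
  exact mem_centralizer_singleton_iff.1 (hQH he)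

end Local

/-- Brick Local, from the conjugacy of the involutions of the cover to the central one. -/
theorem localFacts_of
    (hconj : ∀ (G : Type u) [Group G] [Finite G] [IsSimpleGroup G] (n : ℕ) (K : Conf G n), n = 9 ∨ n = 10 →
      ∀ u : Subgroup.centralizer ({K.z} : Set G), orderOf u = 2 → u ≠ K.cov.z → IsConj (u : G) K.z) :
    LocalStmt.{u} := by
  intro G _ _ _ n K hn hX d hd ⟨σ, τ, hσ, hτ, hdis, hφ⟩
  have h6 : (K.cov.φ d).support.card = 6 := by
    rw [hφ, hdis.card_support_mul, hσ.card_support, hτ.card_support]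
  have hd3 : orderOf (K.cov.φ d) = 3 := by
    rw [hφ]
    refine orderOf_eq_prime ?_ fun h1 => ?_
    · rw [hdis.commute.mul_pow, ← hσ.orderOf, pow_orderOf_eq_one, hσ.orderOf, ← hτ.orderOf,
        pow_orderOf_eq_one, one_mul]
    · rw [hφ, h1] at h6
      simp at h6
  obtain ⟨x, hxφ, hxo⟩ := K.cov.exists_odd_lift hσ.sign (by rw [hσ.orderOf]; exact ⟨1, rfl⟩)
  rw [hσ.orderOf] at hxo
  have hxd : Commute x d := K.cov.commute_of_odd (by rw [hxo]; exact ⟨1, rfl⟩)
    (by rw [hxφ, hφ]; exact (Commute.refl σ).mul_right hdis.commute)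
  refine ⟨Local.not_dvd_card K hn hX hd3 h6 hxo (hxφ.symm ▸ hσ) hxd, fun u hu hne hud => ?_⟩
  obtain ⟨g, hg⟩ := isConj_iff.1 (hconj G n K hn u hu hne)
  have hc : ∀ {a b : G}, Commute a b → Commute (g * a * g⁻¹) (g * b * g⁻¹) := fun h =>
    (h.map (MulAut.conj g).toMonoidHom :)
  have ho : ∀ a : G, orderOf (g * a * g⁻¹) = orderOf a := fun a => by
    rw [← MulAut.conj_apply, MulEquiv.orderOf_eq]
  have hdz : Commute (g * (d : G) * g⁻¹) K.z := by
    have := hc (show Commute (d : G) (u : G) from congrArg Subtype.val hud.eq.symm)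
    rwa [hg] at this
  have huz : Commute (u : G) K.z := mem_centralizer_singleton_iff.1 u.2
  have hvz : Commute (g * K.z * g⁻¹) K.z := by
    have := hc huz.symm
    rwa [hg] at this
  let d' : centralizer ({K.z} : Set G) := ⟨_, Local.mem_cov K hdz⟩
  let v : centralizer ({K.z} : Set G) := ⟨_, Local.mem_cov K hvz⟩
  have hvne : v ≠ K.cov.z := fun e => hne (Subtype.ext (by
    have e' : g * K.z * g⁻¹ = K.z := by
      have := congrArg Subtype.val e
      rwa [K.cov_z] at this
    rw [K.cov_z]
    exact mul_left_cancel (mul_right_cancel (hg.trans e'.symm))))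
  obtain ⟨h, hh⟩ := Local.conj_in_cov K hn (d' := d') (v := v) hd
    (by rw [Subgroup.orderOf_mk, ho, Subgroup.orderOf_coe, hd]) h6
    (by rw [Subgroup.orderOf_mk, ho, K.hz]) hvne
    (Subtype.ext (hc (show Commute (d : G) K.z from mem_centralizer_singleton_iff.1 d.2)).eq)
  have hh' : (h : G) * (g * (d : G) * g⁻¹) * (h : G)⁻¹ = d := congrArg Subtype.val hh
  refine ⟨(h : G) * g, ?_, ?_⟩
  · show (h : G) * g * (d : G) = (d : G) * ((h : G) * g)
    calc (h : G) * g * (d : G) = ((h : G) * (g * (d : G) * g⁻¹) * (h : G)⁻¹) * ((h : G) * g) := by group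
      _ = _ := by rw [hh']
  · calc (h : G) * g * (u : G) * ((h : G) * g)⁻¹ = (h : G) * (g * (u : G) * g⁻¹) * (h : G)⁻¹ := by group
      _ = K.z := by
        rw [hg, show (h : G) * K.z = K.z * h from mem_centralizer_singleton_iff.1 h.2,
          mul_inv_cancel_right]

/-- Brick Local. -/
theorem localFacts : LocalStmt.{u} :=
  localFacts_of fun _ _ _ _ _ K hn _ hu hne => Conf.isConj_z K hn hu hne

end Cfsg.Agent.Lib.DoubleAlt12
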