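import Cfsg.Agent.Lib.DoubleAlt12.OfHyp

/-!
# S1645: the assembly
-/

set_option autoImplicit false

namespace Cfsg.Agent.Lib.DoubleAlt12

universe u

/-- The statement on the existence of a second involution of the centraliser conjugate to `z`. -/
def MoveStmt : Prop :=
  ∀ (G : Type u) [Group G] [Finite G] [IsSimpleGroup G] (n : ℕ) (K : Conf G n), 5 ≤ n →
    ∃ t : Subgroup.centralizer ({K.z} : Set G), orderOf t = 2 ∧ t ≠ K.cov.z ∧ IsConj (t : G) K.z

/-- The degree theorem from the bricks. -/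
theorem degree_of (hMove : MoveStmt.{u}) (hLarge : LargeStmt.{u}) (hTwelve : TwelveStmt.{u})
    (hThree : ThreeCentralStmt.{u}) (hBig : BigCoreStmt.{u}) (hNine : NineStmt.{u})
    (hTen : TenStmt.{u}) {G : Type u} [Group G] [Finite G] [IsSimpleGroup G] (n : ℕ) (hn : 5 ≤ n)
    (z : G) (hz : orderOf z = 2)
    (hcov : Cfsg.IsNonsplitDoubleCover (Subgroup.centralizer ({z} : Set G))
      (alternatingGroup (Fin n))) :
    n = 8 ∨ n = 11 := by
  obtain ⟨K⟩ := nonempty_conf hn hz hcov
  by_contra hcon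
  push Not at hcon
  obtain ⟨h8, h11⟩ := hcon
  rcases (by omega : n ≤ 7 ∨ n = 9 ∨ n = 10 ∨ n = 12 ∨ 13 ≤ n) with h | h | h | h | h
  · obtain ⟨t, ht, hne, -⟩ := hMove G n K hn
    obtain ⟨-, hpos, hdvd⟩ := K.cov.involution_support ht hne
    have hle := Finset.card_le_univ (K.cov.φ t).support
    rw [Fintype.card_fin] at hle
    have := Nat.le_of_dvd hpos hdvd
    omega
  · subst h
    rcases hThree G 9 K (Or.inl rfl) with hx | ⟨-, hb⟩
    · exact hNine G K hx
    · exact hBig G K hb
  · subst h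
    rcases hThree G 10 K (Or.inr rfl) with hx | ⟨h, -⟩
    · exact hTen G K hx
    · omega
  · subst h
    exact hTwelve G K
  · exact hLarge G n K h

end Cfsg.Agent.Lib.DoubleAlt12
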