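import Cfsg.Agent.Lib.DoubleAlt12.Spec
import Cfsg.Agent.Lib.CentFour74.Four
import Cfsg.Agent.S0508

/-!
# Degree nine with a small three centraliser is impossible

The quotient of the centraliser of a lift `d` of a product of two three cycles by `⟨d⟩` would be a simple group
whose involution centraliser is generalised dihedral over `2 × 3²`; by Brauer–Suzuki–Wall it is `PSL(2, q)`,
where no involution commutes with an elementary group of order nine.
-/

set_option autoImplicit false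

namespace Cfsg.Agent.Lib.DoubleAlt12

open Equiv

universe u

namespace Nine

/-! ## No nine in the centraliser of an involution of `PSL(2, q)` -/

open Matrix in
theorem psl_no_nine {F : Type*} [Field F] [Fintype F] (h2 : (2 : F) ≠ 0)
    {z : Matrix.ProjectiveSpecialLinearGroup (Fin 2) F} (hz1 : z ≠ 1) (hz : z * z = 1)
    (B : Subgroup (Matrix.ProjectiveSpecialLinearGroup (Fin 2) F)) (hB : Nat.card B = 9)
    (h3 : ∀ b ∈ B, b ^ 3 = 1) (hzB : ∀ b ∈ B, b * z = z * b) : False := by
  classical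
  obtain ⟨i, rfl⟩ := QuotientGroup.mk'_surjective (Subgroup.center (Matrix.SpecialLinearGroup (Fin 2) F)) z
  have hctr : ∀ g : Matrix.SpecialLinearGroup (Fin 2) F, g ∈ Subgroup.center _ ↔
      ∃ r : F, r ^ 2 = 1 ∧ Matrix.scalar (Fin 2) r = (g : Matrix (Fin 2) (Fin 2) F) := fun g => by
    rw [Matrix.SpecialLinearGroup.mem_center_iff, Fintype.card_fin]
  have hi : i ∉ Subgroup.center _ := fun h => hz1 ((QuotientGroup.eq_one_iff i).2 h)
  have hii : i * i ∈ Subgroup.center _ := (QuotientGroup.eq_one_iff (i * i)).1 hz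
  set p := (i : Matrix (Fin 2) (Fin 2) F) 0 0
  set q := (i : Matrix (Fin 2) (Fin 2) F) 0 1
  set r := (i : Matrix (Fin 2) (Fin 2) F) 1 0
  set s := (i : Matrix (Fin 2) (Fin 2) F) 1 1
  have hdet : p * s - q * r = 1 := by
    have := i.2; rw [Matrix.det_fin_two] at this; exact this
  obtain ⟨c, hc, hce⟩ := (hctr _).1 hii
  rw [Matrix.SpecialLinearGroup.coe_mul] at hce
  have e00 : c = p * p + q * r := by
    have := congrFun (congrFun hce 0) 0; simpa [Matrix.mul_apply, Fin.sum_univ_two] using this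
  have e01 : 0 = p * q + q * s := by
    have := congrFun (congrFun hce 0) 1; simpa [Matrix.mul_apply, Fin.sum_univ_two] using this
  have e10 : 0 = r * p + s * r := by
    have := congrFun (congrFun hce 1) 0; simpa [Matrix.mul_apply, Fin.sum_univ_two] using this
  have e11 : c = r * q + s * s := by
    have := congrFun (congrFun hce 1) 1; simpa [Matrix.mul_apply, Fin.sum_univ_two] using this
  -- the trace of the involution vanishes
  have htr : p + s = 0 := by
    by_contra h
    have hq : q = 0 := (mul_eq_zero.1 (show q * (p + s) = 0 by linear_combination -e01)).resolve_right h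
    have hr : r = 0 := (mul_eq_zero.1 (show r * (p + s) = 0 by linear_combination -e10)).resolve_right h
    have hps : p = s := sub_eq_zero.1 ((mul_eq_zero.1
      (show (p - s) * (p + s) = 0 by linear_combination e11 - e00)).resolve_right h)
    refine hi ((hctr i).2 ⟨p, by rw [hq, hps] at hdet; rw [hps, pow_two]; linear_combination hdet, ?_⟩)
    ext a b
    fin_cases a <;> fin_cases b <;> simp [p, q, r, s] at hps hq hr ⊢ <;> simp [hq, hr, hps]
  have hs : s = -p := eq_neg_of_add_eq_zero_right htr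
  have hpp : p * p + q * r = -1 := by rw [hs] at hdet; linear_combination -hdet
  let K := AlgebraicClosure F
  let ι : F →+* K := algebraMap F K
  obtain ⟨w, hw⟩ := IsAlgClosed.exists_pow_nat_eq (k := K) (-1) (show 0 < 2 by norm_num)
  -- every element of `B` has a lift in the algebra of `i`
  have key : ∀ b : B, ∃ g : Matrix.SpecialLinearGroup (Fin 2) F, QuotientGroup.mk' (Subgroup.center _) g =
      (b : Matrix.ProjectiveSpecialLinearGroup (Fin 2) F) ∧ g ^ 3 = 1 ∧
      ∃ x y : F, x ^ 2 + y ^ 2 = 1 ∧ (g : Matrix (Fin 2) (Fin 2) F) = !![x + y * p, y * q; y * r, x + y * s] ∧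
        (ι x + ι y * w) ^ 3 = 1 := by
    rintro ⟨b, hb⟩
    obtain ⟨g0, rfl⟩ := QuotientGroup.mk'_surjective (Subgroup.center _) b
    have hg03 : g0 ^ 3 ∈ Subgroup.center _ := (QuotientGroup.eq_one_iff (g0 ^ 3)).1 (h3 _ hb)
    have hg09 : (g0 ^ 3) * (g0 ^ 3) = 1 := by
      obtain ⟨e, he, hee⟩ := (hctr _).1 hg03
      refine Subtype.ext ?_
      rw [Matrix.SpecialLinearGroup.coe_mul, ← hee, ← map_mul, ← pow_two, he, map_one]; rfl
    obtain ⟨g, hgdef⟩ : ∃ g, g = g0 ^ 4 := ⟨_, rfl⟩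
    have hg3 : g ^ 3 = 1 := by
      rw [hgdef, ← pow_mul, show 4 * 3 = (3 + 3) * 2 from rfl, pow_mul, pow_add, hg09, one_pow]
    have hgb : QuotientGroup.mk' (Subgroup.center _) g = QuotientGroup.mk' (Subgroup.center _) g0 := by
      rw [hgdef, map_pow, pow_succ, show (QuotientGroup.mk' (Subgroup.center _) g0) ^ 3 = 1 from h3 _ hb, one_mul]
    -- it commutes with `i`
    have hk : g * i * g⁻¹ * i⁻¹ ∈ Subgroup.center _ := by
      apply (QuotientGroup.eq_one_iff _).1
      show QuotientGroup.mk' (Subgroup.center _) (g * i * g⁻¹ * i⁻¹) = 1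
      rw [map_mul, map_mul, map_mul, map_inv, map_inv, hgb, mul_inv_eq_one, mul_inv_eq_iff_eq_mul]
      exact hzB _ hb
    obtain ⟨k, hkdef⟩ : ∃ k, k = g * i * g⁻¹ * i⁻¹ := ⟨_, rfl⟩
    rw [← hkdef] at hk
    have hkc : ∀ h, h * k = k * h := Subgroup.mem_center_iff.1 hk
    have h1 : g * i * g⁻¹ = k * i := by rw [hkdef]; group
    have hk3 : k ^ 3 = 1 := by
      have step : ∀ m : ℕ, g ^ m * i * (g ^ m)⁻¹ = k ^ m * i := by
        intro m
        induction m with
        | zero => simp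
        | succ m ih =>
          calc g ^ (m + 1) * i * (g ^ (m + 1))⁻¹ = g * (g ^ m * i * (g ^ m)⁻¹) * g⁻¹ := by
                rw [pow_succ']; group
            _ = g * (k ^ m * i) * g⁻¹ := by rw [ih]
            _ = (g * k ^ m) * i * g⁻¹ := by group
            _ = k ^ m * (g * i * g⁻¹) := by rw [(Commute.pow_right (hkc g) m).eq]; group
            _ = k ^ (m + 1) * i := by rw [h1, pow_succ]; group
      have := step 3
      rw [hg3, one_mul, inv_one, mul_one] at this
      exact mul_eq_right.1 this.symm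
    have hk2 : k * k = 1 := by
      obtain ⟨e, he, hee⟩ := (hctr _).1 hk
      refine Subtype.ext ?_
      rw [Matrix.SpecialLinearGroup.coe_mul, ← hee, ← map_mul, ← pow_two, he, map_one]; rfl
    have hk1 : k = 1 := by rwa [pow_succ, pow_two, hk2, one_mul] at hk3
    have hcomm : g * i = i * g := by rw [hk1, one_mul, mul_inv_eq_iff_eq_mul] at h1; exact h1
    have hm := congrArg (fun m : Matrix.SpecialLinearGroup (Fin 2) F => (m : Matrix (Fin 2) (Fin 2) F)) hcomm
    simp only [Matrix.SpecialLinearGroup.coe_mul] at hm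
    set A := (g : Matrix (Fin 2) (Fin 2) F)
    have m00 : A 0 0 * p + A 0 1 * r = p * A 0 0 + q * A 1 0 := by
      have := congrFun (congrFun hm 0) 0; simpa [Matrix.mul_apply, Fin.sum_univ_two] using this
    have m01 : A 0 0 * q + A 0 1 * s = p * A 0 1 + q * A 1 1 := by
      have := congrFun (congrFun hm 0) 1; simpa [Matrix.mul_apply, Fin.sum_univ_two] using this
    have m10 : A 1 0 * p + A 1 1 * r = r * A 0 0 + s * A 1 0 := by
      have := congrFun (congrFun hm 1) 0; simpa [Matrix.mul_apply, Fin.sum_univ_two] using this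
    rw [hs] at m01 m10
    obtain ⟨x, y, a00, a01, a10, a11⟩ : ∃ x y : F, A 0 0 = x + y * p ∧ A 0 1 = y * q ∧ A 1 0 = y * r ∧
        A 1 1 = x + y * s := by
      rw [hs]
      by_cases hq : q = 0
      · by_cases hr : r = 0
        · have hp : p ≠ 0 := fun hp0 => by
            rw [hp0, hq, hr] at hpp; simp at hpp
          have a01 : A 0 1 = 0 := (mul_eq_zero.1 (show A 0 1 * (2 * p) = 0 by
            rw [hq] at m01; linear_combination -m01)).resolve_right (mul_ne_zero h2 hp)
          have a10 : A 1 0 = 0 := (mul_eq_zero.1 (show A 1 0 * (2 * p) = 0 by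
            rw [hr] at m10; linear_combination m10)).resolve_right (mul_ne_zero h2 hp)
          refine ⟨A 0 0 - (A 0 0 - A 1 1) / (2 * p) * p, (A 0 0 - A 1 1) / (2 * p), by ring,
            by rw [a01, hq, mul_zero], by rw [a10, hr, mul_zero], ?_⟩
          field_simp
          ring
        · refine ⟨A 0 0 - A 1 0 / r * p, A 1 0 / r, by ring, ?_, by field_simp, ?_⟩
          · have : A 0 1 * r = 0 := by rw [hq] at m00; linear_combination m00
            rw [(mul_eq_zero.1 this).resolve_right hr, hq, mul_zero]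
          · field_simp
            linear_combination m10
      · refine ⟨A 0 0 - A 0 1 / q * p, A 0 1 / q, by ring, by field_simp, ?_, ?_⟩
        · field_simp
          linear_combination -m00
        · field_simp
          linear_combination -m01
    have hA : A = !![x + y * p, y * q; y * r, x + y * s] := by
      ext a b
      fin_cases a <;> fin_cases b <;> simp [a00, a01, a10, a11]
    have hxy : x ^ 2 + y ^ 2 = 1 := by
      have hd : A.det = 1 := g.2
      rw [Matrix.det_fin_two, a00, a01, a10, a11, hs] at hd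
      linear_combination hd + y ^ 2 * hpp
    refine ⟨g, hgb, hg3, x, y, hxy, hA, ?_⟩
    have h3' := congrArg (fun m : Matrix.SpecialLinearGroup (Fin 2) F => (m : Matrix (Fin 2) (Fin 2) F)) hg3
    simp only [Matrix.SpecialLinearGroup.coe_pow, Matrix.SpecialLinearGroup.coe_one] at h3'
    rw [show (g : Matrix (Fin 2) (Fin 2) F) = A from rfl, hA, pow_succ, pow_two] at h3'
    have t00 := congrFun (congrFun h3' 0) 0
    have t01 := congrFun (congrFun h3' 0) 1
    have t10 := congrFun (congrFun h3' 1) 0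
    have t11 := congrFun (congrFun h3' 1) 1
    simp [Matrix.mul_apply, Fin.sum_univ_two] at t00 t01 t10 t11
    rw [hs] at t00 t01 t10 t11
    have hre : x ^ 3 - 3 * x * y ^ 2 = 1 := by
      have : 2 * (x ^ 3 - 3 * x * y ^ 2 - 1) = 0 := by
        linear_combination t00 + t11 - 6 * x * y ^ 2 * hpp
      exact sub_eq_zero.1 ((mul_eq_zero.1 this).resolve_left h2)
    have him : 3 * x ^ 2 * y - y ^ 3 = 0 := by
      by_contra h
      have hq : q = 0 := (mul_eq_zero.1 (show (3 * x ^ 2 * y - y ^ 3) * q = 0 by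
        linear_combination t01 - y ^ 3 * q * hpp)).resolve_left h
      have hr : r = 0 := (mul_eq_zero.1 (show (3 * x ^ 2 * y - y ^ 3) * r = 0 by
        linear_combination t10 - y ^ 3 * r * hpp)).resolve_left h
      have hp : 2 * p ≠ 0 := mul_ne_zero h2 fun hp0 => by rw [hp0, hq, hr] at hpp; simp at hpp
      exact h ((mul_eq_zero.1 (show (3 * x ^ 2 * y - y ^ 3) * (2 * p) = 0 by
        linear_combination t00 - t11 - 2 * p * y ^ 3 * hpp)).resolve_right hp)
    have e1 := congrArg ι hre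
    have e2 := congrArg ι him
    simp only [map_sub, map_mul, map_pow, map_ofNat, map_one, map_zero] at e1 e2
    linear_combination e1 + w * e2 + (3 * ι x * ι y ^ 2 + ι y ^ 3 * w) * hw
  choose g hg1 hg3 x y hxy hmat hroot using key
  have hw0 : w ≠ 0 := fun h => by rw [h] at hw; simp at hw
  have h2K : (2 : K) ≠ 0 := by rw [← map_ofNat ι]; exact (map_ne_zero ι).2 h2
  let χ : B → K := fun b => ι (x b) + ι (y b) * w
  have hinj : Function.Injective χ := by
    intro b b' h
    have hn : ∀ b, (ι (x b) + ι (y b) * w) * (ι (x b) - ι (y b) * w) = 1 := fun b => by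
      have := congrArg ι (hxy b)
      simp only [map_add, map_pow, map_one] at this
      linear_combination this - ι (y b) ^ 2 * hw
    have hsub : ι (x b) - ι (y b) * w = ι (x b') - ι (y b') * w := by
      have h1 := hn b; have h2 := hn b'
      rw [show ι (x b) + ι (y b) * w = χ b from rfl, h] at h1
      exact mul_left_cancel₀ (left_ne_zero_of_mul_eq_one h1) (h1.trans h2.symm)
    have hx : x b = x b' := ι.injective (mul_left_cancel₀ h2K (by
      have h' : ι (x b) + ι (y b) * w = ι (x b') + ι (y b') * w := h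
      linear_combination h' + hsub))
    have hy : y b = y b' := ι.injective (mul_right_cancel₀ hw0 (mul_left_cancel₀ h2K (by
      have h' : ι (x b) + ι (y b) * w = ι (x b') + ι (y b') * w := h
      linear_combination h' - hsub)))
    apply Subtype.ext
    rw [← hg1 b, ← hg1 b']
    congr 1
    exact Subtype.ext (by rw [hmat b, hmat b', hx, hy])
  have : Fintype B := Fintype.ofFinite _
  have hle : (Finset.univ.image χ).card ≤ 3 := by
    refine (Finset.card_le_card fun v hv => ?_).trans (Multiset.toFinset_card_le _ |>.trans (Polynomial.card_nthRoots 3 (1 : K)))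
    obtain ⟨b, -, rfl⟩ := Finset.mem_image.1 hv
    exact Multiset.mem_toFinset.2 ((Polynomial.mem_nthRoots (by norm_num)).2 (hroot b))
  rw [Finset.card_image_of_injective _ hinj, Finset.card_univ, ← Nat.card_eq_fintype_card, hB] at hle
  omega

/-! ## The configuration in the quotient -/

section Quot

variable {X : Type u} [Group X] [Finite X]

set_option maxHeartbeats 1600000 in
theorem quot_false (z t : X) (B : Subgroup X) (hz : z * z = 1) (hz1 : z ≠ 1) (ht : t * t = 1) (ht1 : t ≠ 1)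
    (hzt : z * t = t * z) (hne : z ≠ t) (hB : Nat.card B = 9) (h3 : ∀ b ∈ B, b ^ 3 = 1)
    (hzB : ∀ b ∈ B, b * z = z * b) (htB : ∀ b ∈ B, t * b * t⁻¹ = b⁻¹)
    (hC : Nat.card (Subgroup.centralizer ({z} : Set X)) = 36) (hct : IsConj t z) (hctz : IsConj (t * z) z)
    (h27 : ¬ 27 ∣ Nat.card X) : False := by
  classical
  have : Fact (Nat.Prime 2) := ⟨Nat.prime_two⟩
  have : Fact (Nat.Prime 3) := ⟨Nat.prime_three⟩
  have hzi : z⁻¹ = z := inv_eq_of_mul_eq_one_right hz
  have hti : t⁻¹ = t := inv_eq_of_mul_eq_one_right ht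
  have htz : t * z ≠ 1 := fun h => hne ((eq_inv_of_mul_eq_one_right h).trans hti)
  let V : Subgroup X :=
    { carrier := {g | g = 1 ∨ g = z ∨ g = t ∨ g = t * z}
      one_mem' := Or.inl rfl
      inv_mem' := by
        rintro g (rfl | rfl | rfl | rfl)
        · exact Or.inl inv_one
        · exact Or.inr (Or.inl hzi)
        · exact Or.inr (Or.inr (Or.inl hti))
        · exact Or.inr (Or.inr (Or.inr (by rw [mul_inv_rev, hzi, hti, hzt])))
      mul_mem' := by
        have h1 : z * (t * z) = t := by rw [← mul_assoc, hzt, mul_assoc, hz, mul_one]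
        have h2 : t * (t * z) = z := by rw [← mul_assoc, ht, one_mul]
        have h3 : t * z * z = t := by rw [mul_assoc, hz, mul_one]
        have h4 : t * z * t = z := by rw [mul_assoc, hzt, ← mul_assoc, ht, one_mul]
        have h5 : t * z * (t * z) = 1 := by rw [← mul_assoc, h4, hz]
        rintro g h (rfl | rfl | rfl | rfl) (rfl | rfl | rfl | rfl) <;>
          simp only [Set.mem_ofPred_eq, one_mul, mul_one, hz, ht, h1, h2, h3, h4, h5, hzt] <;> simp }
  have hVm : ∀ {g}, g ∈ V ↔ g = 1 ∨ g = z ∨ g = t ∨ g = t * z := Iff.rfl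
  have hzV : z ∈ V := Or.inr (Or.inl rfl)
  have htV : t ∈ V := Or.inr (Or.inr (Or.inl rfl))
  have hVsq : ∀ v ∈ V, v * v = 1 := by
    rintro v (rfl | rfl | rfl | rfl)
    · exact one_mul 1
    · exact hz
    · exact ht
    · rw [mul_assoc, ← mul_assoc z, hzt, mul_assoc t, hz, mul_one, ht]
  have hV4 : Nat.card V = 4 := by
    have h : (V : Set X) = {1, z, t, t * z} := by ext g; simp [hVm]
    rw [← SetLike.coe_sort_coe, h, Nat.card_coe_set_eq,
      Set.ncard_insert_of_notMem (by simp [hz1.symm, ht1.symm, htz.symm]) (by simp),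
      Set.ncard_insert_of_notMem (by
        simp only [Set.mem_insert_iff, Set.mem_singleton_iff, not_or]
        exact ⟨hne, fun h => ht1 (mul_eq_right.1 h.symm)⟩) (by simp),
      Set.ncard_pair (fun h => hz1 (mul_eq_left.1 h.symm))]
  have hVc : ∀ v ∈ V, v * z = z * v := by
    rintro v (rfl | rfl | rfl | rfl)
    · simp
    · rfl
    · exact hzt.symm
    · rw [← mul_assoc z, hzt]
  have hBab : ∀ a ∈ B, ∀ b ∈ B, a * b = b * a := fun a ha b hb => congrArg Subtype.val
    ((IsPGroup.commutative_of_card_eq_prime_sq (p := 3) (by rw [hB]; norm_num)) (⟨a, ha⟩ : B) ⟨b, hb⟩)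
  have hBV : ∀ g, g ∈ B → g ∈ V → g = 1 := fun g hg hv => by
    have := h3 g hg
    rwa [pow_succ, pow_two, hVsq g hv, one_mul] at this
  have hnorm : ∀ v ∈ V, ∀ b ∈ B, v * b * v⁻¹ ∈ B := by
    rintro v (rfl | rfl | rfl | rfl) b hb
    · simpa using hb
    · rw [← hzB b hb, mul_inv_cancel_right]; exact hb
    · rw [htB b hb]; exact inv_mem hb
    · rw [show t * z * b * (t * z)⁻¹ = t * (z * b * z⁻¹) * t⁻¹ by group, ← hzB b hb, mul_inv_cancel_right,
        htB b hb]; exact inv_mem hb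
  set C := Subgroup.centralizer ({z} : Set X) with hCdef
  have hmC : ∀ {g}, g ∈ C ↔ g * z = z * g := Subgroup.mem_centralizer_singleton_iff
  have hBC : B ≤ C := fun b hb => hmC.2 (hzB b hb)
  have hVC : V ≤ C := fun v hv => hmC.2 (hVc v hv)
  have hform : ∀ g ∈ C, ∃ b ∈ B, ∃ v ∈ V, g = b * v := by
    let μ : B × V → C := fun q => ⟨(q.1 : X) * q.2, mul_mem (hBC q.1.2) (hVC q.2.2)⟩
    have hμ : Function.Bijective μ := by
      refine (Nat.bijective_iff_injective_and_card μ).2 ⟨?_, by rw [Nat.card_prod, hB, hV4, hC]⟩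
      rintro ⟨b, v⟩ ⟨b', v'⟩ h
      have h' : (b : X) * v = b' * v' := congrArg Subtype.val h
      have h1 : (b' : X)⁻¹ * b = v' * (v : X)⁻¹ := by
        rw [eq_mul_inv_iff_mul_eq, mul_assoc, inv_mul_eq_iff_eq_mul]; exact h'
      have h2 := hBV _ (mul_mem (inv_mem b'.2) b.2) (h1 ▸ mul_mem v'.2 (inv_mem v.2))
      rw [h2] at h1
      exact Prod.ext (Subtype.ext (inv_mul_eq_one.1 h2).symm) (Subtype.ext (mul_inv_eq_one.1 h1.symm).symm)
    intro g hg
    obtain ⟨⟨b, v⟩, h⟩ := hμ.2 ⟨g, hg⟩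
    exact ⟨b, b.2, v, v.2, (congrArg Subtype.val h).symm⟩
  -- involutions of the centraliser
  have hinvC : ∀ g ∈ C, g * g = 1 → g ≠ 1 → IsConj g z := by
    intro g hg hgg hg1
    obtain ⟨b, hb, v, hv, rfl⟩ := hform g hg
    have hcase : ∀ w ∈ V, w * b * w⁻¹ = b⁻¹ → IsConj (b * w) w := by
      intro w _ hwb
      refine isConj_iff.2 ⟨b, ?_⟩
      have h1 : w * b⁻¹ = b * w := by
        have := congrArg (fun x => x⁻¹) hwb
        simp only [mul_inv_rev, inv_inv] at this
        rw [← mul_assoc, mul_inv_eq_iff_eq_mul] at this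
        exact this
      calc b * (b * w) * b⁻¹ = b * b * (w * b⁻¹) := by group
        _ = b ^ 3 * w := by rw [h1]; simp [pow_succ, mul_assoc]
        _ = w := by rw [h3 b hb, one_mul]
    have hpre : ∀ w ∈ V, w * b * w⁻¹ = b → b * w * (b * w) = 1 → b = 1 := by
      intro w hw hwb hsq
      rw [mul_inv_eq_iff_eq_mul] at hwb
      rw [show b * w * (b * w) = b * (w * b) * w by group, hwb,
        show b * (b * w) * w = b * b * (w * w) by group, hVsq w hw, mul_one] at hsq
      have := h3 b hb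
      rwa [pow_succ, pow_two, hsq, one_mul] at this
    rcases hVm.1 hv with hcs | hcs | hcs | hcs <;> subst v
    · have := hpre 1 V.one_mem (by simp) hgg
      simp [this] at hg1
    · have := hpre z hzV (by rw [← hzB b hb, mul_inv_cancel_right]) hgg
      rw [this, one_mul]
    · exact (hcase t htV (htB b hb)).trans hct
    · refine (hcase (t * z) hv ?_).trans hctz
      rw [show t * z * b * (t * z)⁻¹ = t * (z * b * z⁻¹) * t⁻¹ by group, ← hzB b hb, mul_inv_cancel_right,
        htB b hb]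
  have hcent : ∀ w, IsConj w z → Nat.card (Subgroup.centralizer ({w} : Set X)) = 36 := by
    intro w hw
    obtain ⟨c, hc⟩ := isConj_iff.1 hw
    rw [← hC]
    refine Nat.card_congr ((Subgroup.centralizer ({w} : Set X)).equivMapOfInjective (MulAut.conj c).toMonoidHom
      (MulAut.conj c).injective |>.toEquiv.trans (Equiv.setCongr ?_))
    ext g
    simp only [SetLike.mem_coe, Subgroup.mem_map]
    constructor
    · rintro ⟨k, hk, rfl⟩
      refine hmC.2 ?_
      rw [← hc]
      show (MulAut.conj c) k * (MulAut.conj c) w = (MulAut.conj c) w * (MulAut.conj c) k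
      rw [← map_mul, ← map_mul, Subgroup.mem_centralizer_singleton_iff.1 hk]
    · intro hg
      refine ⟨c⁻¹ * g * c, Subgroup.mem_centralizer_singleton_iff.2 ?_, by simp [mul_assoc]⟩
      have := hmC.1 hg
      rw [← hc] at this
      calc c⁻¹ * g * c * w = c⁻¹ * (g * (c * w * c⁻¹)) * c := by group
        _ = c⁻¹ * (c * w * c⁻¹ * g) * c := by rw [this]
        _ = w * (c⁻¹ * g * c) := by group
  -- the Sylow two subgroups
  obtain ⟨S, hS⟩ : ∃ S : Sylow 2 X, (S : Subgroup X) = V := by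
    obtain ⟨S, hS⟩ := (IsPGroup.of_card (p := 2) (n := 2) (show Nat.card V = 2 ^ 2 from hV4)).exists_le_sylow
    have hnt : Nontrivial ↥(S : Subgroup X) := ⟨⟨z, hS hzV⟩, 1, fun h => hz1 (congrArg Subtype.val h)⟩
    have := S.2.center_nontrivial
    obtain ⟨w, hw⟩ := exists_prime_orderOf_dvd_card' 2 (G := Subgroup.center ↥(S : Subgroup X)) (by
      obtain ⟨k, hk, hk'⟩ := (S.2.to_subgroup (Subgroup.center _)).nontrivial_iff_card.1 inferInstance
      rw [hk']; exact dvd_pow_self 2 hk.ne')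
    obtain ⟨⟨w, hwS⟩, hwc⟩ := w
    rw [Subgroup.orderOf_mk, Subgroup.orderOf_mk] at hw
    have hwcomm : ∀ k ∈ (S : Subgroup X), k * w = w * k := fun k hk =>
      congrArg Subtype.val (Subgroup.mem_center_iff.1 hwc ⟨k, hk⟩)
    have hw2 : w * w = 1 := by rw [← pow_two, ← hw]; exact pow_orderOf_eq_one w
    have hw1 : w ≠ 1 := fun h => by rw [h, orderOf_one] at hw; omega
    have hwz := hinvC w (hmC.2 (hwcomm z (hS hzV)).symm) hw2 hw1
    have hle : (S : Subgroup X) ≤ Subgroup.centralizer ({w} : Set X) := fun k hk =>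
      Subgroup.mem_centralizer_singleton_iff.2 (hwcomm k hk)
    have hd := Subgroup.card_dvd_of_le hle
    rw [hcent w hwz] at hd
    obtain ⟨k, hk⟩ := IsPGroup.iff_card.1 S.2
    rw [hk] at hd
    have h4 : 2 ^ k ∣ 4 := by
      have hco : Nat.Coprime (2 ^ k) 9 := Nat.Coprime.pow_left k (by norm_num)
      exact hco.dvd_of_dvd_mul_right (show 2 ^ k ∣ 4 * 9 from hd)
    exact ⟨S, (Subgroup.eq_of_le_of_card_ge hS (by rw [hk, hV4]; exact Nat.le_of_dvd (by norm_num) h4)).symm⟩
  have hinv : ∀ g : X, g * g = 1 → g ≠ 1 → IsConj g z := by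
    intro g hg hg1
    have hp : IsPGroup 2 (Subgroup.zpowers g) := by
      refine IsPGroup.of_card (n := 1) ?_
      rw [Nat.card_zpowers, orderOf_eq_prime (by rw [pow_two, hg]) hg1]; norm_num
    obtain ⟨T, hT⟩ := hp.exists_le_sylow
    obtain ⟨c, hc⟩ := MulAction.exists_smul_eq X T S
    have hm : c * g * c⁻¹ ∈ V := by
      rw [← hS, ← hc, Sylow.coe_subgroup_smul]
      exact ⟨g, hT (Subgroup.mem_zpowers g), rfl⟩
    refine (isConj_iff.2 ⟨c, rfl⟩ : IsConj g (c * g * c⁻¹)).trans (hinvC _ (hVC hm) (hVsq _ hm) fun h => hg1 ?_)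
    exact conj_eq_one_iff.1 h
  -- the centraliser of a nontrivial element of `B`
  have hodd9 : Odd (Nat.card B) := by rw [hB]; decide
  have hoddB : ∀ g ∈ C, Odd (orderOf g) → g ∈ B := by
    intro g hg ho
    obtain ⟨b, hb, v, hv, rfl⟩ := hform g hg
    have hsq : b * v * (b * v) ∈ B := by
      rw [show b * v * (b * v) = b * (v * b * v⁻¹) * (v * v) by group, hVsq v hv, mul_one]
      exact mul_mem hb (hnorm v hv b hb)
    obtain ⟨k, hk⟩ := ho
    have h1 : (b * v) ^ (2 * k + 1) = 1 := by rw [← hk]; exact pow_orderOf_eq_one _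
    rw [pow_succ, pow_mul, pow_two] at h1
    rw [eq_inv_of_mul_eq_one_right h1]
    exact inv_mem (pow_mem hsq k)
  have hcz : ∀ (O : Subgroup X), Odd (Nat.card O) → ∀ w, IsConj w z →
      Nat.card ↥(O ⊓ Subgroup.centralizer ({w} : Set X)) ∣ 9 := by
    intro O hO w hw
    have h1 := Subgroup.card_dvd_of_le (show O ⊓ Subgroup.centralizer ({w} : Set X) ≤ _ from inf_le_right)
    rw [hcent w hw] at h1
    have ho := hO.of_dvd_nat (Subgroup.card_dvd_of_le (show O ⊓ Subgroup.centralizer ({w} : Set X) ≤ O from inf_le_left))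
    have hco : Nat.Coprime (Nat.card ↥(O ⊓ Subgroup.centralizer ({w} : Set X))) 4 :=
      show Nat.Coprime _ (2 ^ 2) from Nat.Coprime.pow_right 2 (Nat.coprime_two_right.2 ho)
    exact hco.dvd_of_dvd_mul_left (show _ ∣ 4 * 9 from h1)
  have hfix1 : ∀ O : Subgroup X, Odd (Nat.card O) → Nat.card ↥(O ⊓ Subgroup.centralizer ({z, t} : Set X)) = 1 := by
    intro O hO
    rw [Subgroup.card_eq_one, Subgroup.eq_bot_iff_forall]
    intro g hg
    have hg' := Subgroup.mem_centralizer_iff.1 hg.2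
    have hgB : g ∈ B := hoddB g (hmC.2 (hg' z (by simp)).symm) (hO.of_dvd_nat
      ((Subgroup.orderOf_mk g hg.1).symm.dvd.trans (orderOf_dvd_natCard _)))
    have h1 := htB g hgB
    rw [hg' t (by simp), mul_inv_cancel_right, ← mul_eq_one_iff_eq_inv] at h1
    have := h3 g hgB
    rwa [pow_succ, pow_two, h1, one_mul] at this
  have hCb : ∀ b ∈ B, b ≠ 1 → ∀ g, g * b = b * g → g ∈ C ∧ (g ∈ B ∨ g * z ∈ B) := by
    intro b hb hb1
    set K := Subgroup.centralizer ({b} : Set X) with hK
    have hmK : ∀ {g}, g ∈ K ↔ g * b = b * g := Subgroup.mem_centralizer_singleton_iff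
    have hzK : z ∈ K := hmK.2 (hzB b hb).symm
    have hKC : ∀ g ∈ C, g ∈ K → g ∈ B ∨ g * z ∈ B := by
      intro g hg hgK
      obtain ⟨b', hb', v, hv, rfl⟩ := hform g hg
      have hvb : v * b = b * v := by
        have h1 := hmK.1 hgK
        rw [mul_assoc, ← mul_assoc b, hBab b hb b' hb', mul_assoc b'] at h1
        exact mul_left_cancel h1
      have hbb : ∀ w, w * b * w⁻¹ = b⁻¹ → w * b = b * w → False := fun w h1 h2 => by
        rw [h2, mul_inv_cancel_right, ← mul_eq_one_iff_eq_inv] at h1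
        have := h3 b hb
        rw [pow_succ, pow_two, h1, one_mul] at this
        exact hb1 this
      rcases hVm.1 hv with hcs | hcs | hcs | hcs <;> subst v
      · left; rwa [mul_one]
      · right; rwa [mul_assoc, hz, mul_one]
      · exact (hbb t (htB b hb) hvb).elim
      · refine (hbb (t * z) ?_ hvb).elim
        rw [show t * z * b * (t * z)⁻¹ = t * (z * b * z⁻¹) * t⁻¹ by group, ← hzB b hb, mul_inv_cancel_right,
          htB b hb]
    have h2 : 2 ∣ Nat.card K := by
      have := Subgroup.orderOf_dvd_natCard K hzK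
      rwa [orderOf_eq_prime (by rw [pow_two, hz]) hz1] at this
    obtain ⟨m, hm⟩ := h2
    have hmo : Odd m := by
      by_contra hev
      obtain ⟨m', rfl⟩ := Nat.not_odd_iff_even.1 hev
      obtain ⟨Q, hQ, hQz⟩ := Sylow.exists_subgroup_card_pow_prime_le (p := 2) (n := 1) (m := 2) (by
        rw [hm]; exact ⟨m', by ring⟩) (H := Subgroup.zpowers (⟨z, hzK⟩ : K)) (by
        rw [Nat.card_zpowers, Subgroup.orderOf_mk, orderOf_eq_prime (by rw [pow_two, hz]) hz1]; norm_num) (by norm_num)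
      have hab := IsPGroup.commutative_of_card_eq_prime_sq (p := 2) hQ
      have hQ4 : Nat.card (Q.map K.subtype) = 4 := by
        rw [Subgroup.card_map_of_injective K.subtype_injective, hQ]; norm_num
      have hsub : (Q.map K.subtype : Set X) ⊆ {1, z} := by
        rintro _ ⟨k, hk, rfl⟩
        have hkC : (k : X) ∈ C := hmC.2 (congrArg (fun x : Q => ((x : K) : X))
          (hab ⟨k, hk⟩ ⟨⟨z, hzK⟩, hQz (Subgroup.mem_zpowers _)⟩))
        have h4 : (k : X) ^ 4 = 1 := by
          have := pow_card_eq_one' (x := (⟨k, hk⟩ : Q))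
          rw [hQ] at this
          exact congrArg (fun x : Q => ((x : K) : X)) this
        have hk3 : ∀ g ∈ B, g ^ 4 = 1 → g = 1 := fun g hg h => by
          rwa [pow_succ, h3 g hg, one_mul] at h
        rcases hKC _ hkC k.2 with h | h
        · left; exact hk3 _ h h4
        · right
          have h' : ((k : X) * z) ^ 4 = 1 := by
            rw [(show Commute (k : X) z from hmC.1 hkC).mul_pow, h4, one_mul,
              show (4 : ℕ) = 2 * 2 from rfl, pow_mul, pow_two z, hz, one_pow]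
          have := hk3 _ h h'
          rw [mul_eq_one_iff_eq_inv, hzi] at this
          exact this
      have := Set.ncard_le_ncard hsub
      rw [← Nat.card_coe_set_eq, SetLike.coe_sort_coe, hQ4, Set.ncard_pair hz1.symm] at this
      omega
    obtain ⟨O, hOc, hOK, hOodd⟩ := CentFour74.exists_half hm hmo
    have hOo : Odd (Nat.card O) := hOc ▸ hmo
    have hinvK : ∀ w, (w * b * w⁻¹ = b ∨ w * b * w⁻¹ = b⁻¹) → ∀ g ∈ O, w * g * w⁻¹ ∈ O := by
      intro w hw g hg
      have hgK : w * g * w⁻¹ ∈ K := by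
        refine hmK.2 ?_
        have hgb : Commute g b := hmK.1 (hOK hg)
        have h1 := hgb.map (MulAut.conj w).toMonoidHom
        simp only [MulEquiv.coe_toMonoidHom, MulAut.conj_apply] at h1
        rcases hw with h | h <;> rw [h] at h1
        · exact h1.eq
        · exact (Commute.inv_right_iff.1 h1).eq
      rw [hOodd _ hgK, ← MulAut.conj_apply, MulEquiv.orderOf_eq]
      exact (hOodd g (hOK hg)).1 hg
    have h := CentFour74.four_card O hOo hz ht hzt hz1 ht1 hne
      (hinvK z (Or.inl (by rw [← hzB b hb, mul_inv_cancel_right]))) (hinvK t (Or.inr (htB b hb)))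
    rw [hfix1 O hOo, one_pow, one_mul] at h
    have hBO : B ≤ O := fun g hg => (hOodd g (hmK.2 (hBab g hg b hb))).2 (hodd9.of_dvd_nat
      ((Subgroup.orderOf_mk g hg).symm.dvd.trans (orderOf_dvd_natCard _)))
    have hOz : O ⊓ C = B := le_antisymm (fun g hg => hoddB g hg.2 ((hOodd g (hOK hg.1)).1 hg.1))
      (le_inf hBO hBC)
    rw [hOz, hB] at h
    have ht' := hcz O hOo t hct
    have hzt' := hcz O hOo (z * t) (by rw [hzt]; exact hctz)
    have hdX := Subgroup.card_subgroup_dvd_card O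
    rw [← h] at hdX
    generalize Nat.card ↥(O ⊓ Subgroup.centralizer ({t} : Set X)) = c at *
    generalize Nat.card ↥(O ⊓ Subgroup.centralizer ({z * t} : Set X)) = c' at *
    have hone : ∀ e, e ∣ 9 → 9 * e ∣ Nat.card X → e = 1 := by
      intro e he hdX
      obtain ⟨j, hj, rfl⟩ := (Nat.dvd_prime_pow Nat.prime_three).1 (show e ∣ 3 ^ 2 from he)
      by_contra hne'
      exact h27 (dvd_trans (show 27 ∣ 9 * 3 ^ j from by
        rcases j with _ | j
        · exact absurd rfl hne'
        · exact ⟨3 ^ j, by ring⟩) hdX)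
    have hO9 : Nat.card O ≤ Nat.card B := by
      rw [← h, hB, hone c ht' ((dvd_mul_right _ c').trans hdX),
        hone c' hzt' ((mul_dvd_mul_right (dvd_mul_right 9 c) c').trans hdX)]
    have hOB : O = B := (Subgroup.eq_of_le_of_card_ge hBO hO9).symm
    intro g hg
    have hgK : g ∈ K := hmK.2 hg
    have hhalf : g ∈ O ∨ g * z ∈ O := by
      have hOn : O ≤ K := hOK
      have hzO : z ∉ O := fun hc => by
        have := (hOodd z hzK).1 hc
        rw [orderOf_eq_prime (by rw [pow_two, hz]) hz1] at this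
        exact absurd this (by decide)
      let μ : O ⊕ O → K := Sum.elim (fun o => ⟨o, hOn o.2⟩) (fun o => ⟨o * z, mul_mem (hOn o.2) hzK⟩)
      have hμ : Function.Bijective μ := by
        refine (Nat.bijective_iff_injective_and_card μ).2 ⟨?_, by rw [Nat.card_sum, hOc, hm, two_mul]⟩
        rintro (a | a) (a' | a') hh <;> have hh' := congrArg Subtype.val hh <;>
          simp only [μ, Sum.elim_inl, Sum.elim_inr] at hh'
        · exact congrArg Sum.inl (Subtype.ext hh')
        · exact absurd ((Subgroup.mul_mem_cancel_left _ a'.2).1 (hh' ▸ a.2)) hzO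
        · exact absurd ((Subgroup.mul_mem_cancel_left _ a.2).1 (hh'.symm ▸ a'.2)) hzO
        · exact congrArg Sum.inr (Subtype.ext (mul_right_cancel hh'))
      obtain ⟨o | o, ho⟩ := hμ.2 ⟨g, hgK⟩ <;> have ho' : _ = g := congrArg Subtype.val ho
      · left; rw [← ho']; exact o.2
      · right; rw [← ho']; show (o : X) * z * z ∈ O; rw [mul_assoc, hz, mul_one]; exact o.2
    rw [hOB] at hhalf
    refine ⟨?_, hhalf⟩
    rcases hhalf with h1 | h1
    · exact hBC h1
    · have := mul_mem (hBC h1) (hVC hzV)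
      rwa [mul_assoc, hz, mul_one] at this
  have hNY : ∀ Y : Subgroup X, Y ≤ B → Y ≠ ⊥ → Subgroup.normalizer (Y : Set X) ≤ C := by
    intro Y hY hY1 g hg
    obtain ⟨b, hb, hb1⟩ := Y.bot_or_exists_ne_one.resolve_left hY1
    have hb' : g⁻¹ * b * g ∈ Y := (Subgroup.mem_normalizer_iff''.1 hg b).1 hb
    have hcomm : g * z * g⁻¹ * b = b * (g * z * g⁻¹) := by
      have := hzB _ (hY hb')
      calc g * z * g⁻¹ * b = g * (z * (g⁻¹ * b * g)) * g⁻¹ := by group
        _ = g * ((g⁻¹ * b * g) * z) * g⁻¹ := by rw [this]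
        _ = b * (g * z * g⁻¹) := by group
    obtain ⟨hwC, hw⟩ := hCb b (hY hb) hb1 _ hcomm
    have hw2 : g * z * g⁻¹ * (g * z * g⁻¹) = 1 := by
      rw [conj_mul, hz]; group
    have hone : ∀ u ∈ B, u * u = 1 → u = 1 := fun u hu h => by
      have := h3 u hu
      rwa [pow_succ, pow_two, h, one_mul] at this
    rcases hw with h | h
    · exact absurd (conj_eq_one_iff.1 (hone _ h hw2)) hz1
    · have h1 := hone _ h (by
        rw [show g * z * g⁻¹ * z * (g * z * g⁻¹ * z) = g * z * g⁻¹ * (z * (g * z * g⁻¹)) * z by group,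
          ← hmC.1 hwC, show g * z * g⁻¹ * (g * z * g⁻¹ * z) * z = g * z * g⁻¹ * (g * z * g⁻¹) * (z * z) by group,
          hw2, hz, one_mul])
      rw [mul_eq_one_iff_eq_inv, hzi, mul_inv_eq_iff_eq_mul] at h1
      exact hmC.2 h1
  -- simplicity
  have hnt : Nontrivial X := ⟨⟨z, 1, hz1⟩⟩
  have hsimple : IsSimpleGroup X := by
    refine ⟨fun N hN => ?_⟩
    by_cases hN1 : N = ⊥
    · exact Or.inl hN1
    right
    have hev : 2 ∣ Nat.card N := by
      by_contra ho
      have hodd : Odd (Nat.card N) := Nat.odd_iff.2 (by omega)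
      have h := CentFour74.four_card N hodd hz ht hzt hz1 ht1 hne
        (fun g hg => hN.conj_mem g hg z) (fun g hg => hN.conj_mem g hg t)
      rw [hfix1 N hodd, one_pow, one_mul] at h
      have heq : ∀ w, IsConj w z → Nat.card ↥(N ⊓ Subgroup.centralizer ({w} : Set X)) = Nat.card ↥(N ⊓ C) := by
        intro w hw
        obtain ⟨c, hc⟩ := isConj_iff.1 hw
        refine Nat.card_congr
          { toFun := fun g => ⟨c * g * c⁻¹, hN.conj_mem _ g.2.1 c, hmC.2 ?_⟩
            invFun := fun g => ⟨c⁻¹ * g * c, ?_, Subgroup.mem_centralizer_singleton_iff.2 ?_⟩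
            left_inv := fun g => Subtype.ext (by simp [mul_assoc])
            right_inv := fun g => Subtype.ext (by simp [mul_assoc]) }
        · rw [← hc, conj_mul, conj_mul, Subgroup.mem_centralizer_singleton_iff.1 g.2.2]
        · simpa using hN.conj_mem _ g.2.1 c⁻¹
        · have := hmC.1 g.2.2
          rw [← hc] at this
          calc c⁻¹ * (g : X) * c * w = c⁻¹ * ((g : X) * (c * w * c⁻¹)) * c := by group
            _ = c⁻¹ * (c * w * c⁻¹ * g) * c := by rw [this]
            _ = w * (c⁻¹ * g * c) := by group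
      rw [heq t hct, heq (z * t) (by rw [hzt]; exact hctz)] at h
      have hd9 := hcz N hodd z (IsConj.refl z)
      rw [← hCdef] at hd9
      have hdX := Subgroup.card_subgroup_dvd_card N
      generalize Nat.card ↥(N ⊓ C) = c at *
      obtain ⟨j, hj, rfl⟩ := (Nat.dvd_prime_pow Nat.prime_three).1 (show c ∣ 3 ^ 2 from hd9)
      rcases j with _ | j
      · exact hN1 (Subgroup.card_eq_one.1 (by rw [← h]; norm_num))
      · exact h27 (dvd_trans ⟨(3 ^ j) ^ 3, by rw [← h]; ring⟩ hdX)
    obtain ⟨g, hg⟩ := exists_prime_orderOf_dvd_card' 2 (G := N) hev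
    have hall : ∀ w : X, IsConj w z → w ∈ N := by
      have hg2 : (g : X) * g = 1 := by
        rw [← pow_two, ← Subgroup.coe_pow, ← hg, pow_orderOf_eq_one]; rfl
      have hgz := hinv g hg2 (fun h => by
        rw [show g = 1 from Subtype.ext h, orderOf_one] at hg; omega)
      intro w hw
      obtain ⟨c, hc⟩ := isConj_iff.1 (hgz.trans hw.symm)
      exact hc ▸ hN.conj_mem _ g.2 c
    have hzN : z ∈ N := hall z (IsConj.refl z)
    have htN : t ∈ N := hall t hct
    have hVN : V ≤ N := by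
      rintro v (rfl | rfl | rfl | rfl)
      exacts [one_mem N, hzN, htN, mul_mem htN hzN]
    have hBN : B ≤ N := by
      intro b hb
      have h1 : b * t * b⁻¹ * t⁻¹ ∈ N := mul_mem (hN.conj_mem _ htN b) (inv_mem htN)
      rw [show b * t * b⁻¹ * t⁻¹ = b * (t * b * t⁻¹)⁻¹ by group, htB b hb, inv_inv] at h1
      have h2 := inv_mem h1
      rwa [show (b * b)⁻¹ = b from inv_eq_of_mul_eq_one_right (by
        rw [← h3 b hb, pow_succ, pow_two])] at h2
    let T : Sylow 2 N := S.subtype (hS ▸ hVN)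
    have hsup := Sylow.normalizer_sup_eq_top T
    have hT : (T : Subgroup N).map N.subtype = V := by
      show (((S : Subgroup X).subgroupOf N)).map N.subtype = V
      rw [Subgroup.map_subgroupOf_eq_of_le (hS ▸ hVN), hS]
    rw [hT] at hsup
    have hsix : ∀ g ∈ Subgroup.normalizer (V : Set X), g ^ 6 ∈ N := by
      intro g hg
      let I := {v : X // v ∈ V ∧ v ≠ 1}
      have hI : Nat.card I = 3 := by
        have h : {v : X | v ∈ V ∧ v ≠ 1} = {z, t, t * z} := by
          ext v
          simp only [Set.mem_ofPred_eq, hVm, Set.mem_insert_iff, Set.mem_singleton_iff]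
          constructor
          · rintro ⟨h | h, hv⟩
            · exact absurd h hv
            · exact h
          · rintro (rfl | rfl | rfl)
            exacts [⟨Or.inr (Or.inl rfl), hz1⟩, ⟨Or.inr (Or.inr (Or.inl rfl)), ht1⟩,
              ⟨Or.inr (Or.inr (Or.inr rfl)), htz⟩]
        show Nat.card ↥{v : X | v ∈ V ∧ v ≠ 1} = 3
        rw [h, Nat.card_coe_set_eq, Set.ncard_eq_three]
        exact ⟨z, t, t * z, hne, fun h => ht1 (mul_eq_right.1 h.symm), fun h => hz1 (mul_eq_left.1 h.symm), rfl⟩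
      have hm : ∀ v : X, v ∈ V ↔ g * v * g⁻¹ ∈ V := Subgroup.mem_normalizer_iff.1 hg
      let σ : Equiv.Perm I :=
        { toFun := fun v => ⟨g * v.1 * g⁻¹, (hm _).1 v.2.1, fun h => v.2.2 (conj_eq_one_iff.1 h)⟩
          invFun := fun v => ⟨g⁻¹ * v.1 * g, (hm _).2 (by simpa [mul_assoc] using v.2.1), fun h => v.2.2 (by
            rw [show g⁻¹ * v.1 * g = g⁻¹ * v.1 * g⁻¹⁻¹ by group] at h
            exact conj_eq_one_iff.1 h)⟩
          left_inv := fun v => Subtype.ext (by simp [mul_assoc])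
          right_inv := fun v => Subtype.ext (by simp [mul_assoc]) }
      have : Fintype I := Fintype.ofFinite _
      have hσ : σ ^ 6 = 1 := by
        have hc : Fintype.card (Equiv.Perm I) = 6 := by
          rw [Fintype.card_perm, ← Nat.card_eq_fintype_card, hI]; rfl
        rw [← hc]; exact pow_card_eq_one
      have hpow : ∀ (k : ℕ) (v : I), ((σ ^ k) v).1 = g ^ k * v.1 * (g ^ k)⁻¹ := by
        intro k
        induction k with
        | zero => intro v; simp
        | succ k ih =>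
          intro v
          rw [pow_succ', Equiv.Perm.mul_apply]
          show g * ((σ ^ k) v).1 * g⁻¹ = _
          rw [ih, pow_succ']; group
      have hfix : ∀ v ∈ V, g ^ 6 * v = v * g ^ 6 := by
        intro v hv
        by_cases hv1 : v = 1
        · simp [hv1]
        · have := hpow 6 ⟨v, hv, hv1⟩
          rw [hσ] at this
          exact mul_inv_eq_iff_eq_mul.1 this.symm
      have hgC : g ^ 6 ∈ C := hmC.2 (hfix z hzV)
      obtain ⟨b, hb, v, hv, he⟩ := hform _ hgC
      rw [he]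
      exact mul_mem (hBN hb) (hVN hv)
    have hexp : ∀ x : X, x ^ 6 ∈ N := by
      intro x
      have hx : x ∈ Subgroup.normalizer (V : Set X) ⊔ N := hsup ▸ Subgroup.mem_top x
      obtain ⟨g, hg, n, hn, rfl⟩ := Subgroup.mem_sup_of_normal_right.1 hx
      apply (QuotientGroup.eq_one_iff _).1
      show QuotientGroup.mk' N ((g * n) ^ 6) = 1
      rw [map_pow, map_mul, show QuotientGroup.mk' N n = 1 from (QuotientGroup.eq_one_iff n).2 hn, mul_one,
        ← map_pow]
      exact (QuotientGroup.eq_one_iff _).2 (hsix g hg)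
    have h36 : 36 ∣ Nat.card N := by
      have h4 := hV4 ▸ Subgroup.card_dvd_of_le hVN
      have h9 := hB ▸ Subgroup.card_dvd_of_le hBN
      exact Nat.Coprime.mul_dvd_of_dvd_of_dvd (show Nat.Coprime 4 9 by norm_num) h4 h9
    have h8 : ¬ 8 ∣ Nat.card X := fun h8 => by
      have h := S.card_eq_multiplicity
      rw [hS, hV4, show (4 : ℕ) = 2 ^ 2 from rfl] at h
      have h' := Nat.pow_right_injective le_rfl h
      have := (Nat.Prime.pow_dvd_iff_le_factorization Nat.prime_two Nat.card_pos.ne').1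
        (show 2 ^ 3 ∣ Nat.card X from h8)
      omega
    have hidx : N.index = 1 := by
      by_contra hne'
      obtain ⟨q, hq, hqd⟩ := Nat.exists_prime_and_dvd hne'
      have : Fact q.Prime := ⟨hq⟩
      obtain ⟨x, hx⟩ := exists_prime_orderOf_dvd_card' q (G := X ⧸ N) hqd
      obtain ⟨x, rfl⟩ := QuotientGroup.mk'_surjective N x
      have hq6 : q ∣ 6 := hx ▸ orderOf_dvd_of_pow_eq_one (by
        rw [← map_pow]; exact (QuotientGroup.eq_one_iff _).2 (hexp x))
      have hmul := N.card_mul_index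
      rcases (show q = 2 ∨ q = 3 by
          have := Nat.le_of_dvd (by norm_num) hq6; have := hq.two_le
          interval_cases q <;> norm_num at *) with rfl | rfl
      · exact h8 ((show (8 : ℕ) ∣ 36 * 2 from ⟨9, rfl⟩).trans (hmul ▸ mul_dvd_mul h36 hqd))
      · exact h27 ((show (27 : ℕ) ∣ 36 * 3 from ⟨4, rfl⟩).trans (hmul ▸ mul_dvd_mul h36 hqd))
    exact Subgroup.index_eq_one.1 hidx
  -- Brauer, Suzuki and Wall
  have hVnt : Nontrivial V := ⟨⟨⟨z, hzV⟩, 1, fun h => hz1 (congrArg Subtype.val h)⟩⟩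
  have hkl : IsKleinFour V := ⟨hV4, Monoid.exponent_eq_prime_iff (p := 2) Nat.prime_two |>.2 (by
    refine fun v hv => orderOf_eq_prime (Subtype.ext ?_) hv
    rw [Subgroup.coe_pow, pow_two]; exact hVsq v v.2) ⟩
  have hV2 : Nonempty ((S : Subgroup X) ≃* DihedralGroup 2) := by
    rw [hS]; exact IsKleinFour.nonempty_mulEquiv
  have hOeq : B = (Cfsg.oddCore (Subgroup.centralizer ({z} : Set X))).map
      (Subgroup.centralizer ({z} : Set X)).subtype := by
    apply le_antisymm
    · intro b hb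
      refine ⟨⟨b, hBC hb⟩, ?_, rfl⟩
      have hn : (B.subgroupOf C).Normal := by
        refine ⟨fun x hx g => ?_⟩
        rw [Subgroup.mem_subgroupOf] at hx ⊢
        obtain ⟨b', hb', v, hv, he⟩ := hform _ g.2
        rw [Subgroup.coe_mul, Subgroup.coe_mul, Subgroup.coe_inv, he,
          show b' * v * (x : X) * (b' * v)⁻¹ = b' * (v * x * v⁻¹) * b'⁻¹ by group]
        exact mul_mem (mul_mem hb' (hnorm v hv _ hx)) (inv_mem hb')
      refine le_sSup (show B.subgroupOf C ∈ {N : Subgroup C | N.Normal ∧ (Nat.card N).Coprime 2} from ⟨hn, ?_⟩) (Subgroup.mem_subgroupOf.2 hb)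
      rw [Nat.card_congr (Subgroup.subgroupOfEquivOfLe hBC).toEquiv, hB]; norm_num
    · rw [Subgroup.map_le_iff_le_comap]
      refine sSup_le ?_
      rintro N ⟨-, hN⟩ g hg
      exact hoddB _ g.2 (by
        rw [Subgroup.subtype_apply, Subgroup.orderOf_coe]
        exact (Nat.coprime_two_right.1 hN).of_dvd_nat (Subgroup.orderOf_dvd_natCard N hg))
  have hVcB : (S : Subgroup X) ⊓ Subgroup.centralizer (B : Set X) = Subgroup.zpowers z := by
    rw [hS]
    apply le_antisymm
    · intro v hv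
      obtain ⟨b, hb, hb1⟩ := B.bot_or_exists_ne_one.resolve_left fun h => by
        rw [h, Subgroup.card_bot] at hB; omega
      rcases (hCb b hb hb1 v (Subgroup.mem_centralizer_iff.1 hv.2 b hb).symm).2 with h | h
      · rw [hBV v h hv.1]; exact one_mem _
      · have := hBV _ h (mul_mem hv.1 hzV)
        rw [mul_eq_one_iff_eq_inv, hzi] at this
        rw [this]; exact Subgroup.mem_zpowers z
    · rw [Subgroup.zpowers_le]
      exact ⟨hzV, Subgroup.mem_centralizer_iff.2 fun b hb => hzB b hb⟩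
  have hzc : Nat.card (Subgroup.zpowers z) = 2 := by
    rw [Nat.card_zpowers, orderOf_eq_prime (by rw [pow_two, hz]) hz1]
  obtain ⟨F, _, _, hodd, ⟨e⟩⟩ := Cfsg.Agent.S0508.result (G := X) S 2 le_rfl hV2 z
    (orderOf_eq_prime (by rw [pow_two, hz]) hz1) (hS ▸ hzV) (fun s hs => hVc s (hS ▸ hs)) B hOeq
    (fun _ => ⟨hVcB ▸ inferInstance, by
      rw [hVcB, Subgroup.relIndex]
      have h := ((Subgroup.zpowers z).subgroupOf (S : Subgroup X)).card_mul_index
      rw [Nat.card_congr (Subgroup.subgroupOfEquivOfLe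
        (show Subgroup.zpowers z ≤ (S : Subgroup X) from Subgroup.zpowers_le.2 (hS ▸ hzV))).toEquiv, hzc, hS, hV4] at h
      rw [hS]
      omega⟩)
    (fun s hs hsn b hb => by
      rcases hVm.1 (hS ▸ hs) with hcs | hcs | hcs | hcs <;> subst s
      · exact absurd (one_mem _) hsn
      · exact absurd (Subgroup.mem_centralizer_iff.2 fun b hb => hzB b hb) hsn
      · exact htB b hb
      · rw [show t * z * b * (t * z)⁻¹ = t * (z * b * z⁻¹) * t⁻¹ by group, ← hzB b hb, mul_inv_cancel_right,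
          htB b hb])
    hNY
  have h2 : (2 : F) ≠ 0 := by
    intro h0
    have := CharP.exists F
    obtain ⟨p, hp⟩ := this
    have hp2 : p = 2 := ((Nat.prime_dvd_prime_iff_eq (CharP.char_is_prime F p) Nat.prime_two).1
      ((CharP.cast_eq_zero_iff F p 2).1 (by exact_mod_cast h0)))
    obtain ⟨m, -, hm⟩ := FiniteField.card F p
    rw [hm, hp2] at hodd
    exact Nat.not_even_iff_odd.2 hodd (Nat.even_pow.2 ⟨even_two, m.pos.ne'⟩)
  refine psl_no_nine h2 (z := e z) (fun h => hz1 (e.injective (h.trans (map_one e).symm)))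
    (by rw [← map_mul, hz, map_one]) (B.map e.toMonoidHom) ?_ ?_ ?_
  · rw [Subgroup.card_map_of_injective e.injective, hB]
  · rintro _ ⟨b, hb, rfl⟩
    rw [← map_pow, h3 b hb, map_one]
  · rintro _ ⟨b, hb, rfl⟩
    exact ((show Commute b z from hzB b hb).map e).eq

end Quot

/-! ## The permutations used -/

/-- A three cycle. -/
def px : Perm (Fin 9) := c[0, 1, 2]
/-- A product of two three cycles. -/
def pw : Perm (Fin 9) := c[3, 4, 5] * c[6, 7, 8]
/-- The product of two three cycles whose centraliser is studied. -/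
def pd : Perm (Fin 9) := c[3, 4, 5] * c[6, 8, 7]
/-- Half of the involution. -/
def pg : Perm (Fin 9) := swap 1 2 * swap 3 6
/-- First factor of the commutator. -/
def pa : Perm (Fin 9) := c[4, 5, 7]
/-- Second factor of the commutator. -/
def pb : Perm (Fin 9) := c[4, 8, 5]
/-- The involution. -/
def pt : Perm (Fin 9) := swap 1 2 * swap 3 6 * (swap 4 8 * swap 5 7)

theorem perm_facts : Perm.sign px = 1 ∧ Perm.sign pw = 1 ∧ Perm.sign pd = 1 ∧ Perm.sign pg = 1 ∧
    Perm.sign pa = 1 ∧ Perm.sign pb = 1 ∧ pd.cycleType = {3, 3} ∧ px ^ 3 = 1 ∧ pw ^ 3 = 1 ∧ pd ^ 3 = 1 ∧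
    pa ^ 3 = 1 ∧ pb ^ 3 = 1 ∧ px ≠ 1 ∧ pd ≠ 1 ∧
    px * pw = pw * px ∧ px * pd = pd * px ∧ pw * pd = pd * pw ∧ pt * pd = pd * pt ∧
    pt * px * pt⁻¹ = px⁻¹ ∧ pt * pw * pt⁻¹ = pw⁻¹ ∧ pa * pg = pg * pa ∧ pb * pg = pg * pb ∧
    pa * pb * pa⁻¹ * pb⁻¹ = swap 4 8 * swap 5 7 ∧ pt ≠ 1 ∧ pt * pt = 1 := by
  decide +kernel

theorem perm_odd_sign : Perm.sign (swap (0 : Fin 9) 1) = -1 ∧ swap (0 : Fin 9) 1 * pd = pd * swap 0 1 ∧
    (∀ i : Fin 3, ∀ j : Fin 3, ∀ k : Fin 3, px ^ (i : ℕ) * pw ^ (j : ℕ) = pd ^ (k : ℕ) → i = 0 ∧ j = 0) := by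
  decide +kernel

theorem card_cent_pd : Nat.card ↥(Subgroup.centralizer ({pd} : Set (Perm (Fin 9))) ⊓ alternatingGroup (Fin 9)) = 54 := by
  obtain ⟨-, -, -, -, -, -, hty, -⟩ := perm_facts
  have h108 : Nat.card (Subgroup.centralizer ({pd} : Set (Perm (Fin 9)))) = 108 := by
    rw [Perm.nat_card_centralizer, hty, Fintype.card_fin]
    rfl
  let φ : Subgroup.centralizer ({pd} : Set (Perm (Fin 9))) →* ℤˣ := Perm.sign.comp (Subgroup.subtype _)
  have hs : Function.Surjective φ := fun u => by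
    rcases Int.units_eq_one_or u with rfl | rfl
    · exact ⟨1, map_one φ⟩
    · exact ⟨⟨swap 0 1, Subgroup.mem_centralizer_singleton_iff.2 perm_odd_sign.2.1⟩, perm_odd_sign.1⟩
  have h := φ.ker.card_mul_index
  rw [Subgroup.index_ker, MonoidHom.range_eq_top.2 hs, Subgroup.card_top, h108] at h
  have hk : Nat.card φ.ker = 54 := by
    have : Nat.card ℤˣ = 2 := by rw [Nat.card_eq_fintype_card]; rfl
    rw [this] at h; omega
  rw [← hk]
  exact Nat.card_congr
    { toFun := fun g => ⟨⟨g.1, g.2.1⟩, Perm.mem_alternatingGroup.1 g.2.2⟩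
      invFun := fun g => ⟨g.1.1, g.1.2, Perm.mem_alternatingGroup.2 g.2⟩
      left_inv := fun _ => rfl
      right_inv := fun _ => rfl }

theorem disj_facts : (c[(3 : Fin 9), 4, 5]).Disjoint c[6, 8, 7] := by
  unfold Perm.Disjoint; decide +kernel

/-! ## Lifts -/

section Lift

variable {C : Type*} [Group C] {n : ℕ} (c : Cov C n)

theorem lift_exists {a : Perm (Fin n)} (ha : Perm.sign a = 1) : ∃ g, c.φ g = a := by
  have : a ∈ c.φ.range := c.range_eq ▸ Perm.mem_alternatingGroup.2 ha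
  exact this

theorem zz : c.z * c.z = 1 := by rw [← pow_two, ← c.hz]; exact pow_orderOf_eq_one _

theorem lift_three {a : Perm (Fin n)} (ha : Perm.sign a = 1) (h3 : a ^ 3 = 1) : ∃ g, c.φ g = a ∧ g ^ 3 = 1 := by
  obtain ⟨g, hg⟩ := lift_exists c ha
  refine ⟨g ^ 4, by rw [map_pow, hg, pow_succ, h3, one_mul], ?_⟩
  rcases (c.ker_iff (g ^ 3)).1 (by rw [map_pow, hg, h3]) with h | h
  · rw [← pow_mul, show 4 * 3 = 3 * 4 from rfl, pow_mul, h, one_pow]
  · rw [← pow_mul, show 4 * 3 = 3 * 4 from rfl, pow_mul, h, show (4 : ℕ) = 2 * 2 from rfl, pow_mul, pow_two c.z,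
      zz c, one_pow]

theorem cube_comm {g h : C} (h3 : g ^ 3 = 1) (e : c.φ g * c.φ h = c.φ h * c.φ g) : g * h = h * g := by
  obtain ⟨k, hk⟩ : ∃ k, k = g * h * g⁻¹ * h⁻¹ := ⟨_, rfl⟩
  have hk1 : k = 1 ∨ k = c.z := (c.ker_iff k).1 (by
    rw [hk]; simp only [map_mul, map_inv]; rw [e]; group)
  rcases hk1 with h1 | h1
  · rwa [hk, mul_inv_eq_one, mul_inv_eq_iff_eq_mul] at h1
  · exfalso
    have hgh : g * h * g⁻¹ = c.z * h := by rw [← h1, hk]; group
    have hzg : g * c.z * g⁻¹ = c.z := by rw [c.central, mul_inv_cancel_right]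
    have e2 : g * (g * (g * h * g⁻¹) * g⁻¹) * g⁻¹ = c.z * h := by
      rw [hgh, show g * (c.z * h) * g⁻¹ = g * c.z * g⁻¹ * (g * h * g⁻¹) by group, hzg, hgh, ← mul_assoc c.z, zz c,
        one_mul, hgh]
    rw [show g * (g * (g * h * g⁻¹) * g⁻¹) * g⁻¹ = g ^ 3 * h * (g ^ 3)⁻¹ by simp [pow_succ, mul_assoc], h3,
      one_mul, inv_one, mul_one] at e2
    have : c.z = 1 := mul_eq_right.1 e2.symm
    have h' := c.hz; rw [this, orderOf_one] at h'; omega

theorem cube_unique {g h : C} (hg : g ^ 3 = 1) (hh : h ^ 3 = 1) (e : c.φ g = c.φ h) : g = h := by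
  rcases (c.ker_iff (g⁻¹ * h)).1 (by rw [map_mul, map_inv, e, inv_mul_cancel]) with h1 | h1
  · exact inv_mul_eq_one.1 h1
  · exfalso
    have hcm : Commute g c.z := c.central g
    have h' : (g * c.z) ^ 3 = 1 := by rw [← h1, mul_inv_cancel_left, hh]
    rw [hcm.mul_pow, hg, one_mul, pow_succ, pow_two, zz c, one_mul] at h'
    have := c.hz; rw [h', orderOf_one] at this; omega

end Lift

end Nine

open Nine in
set_option maxHeartbeats 1600000 in
/-- Degree nine with a small three centraliser is impossible. -/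
theorem nine (hL : LocalStmt.{u}) : NineStmt.{u} := by
  classical
  intro G _ _ _ K hX
  obtain ⟨hsx, hsw, hsd, hsg, hsa, hsb, hty, hx3, hw3, hd3, ha3, hb3, hx1, hd1, exw, exd, ewd, etd, etx, etw,
    eag, ebg, eab, ht1, htt⟩ := perm_facts
  let c := K.cov
  have hzz : c.z * c.z = 1 := zz c
  obtain ⟨x, hx, hx'⟩ := lift_three c hsx hx3
  obtain ⟨w, hw, hw'⟩ := lift_three c hsw hw3
  obtain ⟨d, hd, hd'⟩ := lift_three c hsd hd3
  obtain ⟨a, ha, ha'⟩ := lift_three c hsa ha3
  obtain ⟨b, hb, hb'⟩ := lift_three c hsb hb3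
  obtain ⟨g, hg⟩ := lift_exists c hsg
  obtain ⟨h, hhdef⟩ : ∃ h, h = a * b * a⁻¹ * b⁻¹ := ⟨_, rfl⟩
  obtain ⟨t, htdef⟩ : ∃ t, t = g * h := ⟨_, rfl⟩
  have hh : c.φ h = swap 4 8 * swap 5 7 := by
    rw [hhdef]; simp only [map_mul, map_inv, ha, hb]; exact eab
  have ht : c.φ t = pt := by rw [htdef, map_mul, hg, hh]; rfl
  have hga : Commute a g := cube_comm c ha' (by rw [ha, hg]; exact eag)
  have hgb : Commute b g := cube_comm c hb' (by rw [hb, hg]; exact ebg)
  have hgh : Commute g h := by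
    rw [hhdef]
    exact ((hga.symm.mul_right hgb.symm).mul_right hga.symm.inv_right).mul_right hgb.symm.inv_right
  have ht2 : t * t = 1 := by
    rw [htdef, hgh.symm.mul_mul_mul_comm,
      c.sq_dt g ⟨1, 2, 3, 6, by decide, hg⟩, c.sq_dt h ⟨4, 8, 5, 7, by decide, hh⟩, hzz]
  -- commutation and inversion
  have cxd : x * d = d * x := cube_comm c hx' (by rw [hx, hd]; exact exd)
  have cwd : w * d = d * w := cube_comm c hw' (by rw [hw, hd]; exact ewd)
  have cxw : x * w = w * x := cube_comm c hx' (by rw [hx, hw]; exact exw)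
  have ctd : d * t = t * d := cube_comm c hd' (by rw [ht, hd]; exact etd.symm)
  have itx : t * x * t⁻¹ = x⁻¹ := cube_unique c (by rw [conj_pow, hx', mul_one, mul_inv_cancel])
    (by rw [inv_pow, hx', inv_one]) (by simp only [map_mul, map_inv, ht, hx]; exact etx)
  have itw : t * w * t⁻¹ = w⁻¹ := cube_unique c (by rw [conj_pow, hw', mul_one, mul_inv_cancel])
    (by rw [inv_pow, hw', inv_one]) (by simp only [map_mul, map_inv, ht, hw]; exact etw)
  have hφz : c.φ c.z = 1 := (c.ker_iff _).2 (Or.inr rfl)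
  have htne : t ≠ 1 := fun h => ht1 (by rw [← ht, h, map_one])
  have htz : t ≠ c.z := fun h => ht1 (by rw [← ht, h, hφz])
  have hdne : d ≠ 1 := fun h => hd1 (by rw [← hd, h, map_one])
  have hdord : orderOf d = 3 := by
    have : Fact (Nat.Prime 3) := ⟨Nat.prime_three⟩
    exact orderOf_eq_prime hd' hdne
  obtain ⟨h81, hloc⟩ := hL G 9 K (Or.inl rfl) hX d hdord
    ⟨c[3, 4, 5], c[6, 8, 7], by unfold Perm.IsThreeCycle; decide +kernel, by unfold Perm.IsThreeCycle; decide +kernel,
      disj_facts, hd⟩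
  -- the quotient
  obtain ⟨H, hHdef⟩ : ∃ H : Subgroup G, H = Subgroup.centralizer ({(d : G)} : Set G) := ⟨_, rfl⟩
  have hmH : ∀ {k : G}, k ∈ H ↔ k * d = d * k := by rw [hHdef]; exact Subgroup.mem_centralizer_singleton_iff
  rw [← hHdef] at h81
  let Z : Subgroup H := (Subgroup.zpowers (d : G)).subgroupOf H
  have hdH : (d : G) ∈ H := hmH.2 rfl
  have hZn : Z.Normal := ⟨fun k hk g => by
    rw [Subgroup.mem_subgroupOf] at hk ⊢
    obtain ⟨i, hi⟩ := Subgroup.mem_zpowers_iff.1 hk
    have hc : (g : G) * (k : G) = (k : G) * g := by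
      rw [← hi]; exact ((show Commute (g : G) d from hmH.1 g.2).zpow_right i).eq
    rw [Subgroup.coe_mul, Subgroup.coe_mul, Subgroup.coe_inv, hc, mul_inv_cancel_right]
    exact hk⟩
  have hZ3 : Nat.card Z = 3 := by
    rw [Nat.card_congr (Subgroup.subgroupOfEquivOfLe (Subgroup.zpowers_le.2 hdH)).toEquiv, Nat.card_zpowers,
      Subgroup.orderOf_coe, hdord]
  let π := QuotientGroup.mk' Z
  have hπ1 : ∀ k : H, π k = 1 → ∃ i : ℕ, i < 3 ∧ (k : G) = (d : G) ^ i := by
    intro k hk
    have hk' : (k : G) ∈ Subgroup.zpowers (d : G) := (QuotientGroup.eq_one_iff k).1 hk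
    have hd3G : (d : G) ^ 3 = 1 := by rw [← Subgroup.coe_pow, hd']; rfl
    obtain ⟨i, hi⟩ := (mem_powers_iff_mem_zpowers (x := (d : G))).2 hk'
    refine ⟨i % 3, Nat.mod_lt _ (by norm_num), ?_⟩
    rw [← hi]
    show (d : G) ^ i = _
    conv_lhs => rw [← Nat.mod_add_div i 3, pow_add, pow_mul, hd3G, one_pow, mul_one]
  -- elements of the cover commuting with `d`
  let J : Subgroup (Subgroup.centralizer ({K.z} : Set G)) := Subgroup.centralizer {d}
  let ψ : J →* H ⧸ Z := π.comp
    { toFun := fun k => ⟨((k : Subgroup.centralizer ({K.z} : Set G)) : G),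
        hmH.2 (congrArg Subtype.val (Subgroup.mem_centralizer_singleton_iff.1 k.2))⟩
      map_one' := rfl
      map_mul' := fun _ _ => rfl }
  have hzJ : c.z ∈ J := Subgroup.mem_centralizer_singleton_iff.2 (c.central d).symm
  have hxJ : x ∈ J := Subgroup.mem_centralizer_singleton_iff.2 cxd
  have hwJ : w ∈ J := Subgroup.mem_centralizer_singleton_iff.2 cwd
  have htJ : t ∈ J := Subgroup.mem_centralizer_singleton_iff.2 ctd.symm
  have hψk : ∀ k : J, ψ k = 1 → ∃ i : ℕ, i < 3 ∧ (k : Subgroup.centralizer ({K.z} : Set G)) = d ^ i := fun k hk =>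
    (hπ1 _ hk).imp fun i hi => ⟨hi.1, Subtype.ext (by rw [Subgroup.coe_pow]; exact hi.2)⟩
  have hJc : Nat.card J = 108 := by
    have hC9 : Finite (Subgroup.centralizer ({K.z} : Set G)) := inferInstance
    let φJ : J →* Perm (Fin 9) := c.φ.comp J.subtype
    have hr : φJ.range = Subgroup.centralizer ({pd} : Set (Perm (Fin 9))) ⊓ alternatingGroup (Fin 9) := by
      ext s
      constructor
      · rintro ⟨k, rfl⟩
        refine ⟨Subgroup.mem_centralizer_singleton_iff.2 ?_, c.range_eq ▸ ⟨_, rfl⟩⟩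
        show c.φ k * pd = pd * c.φ k
        rw [← hd, ← map_mul, ← map_mul, Subgroup.mem_centralizer_singleton_iff.1 k.2]
      · rintro ⟨h1, h2⟩
        obtain ⟨k, rfl⟩ : s ∈ c.φ.range := c.range_eq ▸ h2
        refine ⟨⟨k, Subgroup.mem_centralizer_singleton_iff.2 ?_⟩, rfl⟩
        have h1' := Subgroup.mem_centralizer_singleton_iff.1 h1
        exact (cube_comm c hd' (by rw [hd]; exact h1'.symm)).symm
    have hk : Nat.card φJ.ker = 2 := by
      refine Nat.card_eq_two_iff.2 ⟨⟨1, map_one φJ⟩, ⟨⟨c.z, hzJ⟩, hφz⟩, fun h => ?_, ?_⟩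
      · have h' : (1 : Subgroup.centralizer ({K.z} : Set G)) = c.z :=
          congrArg (fun x : φJ.ker => ((x : J) : Subgroup.centralizer ({K.z} : Set G))) h
        have := c.hz; rw [← h', orderOf_one] at this; omega
      · refine Set.eq_univ_of_forall fun k => ?_
        rcases (c.ker_iff _).1 (show c.φ _ = 1 from k.2) with h | h
        · exact Or.inl (Subtype.ext (Subtype.ext h))
        · exact Or.inr (Subtype.ext (Subtype.ext h))
    have h := φJ.ker.card_mul_index
    rw [Subgroup.index_ker, hr, card_cent_pd, hk] at h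
    omega
  have hrange : ψ.range = Subgroup.centralizer ({ψ ⟨c.z, hzJ⟩} : Set (H ⧸ Z)) := by
    ext q
    constructor
    · rintro ⟨k, rfl⟩
      refine Subgroup.mem_centralizer_singleton_iff.2 ?_
      rw [← map_mul, ← map_mul]
      exact congrArg ψ (Subtype.ext (c.central _))
    · intro hq
      obtain ⟨k, rfl⟩ := QuotientGroup.mk'_surjective Z q
      obtain ⟨zH, hzH⟩ : ∃ zH : H, (zH : G) = K.z ∧ π zH = ψ ⟨c.z, hzJ⟩ :=
        ⟨⟨(c.z : G), hmH.2 (congrArg Subtype.val (c.central d).symm)⟩, K.cov_z, rfl⟩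
      have h1 : π (k * zH * k⁻¹ * zH⁻¹) = 1 := by
        have := Subgroup.mem_centralizer_singleton_iff.1 hq
        rw [← hzH.2] at this
        simp only [map_mul, map_inv]
        rw [show π k * π zH = π zH * π k from this]; group
      obtain ⟨i, hi, hie⟩ := hπ1 _ h1
      simp only [Subgroup.coe_mul, Subgroup.coe_inv, hzH.1] at hie
      have hzi : K.z⁻¹ = K.z := inv_eq_of_mul_eq_one_right (by rw [← pow_two, ← K.hz]; exact pow_orderOf_eq_one _)
      have hzd : Commute K.z (d : G) := (Subgroup.mem_centralizer_singleton_iff.1 d.2).symm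
      have hconj : (k : G) * K.z * (k : G)⁻¹ = K.z * (d : G) ^ i := by
        rw [(hzd.pow_right i).eq, ← hie]; group
      have hone : (d : G) ^ (2 * i) = 1 := by
        have h2 : (k : G) * K.z * (k : G)⁻¹ * ((k : G) * K.z * (k : G)⁻¹) = 1 := by
          rw [conj_mul, show K.z * K.z = 1 by rw [← pow_two, ← K.hz]; exact pow_orderOf_eq_one _]; group
        rw [hconj, (hzd.pow_right i).symm.mul_mul_mul_comm, ← pow_add,
          show K.z * K.z = 1 by rw [← pow_two, ← K.hz]; exact pow_orderOf_eq_one _, one_mul] at h2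
        rw [two_mul]; exact h2
      have hi0 : i = 0 := by
        have h3 : 3 ∣ 2 * i := by
          rw [← hdord, ← Subgroup.orderOf_coe]; exact orderOf_dvd_of_pow_eq_one hone
        omega
      rw [hi0, pow_zero, mul_one, mul_inv_eq_iff_eq_mul] at hconj
      exact ⟨⟨⟨(k : G), Subgroup.mem_centralizer_singleton_iff.2 hconj⟩,
        Subgroup.mem_centralizer_singleton_iff.2 (Subtype.ext (hmH.1 k.2))⟩, rfl⟩
  obtain ⟨zX, hzXd⟩ : ∃ zX, zX = ψ ⟨c.z, hzJ⟩ := ⟨_, rfl⟩
  obtain ⟨tX, htXd⟩ : ∃ tX, tX = ψ ⟨t, htJ⟩ := ⟨_, rfl⟩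
  have hC36 : Nat.card (Subgroup.centralizer ({zX} : Set (H ⧸ Z))) = 36 := by
    have h := ψ.ker.card_mul_index
    have hk : Nat.card ψ.ker = 3 := by
      rw [← hdord, ← Nat.card_zpowers]
      refine Nat.card_congr (Equiv.ofBijective (fun k : ψ.ker => (⟨((k : J) : Subgroup.centralizer ({K.z} : Set G)), by
        obtain ⟨i, -, hi⟩ := hψk k k.2
        rw [hi]; exact pow_mem (Subgroup.mem_zpowers d) i⟩ : Subgroup.zpowers d))
        ⟨fun p q hpq => Subtype.ext (Subtype.ext (congrArg (fun r : Subgroup.zpowers d => (r : Subgroup.centralizer ({K.z} : Set G))) hpq)), fun q => ?_⟩)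
      obtain ⟨i, hi⟩ := Subgroup.mem_zpowers_iff.1 q.2
      refine ⟨⟨⟨q, Subgroup.mem_centralizer_singleton_iff.2 (by rw [← hi]; exact ((Commute.refl d).zpow_left i).eq)⟩,
        ?_⟩, Subtype.ext rfl⟩
      refine (QuotientGroup.eq_one_iff _).2 (Subgroup.mem_zpowers_iff.2 ⟨i, ?_⟩)
      show (d : G) ^ i = (q : Subgroup.centralizer ({K.z} : Set G))
      rw [← hi, Subgroup.coe_zpow]
    rw [Subgroup.index_ker, hrange, ← hzXd, hJc, hk] at h
    omega
  have hord2 : ∀ k : J, k * k = 1 → (k : Subgroup.centralizer ({K.z} : Set G)) ≠ 1 → ψ k ≠ 1 := by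
    intro k hkk hk1 hk
    obtain ⟨i, hi, he⟩ := hψk k hk
    have h2 : d ^ (2 * i) = 1 := by
      rw [two_mul, pow_add, ← he]; exact congrArg Subtype.val hkk
    have : 3 ∣ 2 * i := hdord ▸ orderOf_dvd_of_pow_eq_one h2
    exact hk1 (by rw [he, show i = 0 by omega, pow_zero])
  have hzne : c.z ≠ 1 := fun h => by have := c.hz; rw [h, orderOf_one] at this; omega
  have hz1 : zX ≠ 1 := hzXd ▸ hord2 _ (Subtype.ext hzz) hzne
  have htX1 : tX ≠ 1 := htXd ▸ hord2 _ (Subtype.ext ht2) htne
  have hztc : Commute (⟨c.z, hzJ⟩ : J) ⟨t, htJ⟩ := Subtype.ext (c.central t).symm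
  have hzi : c.z⁻¹ = c.z := inv_eq_of_mul_eq_one_right hzz
  have htz2 : t * c.z * (t * c.z) = 1 := by
    rw [(show Commute c.z t from (c.central t).symm).mul_mul_mul_comm, ht2, hzz, one_mul]
  have hzt : zX ≠ tX := by
    intro he
    refine hord2 (⟨t, htJ⟩ * ⟨c.z, hzJ⟩) (Subtype.ext htz2)
      (fun h => htz (by rw [← hzi]; exact mul_eq_one_iff_eq_inv.1 h)) ?_
    rw [map_mul, ← htXd, ← hzXd, ← he, hzXd, ← map_mul]
    exact (congrArg ψ (Subtype.ext hzz : (⟨c.z, hzJ⟩ * ⟨c.z, hzJ⟩ : J) = 1)).trans (map_one ψ)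
  have hconj : ∀ u : J, u * u = 1 → (u : Subgroup.centralizer ({K.z} : Set G)) ≠ 1 →
      (u : Subgroup.centralizer ({K.z} : Set G)) ≠ c.z → IsConj (ψ u) zX := by
    intro u huu hu1 huz
    have ho : orderOf (u : Subgroup.centralizer ({K.z} : Set G)) = 2 :=
      orderOf_eq_prime (by rw [pow_two]; exact congrArg Subtype.val huu) hu1
    obtain ⟨k, hk, hke⟩ := hloc u ho huz (Subgroup.mem_centralizer_singleton_iff.1 u.2)
    refine isConj_iff.2 ⟨π ⟨k, hmH.2 hk⟩, ?_⟩
    rw [hzXd]
    show π _ * π _ * (π _)⁻¹ = π _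
    rw [← map_mul, ← map_inv, ← map_mul]
    refine congrArg π (Subtype.ext ?_)
    show k * ((u : Subgroup.centralizer ({K.z} : Set G)) : G) * k⁻¹ = (c.z : G)
    rw [K.cov_z]; exact hke
  -- the nine
  let xX := ψ ⟨x, hxJ⟩
  let wX := ψ ⟨w, hwJ⟩
  have hcm : Commute xX wX := (show Commute (⟨x, hxJ⟩ : J) ⟨w, hwJ⟩ from Subtype.ext cxw).map ψ
  have hx3X : xX ^ 3 = 1 := by rw [← map_pow, show (⟨x, hxJ⟩ : J) ^ 3 = 1 from Subtype.ext hx', map_one]
  have hw3X : wX ^ 3 = 1 := by rw [← map_pow, show (⟨w, hwJ⟩ : J) ^ 3 = 1 from Subtype.ext hw', map_one]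
  have hmulX : ∀ i j k l : ℕ, xX ^ i * wX ^ j * (xX ^ k * wX ^ l) = xX ^ (i + k) * wX ^ (j + l) := fun i j k l => by
    rw [((hcm.pow_pow k j).symm).mul_mul_mul_comm, ← pow_add, ← pow_add]
  have hinvX : ∀ i j : ℕ, (xX ^ i * wX ^ j)⁻¹ = xX ^ (2 * i) * wX ^ (2 * j) := fun i j =>
    inv_eq_of_mul_eq_one_right (by
      rw [hmulX, show i + 2 * i = 3 * i by ring, show j + 2 * j = 3 * j by ring, pow_mul, pow_mul, hx3X, hw3X,
        one_pow, one_pow, one_mul])
  let B : Subgroup (H ⧸ Z) :=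
    { carrier := {q | ∃ i j : ℕ, q = xX ^ i * wX ^ j}
      one_mem' := ⟨0, 0, by simp⟩
      mul_mem' := by rintro _ _ ⟨i, j, rfl⟩ ⟨k, l, rfl⟩; exact ⟨_, _, hmulX i j k l⟩
      inv_mem' := by rintro _ ⟨i, j, rfl⟩; exact ⟨_, _, hinvX i j⟩ }
  have hB9 : Nat.card B = 9 := by
    let μ : Fin 3 × Fin 3 → B := fun q => ⟨xX ^ (q.1 : ℕ) * wX ^ (q.2 : ℕ), _, _, rfl⟩
    have hμ : Function.Bijective μ := by
      constructor
      · rintro ⟨i, j⟩ ⟨k, l⟩ he
        have he' : xX ^ (i : ℕ) * wX ^ (j : ℕ) = xX ^ (k : ℕ) * wX ^ (l : ℕ) := congrArg Subtype.val he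
        rw [← mul_inv_eq_one, hinvX, hmulX] at he'
        obtain ⟨e, he3, hee⟩ := hψk (⟨x, hxJ⟩ ^ ((i : ℕ) + 2 * k) * ⟨w, hwJ⟩ ^ ((j : ℕ) + 2 * l))
          (by rw [map_mul, map_pow, map_pow]; exact he')
        have hp := congrArg c.φ hee
        simp only [Subgroup.coe_mul, Subgroup.coe_pow, map_mul, map_pow, hx, hw, hd] at hp
        have hm : ∀ (p : Perm (Fin 9)) (m : ℕ), p ^ 3 = 1 → p ^ m = p ^ (m % 3) := fun p m h => by
          conv_lhs => rw [← Nat.mod_add_div m 3, pow_add, pow_mul, h, one_pow, mul_one]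
        rw [hm px _ hx3, hm pw _ hw3] at hp
        obtain ⟨h1, h2⟩ := perm_odd_sign.2.2 ⟨_, Nat.mod_lt _ (by norm_num)⟩ ⟨_, Nat.mod_lt _ (by norm_num)⟩
          ⟨e, he3⟩ hp
        simp only [Fin.ext_iff, Fin.val_zero] at h1 h2
        have := i.2; have := j.2; have := k.2; have := l.2
        exact Prod.ext (Fin.ext (show (i : ℕ) = k by omega)) (Fin.ext (show (j : ℕ) = l by omega))
      · rintro ⟨_, i, j, rfl⟩
        refine ⟨(⟨i % 3, Nat.mod_lt _ (by norm_num)⟩, ⟨j % 3, Nat.mod_lt _ (by norm_num)⟩), Subtype.ext ?_⟩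
        show xX ^ (i % 3) * wX ^ (j % 3) = xX ^ i * wX ^ j
        conv_rhs => rw [← Nat.mod_add_div i 3, ← Nat.mod_add_div j 3, pow_add, pow_add, pow_mul, pow_mul, hx3X,
          hw3X, one_pow, one_pow, mul_one, mul_one]
    rw [← Nat.card_eq_of_bijective μ hμ]
    simp
  have hψinv : ∀ (u : Subgroup.centralizer ({K.z} : Set G)) (hu : u ∈ J), t * u * t⁻¹ = u⁻¹ →
      tX * ψ ⟨u, hu⟩ * tX⁻¹ = (ψ ⟨u, hu⟩)⁻¹ := fun u hu h => by
    rw [htXd, ← map_inv, ← map_mul, ← map_mul, ← map_inv]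
    exact congrArg ψ (Subtype.ext h)
  refine quot_false zX tX B
    (by rw [hzXd, ← map_mul, show (⟨c.z, hzJ⟩ * ⟨c.z, hzJ⟩ : J) = 1 from Subtype.ext hzz, map_one]) hz1
    (by rw [htXd, ← map_mul, show (⟨t, htJ⟩ * ⟨t, htJ⟩ : J) = 1 from Subtype.ext ht2, map_one]) htX1
    (by rw [hzXd, htXd]; exact (hztc.map ψ).eq) hzt hB9 ?_ ?_ ?_ hC36
    (htXd ▸ hconj _ (Subtype.ext ht2) htne htz) ?_ ?_
  · rintro _ ⟨i, j, rfl⟩
    rw [(hcm.pow_pow i j).mul_pow, ← pow_mul, ← pow_mul, mul_comm i, mul_comm j, pow_mul, pow_mul, hx3X, hw3X,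
      one_pow, one_pow, one_mul]
  · rintro _ ⟨i, j, rfl⟩
    have h1 : Commute zX xX := hzXd ▸ (show Commute (⟨c.z, hzJ⟩ : J) ⟨x, hxJ⟩ from Subtype.ext (c.central x).symm).map ψ
    have h2 : Commute zX wX := hzXd ▸ (show Commute (⟨c.z, hzJ⟩ : J) ⟨w, hwJ⟩ from Subtype.ext (c.central w).symm).map ψ
    exact ((h1.pow_right i).mul_right (h2.pow_right j)).eq.symm
  · rintro _ ⟨i, j, rfl⟩
    rw [show tX * (xX ^ i * wX ^ j) * tX⁻¹ = tX * xX ^ i * tX⁻¹ * (tX * wX ^ j * tX⁻¹) by group, ← conj_pow,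
      ← conj_pow, hψinv x hxJ itx, hψinv w hwJ itw, inv_pow, inv_pow, ← mul_inv_rev, (hcm.pow_pow i j).eq]
  · rw [htXd, hzXd, ← map_mul, ← hzXd]
    exact hconj _ (Subtype.ext htz2) (fun h => htz (by rw [← hzi]; exact mul_eq_one_iff_eq_inv.1 h))
      (fun h => htne (mul_eq_right.1 h))
  · intro h27
    refine h81 ?_
    have hm := Z.card_mul_index
    rw [hZ3] at hm
    rw [← hm]
    exact mul_dvd_mul_left 3 h27

end Cfsg.Agent.Lib.DoubleAlt12
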