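import Cfsg.Agent.Lib.DoubleAlt12.Cover
import Cfsg.Prelude.Def_SporadicB
import Cfsg.Agent.Lib.BoundedPresentation.Carmichael

/-!
# S1645: the configuration from a non-split double cover
-/

set_option autoImplicit false

namespace Cfsg.Agent.Lib.DoubleAlt12

open Equiv Equiv.Perm Cfsg.Agent.Lib.BoundedPresentation

universe u

theorem IsDT.cycleType {α : Type*} [Fintype α] [DecidableEq α] {a : Perm α} (ha : IsDT a) :
    a.cycleType = {2, 2} := by
  obtain ⟨p, q, r, s, hnd, rfl⟩ := ha
  simp only [List.nodup_cons, List.mem_cons, List.not_mem_nil, or_false, not_or, not_false_iff,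
    List.nodup_nil, and_true] at hnd
  obtain ⟨⟨hpq, hpr, hps⟩, ⟨hqr, hqs⟩, hrs⟩ := hnd
  have h1 : (swap p q).cycleType = {2} := by
    rw [(isCycle_swap hpq).cycleType, card_support_swap hpq]
  have h2 : (swap r s).cycleType = {2} := by
    rw [(isCycle_swap hrs).cycleType, card_support_swap hrs]
  have hd : (swap p q).Disjoint (swap r s) := by
    rw [disjoint_iff_disjoint_support, support_swap hpq, support_swap hrs]
    simp [Ne.symm hpr, Ne.symm hps, Ne.symm hqr, Ne.symm hqs]
  rw [hd.cycleType_mul, h1, h2]; rfl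

theorem IsDT.sign_eq {α : Type*} [Fintype α] [DecidableEq α] {a : Perm α} (ha : IsDT a) :
    sign a = 1 := by
  rw [sign_of_cycleType, ha.cycleType]; rfl

/-- Double transpositions are conjugate by an even permutation. -/
theorem IsDT.exists_conj {α : Type*} [Fintype α] [DecidableEq α] {a b : Perm α} (ha : IsDT a)
    (hb : IsDT b) : ∃ σ : Perm α, sign σ = 1 ∧ σ * a * σ⁻¹ = b := by
  obtain ⟨σ, hσ⟩ := isConj_iff.1 (isConj_iff_cycleType_eq.2 (ha.cycleType.trans hb.cycleType.symm))
  rcases Int.units_eq_one_or (sign σ) with h | h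
  · exact ⟨σ, h, hσ⟩
  obtain ⟨p, q, r, s, hnd, rfl⟩ := ha
  simp only [List.nodup_cons, List.mem_cons, List.not_mem_nil, or_false, not_or, not_false_iff,
    List.nodup_nil, and_true] at hnd
  obtain ⟨⟨hpq, hpr, hps⟩, ⟨hqr, hqs⟩, hrs⟩ := hnd
  refine ⟨σ * swap p q, by rw [Perm.sign_mul, h, sign_swap hpq]; rfl, ?_⟩
  have hd : (swap p q).Disjoint (swap r s) := by
    rw [disjoint_iff_disjoint_support, support_swap hpq, support_swap hrs]
    simp [Ne.symm hpr, Ne.symm hps, Ne.symm hqr, Ne.symm hqs]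
  have hc : swap p q * swap r s = swap r s * swap p q := hd.commute
  rw [mul_inv_rev, swap_inv]
  calc σ * swap p q * (swap p q * swap r s) * (swap p q * σ⁻¹)
      = σ * ((swap p q * swap p q) * (swap r s * swap p q)) * σ⁻¹ := by group
    _ = σ * (swap p q * swap r s) * σ⁻¹ := by rw [swap_mul_self, one_mul, hc]
    _ = b := hσ

/-- The product of two of Carmichael's three cycles. -/
theorem cycP_mul {α : Type} [Fintype α] [DecidableEq α] {i j : α} (hij : i ≠ j) :
    IsDT (cycP i * cycP j) := by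
  refine ⟨Sum.inl i, Sum.inr 0, Sum.inl j, Sum.inr 1, by simp [hij], ?_⟩
  ext (x | x)
  · simp only [Perm.mul_apply, cycP_inl]
    rcases eq_or_ne x j with rfl | hxj
    · simp [cycP_A, swap_apply_def]
    · rcases eq_or_ne x i with rfl | hxi
      · simp [hxj, cycP_inl, swap_apply_def]
      · simp [hxj, hxi, cycP_inl, swap_apply_def]
  · fin_cases x
    · simp [cycP_A, cycP_B, swap_apply_def]
    · simp [cycP_B, cycP_inl, swap_apply_def, hij.symm]

theorem IsDT.map {α β : Type*} [DecidableEq α] [DecidableEq β] (e : α ≃ β) {a : Perm α}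
    (ha : IsDT a) : IsDT (e.permCongrHom a) := by
  obtain ⟨p, q, r, s, hnd, rfl⟩ := ha
  refine ⟨e p, e q, e r, e s, hnd.map e.injective, ?_⟩
  rw [map_mul]
  congr 1 <;> (ext x; simp [Equiv.permCongrHom, swap_apply_def, Equiv.symm_apply_eq]; split_ifs <;> simp)

/-- The configuration given by a non-split double cover. -/
theorem nonempty_conf {G : Type u} [Group G] [Finite G] {n : ℕ} (hn : 5 ≤ n) {z : G} (hz : orderOf z = 2)
    (hcov : Cfsg.IsNonsplitDoubleCover (Subgroup.centralizer ({z} : Set G))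
      (alternatingGroup (Fin n))) :
    Nonempty (Conf G n) := by
  classical
  obtain ⟨hcard, ⟨e⟩, hsplit⟩ := hcov
  set C := Subgroup.centralizer ({z} : Set G) with hC
  have hzC : z ∈ C := Subgroup.mem_centralizer_singleton_iff.2 rfl
  set τ : C := ⟨z, hzC⟩ with hτ
  have hτo : orderOf τ = 2 := by rw [← Subgroup.orderOf_coe]; exact hz
  have hτ1 : τ ≠ 1 := fun h => by rw [h, orderOf_one] at hτo; omega
  have hτ2 : τ * τ = 1 := by rw [← pow_two, ← hτo, pow_orderOf_eq_one]
  have hcentral : ∀ g : C, g * τ = τ * g := fun g =>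
    Subtype.ext (Subgroup.mem_centralizer_singleton_iff.1 g.2)
  have hτc : τ ∈ Subgroup.center C := Subgroup.mem_center_iff.2 hcentral
  have hcen : Subgroup.center C = Subgroup.zpowers τ :=
    (Subgroup.eq_of_le_of_card_ge (Subgroup.zpowers_le.2 hτc)
      (by rw [hcard, Nat.card_zpowers, hτo])).symm
  set φ : C →* Perm (Fin n) :=
    ((alternatingGroup (Fin n)).subtype.comp e.toMonoidHom).comp (QuotientGroup.mk' _) with hφ
  have hker : ∀ g : C, φ g = 1 ↔ g = 1 ∨ g = τ := by
    intro g
    have h1 : φ g = 1 ↔ g ∈ Subgroup.center C := by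
      rw [← QuotientGroup.eq_one_iff (N := Subgroup.center C) g]
      show ((e (g : C ⧸ Subgroup.center C) : alternatingGroup (Fin n)) : Perm (Fin n)) = 1 ↔ _
      rw [OneMemClass.coe_eq_one, MulEquiv.map_eq_one_iff]
    rw [h1, hcen]
    refine ⟨?_, ?_⟩
    · rintro ⟨j, rfl⟩
      rcases Int.even_or_odd' j with ⟨i, rfl | rfl⟩
      · left
        show τ ^ (2 * i) = 1
        rw [zpow_mul, zpow_two, hτ2, one_zpow]
      · right
        show τ ^ (2 * i + 1) = τ
        rw [zpow_add, zpow_mul, zpow_two, hτ2, one_zpow, one_mul, zpow_one]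
    · rintro (rfl | rfl)
      exacts [one_mem _, Subgroup.mem_zpowers _]
  have hrange : φ.range = alternatingGroup (Fin n) := by
    ext a
    refine ⟨?_, fun ha => ?_⟩
    · rintro ⟨g, rfl⟩
      exact (e (QuotientGroup.mk' (Subgroup.center C) g)).2
    · obtain ⟨g, hg⟩ := QuotientGroup.mk'_surjective (Subgroup.center C) (e.symm ⟨a, ha⟩)
      refine ⟨g, ?_⟩
      show ((e (QuotientGroup.mk' (Subgroup.center C) g) : alternatingGroup (Fin n)) : Perm (Fin n)) = a
      rw [hg, e.apply_symm_apply]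
  have hlift : ∀ a : Perm (Fin n), sign a = 1 → ∃ g, φ g = a := fun a ha => by
    have : a ∈ φ.range := by rw [hrange, mem_alternatingGroup]; exact ha
    exact this
  have hτφ : φ τ = 1 := (hker τ).2 (Or.inr rfl)
  have heq : ∀ g h : C, φ g = φ h → g = h ∨ g = τ * h := by
    intro g h hgh
    have h1 : φ (g * h⁻¹) = 1 := by rw [map_mul, map_inv, hgh, mul_inv_cancel]
    rcases (hker _).1 h1 with h2 | h2
    · exact Or.inl (mul_inv_eq_one.1 h2)
    · exact Or.inr (mul_inv_eq_iff_eq_mul.1 h2)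
  have hsq : ∀ g : C, IsDT (φ g) → g * g = τ := by
    intro g0 hg0
    by_contra hne
    have hg0' : g0 * g0 = 1 := by
      have h1 : φ (g0 * g0) = 1 := by
        obtain ⟨p, q, r, s, hnd, hpq⟩ := hg0
        simp only [List.nodup_cons, List.mem_cons, List.not_mem_nil, or_false, not_or,
          not_false_iff, List.nodup_nil, and_true] at hnd
        obtain ⟨⟨hpq', hpr, hps⟩, ⟨hqr, hqs⟩, hrs⟩ := hnd
        have hd : (swap p q).Disjoint (swap r s) := by
          rw [disjoint_iff_disjoint_support, support_swap hpq', support_swap hrs]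
          simp [Ne.symm hpr, Ne.symm hps, Ne.symm hqr, Ne.symm hqs]
        rw [map_mul, hpq, hd.commute.symm.mul_mul_mul_comm, swap_mul_self, swap_mul_self, one_mul]
      exact ((hker _).1 h1).resolve_right hne
    have hall : ∀ g : C, IsDT (φ g) → g * g = 1 := by
      intro g hg
      obtain ⟨σ, hσ, hσg⟩ := hg0.exists_conj hg
      obtain ⟨k, hk⟩ := hlift σ hσ
      have hc : (k * g0 * k⁻¹) * (k * g0 * k⁻¹) = 1 := by
        rw [show k * g0 * k⁻¹ * (k * g0 * k⁻¹) = k * (g0 * g0) * k⁻¹ by group, hg0', mul_one,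
          mul_inv_cancel]
      rcases heq g (k * g0 * k⁻¹) (by rw [map_mul, map_mul, map_inv, hk, hσg]) with h | h
      · rw [h, hc]
      · rw [h, Commute.mul_mul_mul_comm (hcentral (k * g0 * k⁻¹)), hτ2, hc, one_mul]
    -- a section from Carmichael's presentation
    obtain ⟨m, rfl⟩ : ∃ m, n = m + 2 := ⟨n - 2, by omega⟩
    let E : Fin m ⊕ Fin 2 ≃ Fin (m + 2) := finSumFinEquiv
    let A : Fin m → Perm (Fin (m + 2)) := fun i => E.permCongrHom (cycP i)
    have hA3 : ∀ i, A i ^ 3 = 1 := fun i => by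
      have h := congrArg Subtype.val ((carm_cyc (α := Fin m)).cube i)
      rw [SubgroupClass.coe_pow, cyc_coe, OneMemClass.coe_one] at h
      show E.permCongrHom (cycP i) ^ 3 = 1
      rw [← map_pow, h, map_one]
    have hAs : ∀ i, sign (A i) = 1 := fun i => by
      show sign (E.permCongr (cycP i)) = 1
      rw [sign_permCongr]; exact mem_alternatingGroup.1 (cycP_mem i)
    have hxl : ∀ i, ∃ x : C, φ x = A i ∧ x ^ 3 = 1 := by
      intro i
      obtain ⟨x, hx⟩ := hlift _ (hAs i)
      have h1 : φ (x ^ 3) = 1 := by rw [map_pow, hx, hA3]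
      rcases (hker _).1 h1 with h | h
      · exact ⟨x, hx, h⟩
      · refine ⟨τ * x, by rw [map_mul, hτφ, one_mul, hx], ?_⟩
        rw [Commute.mul_pow (hcentral x).symm, h, pow_succ, pow_two, hτ2, one_mul, hτ2]
    choose x hxφ hx3 using hxl
    have hx2 : ∀ i j, i ≠ j → (x i * x j) ^ 2 = 1 := fun i j hij => by
      rw [pow_two]
      refine hall _ ?_
      rw [map_mul, hxφ, hxφ, ← map_mul]
      exact (cycP_mul hij).map E
    let S : Shrink.{0} C ≃* C := Shrink.mulEquiv
    obtain ⟨ψ₀, hψ₀⟩ := exists_hom (fun i => S.symm (x i))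
      ⟨fun i => by rw [← map_pow, hx3, map_one], fun i j hij => by
        rw [← map_mul, ← map_pow, hx2 i j hij, map_one]⟩
    let ψ : Alt2 (Fin m) →* C := S.toMonoidHom.comp ψ₀
    have hψ : ∀ i, ψ (cyc i) = x i := fun i => by
      show S (ψ₀ (cyc i)) = x i
      rw [hψ₀, S.apply_symm_apply]
    have hcomp : ∀ a : Alt2 (Fin m), φ (ψ a) = E.permCongrHom (a : Perm (Fin m ⊕ Fin 2)) := by
      have h : φ.comp ψ = E.permCongrHom.toMonoidHom.comp (alternatingGroup _).subtype :=
        alt_hom_ext fun i => by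
          show φ (ψ (cyc i)) = E.permCongrHom (cycP i)
          rw [hψ, hxφ]
      exact fun a => DFunLike.congr_fun h a
    have hinj : Function.Injective ψ := fun a b hab => by
      have h := congrArg φ hab
      rw [hcomp, hcomp] at h
      exact Subtype.ext (E.permCongrHom.injective h)
    refine hsplit ψ.range (Subgroup.isComplement'_of_card_mul_and_disjoint ?_ ?_)
    · rw [Subgroup.card_eq_card_quotient_mul_card_subgroup (Subgroup.center C),
        Nat.card_congr e.toEquiv, ← Nat.card_congr (MonoidHom.ofInjective hinj).toEquiv,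
        ← Nat.card_congr (Equiv.altCongrHom E).toEquiv, mul_comm]
    · rw [Subgroup.disjoint_def]
      rintro _ hc ⟨a, rfl⟩
      rw [hcen] at hc
      have h : φ (ψ a) = 1 := by
        obtain ⟨j, hj⟩ := hc
        rw [← hj, map_zpow, hτφ, one_zpow]
      rw [hcomp, MulEquiv.map_eq_one_iff, OneMemClass.coe_eq_one] at h
      rw [h, map_one]
  exact ⟨{ z := z, hz := hz, cov := ⟨φ, hrange, τ, hτo, hcentral, hker, hsq⟩, cov_z := rfl }⟩

end Cfsg.Agent.Lib.DoubleAlt12
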