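import Cfsg.Agent.Lib.DoubleAlt12.Cover
import Cfsg.Agent.Lib.Involution.Basic

/-!
# S1645: small facts on involutions

`noFour`: a group in which an involution `z` is the only involution of its centraliser.
`Cov.conj_of_φ`: in degree at most `11` all involutions other than the central one are conjugate in the cover.
-/

set_option autoImplicit false

namespace Cfsg.Agent.Lib.DoubleAlt12

open Equiv Equiv.Perm Pointwise

/-- If `z` is the only involution commuting with `z`, then there are no two distinct commuting involutions and all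
involutions are conjugate to `z`. -/
theorem noFour {H : Type*} [Group H] [Finite H] {z : H} (hz : orderOf z = 2)
    (h : ∀ u : H, orderOf u = 2 → Commute u z → u = z) :
    (∀ u v : H, orderOf u = 2 → orderOf v = 2 → Commute u v → u = v) ∧
      ∀ u : H, orderOf u = 2 → IsConj u z := by
  haveI : Fact (Nat.Prime 2) := ⟨Nat.prime_two⟩
  have hzp : IsPGroup 2 (Subgroup.zpowers z) :=
    IsPGroup.of_card (n := 1) (by rw [Nat.card_zpowers, hz]; norm_num)
  obtain ⟨S, hS⟩ := hzp.exists_le_sylow
  have hzS : z ∈ (S : Subgroup H) := hS (Subgroup.mem_zpowers z)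
  have huniq : ∀ u ∈ (S : Subgroup H), orderOf u = 2 → u = z := by
    haveI : Nontrivial (S : Subgroup H) :=
      ⟨⟨⟨z, hzS⟩, 1, fun e => Involution.ne_one hz (congrArg Subtype.val e)⟩⟩
    haveI : Nontrivial (Subgroup.center (S : Subgroup H)) := S.isPGroup'.center_nontrivial
    obtain ⟨c, hc⟩ := exists_prime_orderOf_dvd_card' (G := Subgroup.center (S : Subgroup H)) 2 (by
      obtain ⟨k, hk⟩ := (S.isPGroup'.to_subgroup (Subgroup.center (S : Subgroup H))).exists_card_eq
      rcases k with _ | k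
      · rw [pow_zero] at hk
        exact absurd hk (Finite.one_lt_card (α := Subgroup.center (S : Subgroup H))).ne'
      · exact ⟨2 ^ k, by rw [hk, pow_succ, mul_comm]⟩)
    have hc2 : orderOf ((c : (S : Subgroup H)) : H) = 2 := by
      rw [Subgroup.orderOf_coe, Subgroup.orderOf_coe, hc]
    have hcomm : ∀ u ∈ (S : Subgroup H), Commute u ((c : (S : Subgroup H)) : H) := fun u hu =>
      congrArg Subtype.val (Subgroup.mem_center_iff.1 c.2 ⟨u, hu⟩)
    have hcz : ((c : (S : Subgroup H)) : H) = z := h _ hc2 (hcomm z hzS).symm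
    intro u hu hu2
    exact h u hu2 (hcz ▸ hcomm u hu)
  have hconj : ∀ u : H, orderOf u = 2 → IsConj u z := by
    intro u hu
    have hup : IsPGroup 2 (Subgroup.zpowers u) :=
      IsPGroup.of_card (n := 1) (by rw [Nat.card_zpowers, hu]; norm_num)
    obtain ⟨T, hT⟩ := hup.exists_le_sylow
    obtain ⟨g, hg⟩ := MulAction.exists_smul_eq H T S
    have hmem : g * u * g⁻¹ ∈ (S : Subgroup H) := by
      rw [← hg]
      show g * u * g⁻¹ ∈ MulAut.conj g • (T : Subgroup H)
      exact Subgroup.smul_mem_pointwise_smul u (MulAut.conj g) _ (hT (Subgroup.mem_zpowers u))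
    exact isConj_iff.2 ⟨g, huniq _ hmem (by rw [Involution.orderOf_conj_eq, hu])⟩
  refine ⟨fun u v hu hv huv => ?_, hconj⟩
  obtain ⟨g, hg⟩ := isConj_iff.1 (hconj u hu)
  have hv' : g * v * g⁻¹ = z := by
    refine h _ (by rw [Involution.orderOf_conj_eq, hv]) ?_
    rw [← hg]
    exact (huv.symm.map (MulAut.conj g).toMonoidHom)
  exact mul_left_cancel (mul_right_cancel (hg.trans hv'.symm))

/-- An even involution with two moved points in different cycles: conjugation by an even permutation is possible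
between involutions of equal support size. -/
theorem exists_even_conj {α : Type*} [Fintype α] [DecidableEq α] {a b : Perm α} (ha : orderOf a = 2)
    (hb : orderOf b = 2) (hs : a.support.card = b.support.card) :
    ∃ g : Perm α, sign g = 1 ∧ g * a * g⁻¹ = b := by
  have key : ∀ {a : Perm α}, orderOf a = 2 → a.cycleType = Multiset.replicate (a.support.card / 2) 2 := by
    intro a ha
    obtain ⟨m, hm⟩ := cycleType_prime_order (show (orderOf a).Prime by rw [ha]; exact Nat.prime_two)
    rw [ha] at hm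
    have := a.sum_cycleType
    rw [hm, Multiset.sum_replicate, smul_eq_mul] at this
    rw [hm, ← this, Nat.mul_div_cancel _ (by norm_num)]
  obtain ⟨g, hg⟩ := isConj_iff.1 ((isConj_iff_cycleType_eq).2 (by rw [key ha, key hb, hs]) : IsConj a b)
  rcases Int.units_eq_one_or (sign g) with hsg | hsg
  · exact ⟨g, hsg, hg⟩
  obtain ⟨i, hi⟩ : ∃ i, a i ≠ i := by
    by_contra hh
    push Not at hh
    rw [show a = 1 from Equiv.ext hh, orderOf_one] at ha
    omega
  have haa : a (a i) = i := by
    rw [← Perm.mul_apply, Involution.mul_self_eq_one ha, Perm.one_apply]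
  have hc : a * swap i (a i) = swap i (a i) * a := by
    rw [mul_swap_eq_swap_mul, haa, swap_comm]
  refine ⟨g * swap i (a i), by rw [Perm.sign_mul, hsg, sign_swap (Ne.symm hi)]; rfl, ?_⟩
  rw [mul_inv_rev, show g * swap i (a i) * a * ((swap i (a i))⁻¹ * g⁻¹) =
    g * (swap i (a i) * a * (swap i (a i))⁻¹) * g⁻¹ by group, ← hc, mul_inv_cancel_right, hg]

namespace Cov

variable {C : Type*} [Group C] {n : ℕ} (c : Cov C n)

set_option maxHeartbeats 800000 in
/-- An involution whose image is a product of at least four transpositions is conjugate to its product with the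
central involution. -/
theorem isConj_z_mul {t : C} (ht : orderOf t = 2) (hne : t ≠ c.z) : IsConj t (c.z * t) := by
  obtain ⟨ho, hpos, h8⟩ := c.involution_support ht hne
  set σ := c.φ t with hσ
  have h8' : 8 ≤ σ.support.card := Nat.le_of_dvd hpos h8
  have hinv : σ * σ = 1 := Involution.mul_self_eq_one ho
  have hss : ∀ x, σ (σ x) = x := fun x => by rw [← Perm.mul_apply, hinv, Perm.one_apply]
  obtain ⟨p, hp⟩ := Finset.card_pos.1 hpos
  obtain ⟨r, hr⟩ : ∃ r, r ∈ σ.support \ {p, σ p} := by
    apply Finset.card_pos.1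
    have h1 := Finset.le_card_sdiff ({p, σ p} : Finset (Fin n)) σ.support
    have h2 : ({p, σ p} : Finset (Fin n)).card ≤ 2 := Finset.card_le_two
    omega
  simp only [Finset.mem_sdiff, Finset.mem_insert, Finset.mem_singleton, mem_support, not_or] at hr
  obtain ⟨hr, hrp, hrq⟩ := hr
  rw [mem_support] at hp
  -- the four points and the two auxiliary double transpositions
  set q := σ p with hq
  set s := σ r with hs
  have hps : p ≠ s := fun e => hrq (by rw [hq, e, hs, hss])
  have hqs : q ≠ s := fun e => hrp (σ.injective (by rw [← hq, ← hs, e]))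
  have hnd : [p, q, r, s].Nodup := by
    simp only [List.nodup_cons, List.mem_cons, List.not_mem_nil, or_false, not_or]
    exact ⟨⟨hp.symm, Ne.symm hrp, hps⟩, ⟨Ne.symm hrq, hqs⟩, hr.symm, not_false, List.nodup_nil⟩
  set d : Perm (Fin n) := swap p q * swap r s with hd
  set e : Perm (Fin n) := swap p r * swap q s with he
  have hdT : IsDT d := ⟨p, q, r, s, hnd, rfl⟩
  have heT : IsDT e := ⟨p, r, q, s, by
    simp only [List.nodup_cons, List.mem_cons, List.not_mem_nil, or_false, not_or]
    exact ⟨⟨Ne.symm hrp, hp.symm, hps⟩, ⟨hrq, hr.symm⟩, hqs, not_false, List.nodup_nil⟩, rfl⟩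
  have hdeT : IsDT (d * e) := by
    refine ⟨p, s, q, r, ?_, ?_⟩
    · simp only [List.nodup_cons, List.mem_cons, List.not_mem_nil, or_false, not_or]
      exact ⟨⟨hps, hp.symm, Ne.symm hrp⟩, ⟨hqs.symm, hr⟩, Ne.symm hrq, not_false, List.nodup_nil⟩
    · apply Equiv.ext
      intro x
      rw [hd, he]
      simp only [Perm.mul_apply]
      have npq : p ≠ q := hp.symm
      have npr : p ≠ r := Ne.symm hrp
      have nqr : q ≠ r := Ne.symm hrq
      have nrs : r ≠ s := hr.symm
      rcases eq_or_ne x p with rfl | x1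
      · simp [swap_apply_def, npq, npr, hps, nqr, hqs, nrs, npq.symm, npr.symm, hps.symm, nqr.symm, hqs.symm, nrs.symm]
      rcases eq_or_ne x q with rfl | x2
      · simp [swap_apply_def, npq, npr, hps, nqr, hqs, nrs, npq.symm, npr.symm, hps.symm, nqr.symm, hqs.symm, nrs.symm]
      rcases eq_or_ne x r with rfl | x3
      · simp [swap_apply_def, npq, npr, hps, nqr, hqs, nrs, npq.symm, npr.symm, hps.symm, nqr.symm, hqs.symm, nrs.symm]
      rcases eq_or_ne x s with rfl | x4
      · simp [swap_apply_def, npq, npr, hps, nqr, hqs, nrs, npq.symm, npr.symm, hps.symm, nqr.symm, hqs.symm, nrs.symm]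
      simp [swap_apply_def, x1, x2, x3, x4]
  have hdsign : sign d = 1 := by
    rw [hd, Perm.sign_mul, sign_swap hp.symm, sign_swap hr.symm]; rfl
  have hesign : sign e = 1 := by
    rw [he, Perm.sign_mul, sign_swap (Ne.symm hrp), sign_swap hqs]; rfl
  obtain ⟨x1, hx1⟩ := c.exists_lift hdsign
  obtain ⟨w, hw⟩ := c.exists_lift hesign
  have hdmove : ∀ x, (x = p ∨ x = q ∨ x = r ∨ x = s) → σ x = d x := by
    rintro x (rfl | rfl | rfl | rfl)
    · rw [hd, Perm.mul_apply, swap_apply_of_ne_of_ne (Ne.symm hrp) hps, swap_apply_left]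
    · rw [hd, Perm.mul_apply, swap_apply_of_ne_of_ne (Ne.symm hrq) hqs, swap_apply_right, hq, hss]
    · rw [hd, Perm.mul_apply, swap_apply_left, swap_apply_of_ne_of_ne hps.symm hqs.symm]
    · rw [hd, Perm.mul_apply, swap_apply_right, swap_apply_of_ne_of_ne hrp hrq, hs, hss]
  have hdfix : ∀ x, ¬ (x = p ∨ x = q ∨ x = r ∨ x = s) → e x = x ∧ d x = x := by
    intro x hx
    push Not at hx
    obtain ⟨a1, a2, a3, a4⟩ := hx
    exact ⟨by rw [he, Perm.mul_apply, swap_apply_of_ne_of_ne a2 a4, swap_apply_of_ne_of_ne a1 a3],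
      by rw [hd, Perm.mul_apply, swap_apply_of_ne_of_ne a3 a4, swap_apply_of_ne_of_ne a1 a2]⟩
  obtain ⟨x2, hx2⟩ : ∃ x2, t = x1 * x2 := ⟨x1⁻¹ * t, by group⟩
  have hdd : d * d = 1 := by rw [← hx1, ← map_mul, c.sq_dt x1 (hx1.symm ▸ hdT), c.φ_z]
  have hx2φ : c.φ x2 = d * σ := by
    rw [hσ, hx2, map_mul, hx1, ← mul_assoc, hdd, one_mul]
  have hdis : (c.φ x2).Disjoint (c.φ w) := by
    rw [hx2φ, hw]
    intro x
    by_cases hx : x = p ∨ x = q ∨ x = r ∨ x = s
    · left
      rw [Perm.mul_apply, hdmove x hx, ← Perm.mul_apply, hdd, Perm.one_apply]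
    · exact Or.inr (hdfix x hx).1
  have h2 : Commute x2 w := c.commute_of_disjoint hdis
  have h1 : x1 * w = c.z * (w * x1) :=
    c.anti (hx1.symm ▸ hdT) (hw.symm ▸ heT) (by rw [hx1, hw]; exact hdeT)
  refine isConj_iff.2 ⟨w⁻¹, ?_⟩
  rw [inv_inv, hx2, mul_assoc w⁻¹, mul_assoc x1, h2.eq, ← mul_assoc x1, h1]
  rw [show w⁻¹ * (c.z * (w * x1) * x2) = w⁻¹ * c.z * (w * x1 * x2) by group, ← c.central w⁻¹ |>.symm]
  group

theorem conj_of_φ {g h : C} (hg : orderOf g = 2) (hgz : g ≠ c.z) (hh : orderOf h = 2) (hhz : h ≠ c.z)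
    (hn : n ≤ 11) (_hn' : 9 ≤ n) : IsConj g h := by
  obtain ⟨hog, hposg, h8g⟩ := c.involution_support hg hgz
  obtain ⟨hoh, hposh, h8h⟩ := c.involution_support hh hhz
  have hle : ∀ a : Perm (Fin n), a.support.card ≤ 11 := fun a => by
    refine le_trans ((Finset.card_le_univ _).trans (le_of_eq ?_)) hn
    rw [Fintype.card_fin]
  have hsg := hle (c.φ g)
  have hsh := hle (c.φ h)
  obtain ⟨a, ha, hconj⟩ := exists_even_conj hog hoh (by omega)
  obtain ⟨l, hl⟩ := c.exists_lift ha
  have e : c.φ (l * g * l⁻¹) = c.φ h := by rw [map_mul, map_mul, map_inv, hl, hconj]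
  rcases c.eq_or_eq e with e1 | e1
  · exact isConj_iff.2 ⟨l, e1⟩
  · exact (isConj_iff.2 ⟨l, e1⟩ : IsConj g (c.z * h)).trans (c.isConj_z_mul hh hhz).symm

end Cov

end Cfsg.Agent.Lib.DoubleAlt12
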