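import Cfsg.Agent.Lib.DoubleAlt12.TenSpec
import Cfsg.Agent.Lib.DoubleAlt12.Cover

/-!
# S1645, degree ten

The centraliser of a lift `d` of a product of two disjoint three cycles, modulo `⟨d⟩`, has an involution
centraliser mapping onto `GL(2,3)` with kernel of order three; counting with exceptional characters shows
that there is no such group with a Sylow three subgroup of order nine.
-/

set_option autoImplicit false

namespace Cfsg.Agent.Lib.DoubleAlt12

open scoped ComplexConjugate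
open Equiv Cfsg Cfsg.Agent.Lib Cfsg.Agent.Lib.InvCentralizer

universe u

namespace Ten

/-! ### Arithmetic -/

theorem cand_final : ∀ R ∈ [(3 : ℤ), 12, 27], ∀ k ∈ Finset.Icc (-749 : ℤ) 751, k - 1 ≠ 0 →
    (k - 1) * (k - 1) ∣ 2304 * R * k * (2 * k + 1) →
    (2304 * R * k * (2 * k + 1) / ((k - 1) * (k - 1))) % 32 = 16 →
    (2304 * R * k * (2 * k + 1) / ((k - 1) * (k - 1))) % 9 = 0 →
    ¬ (2304 * R * k * (2 * k + 1) / ((k - 1) * (k - 1))) % 27 = 0 →
    (R, 2304 * R * k * (2 * k + 1) / ((k - 1) * (k - 1))) ∈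
      [((3 : ℤ), (11088 : ℤ)), (12, 61200), (27, 133200), (27, 115920)] := by
  decide +kernel

theorem candidates {N : ℕ} {X R : ℤ} (hR : R ∈ [(3 : ℤ), 12, 27]) (hX : 2 ∣ X)
    (h : (N : ℤ) * (X - 2) ^ 2 = 4608 * R * X * (X + 1)) (h16 : 16 ∣ N) (h32 : ¬ 32 ∣ N) (h9 : 9 ∣ N)
    (h27 : ¬ 27 ∣ N) :
    (R, (N : ℤ)) ∈ [((3 : ℤ), (11088 : ℤ)), (12, 61200), (27, 133200), (27, 115920)] := by
  have hR' : 0 < R ∧ R ≤ 27 := by
    simp only [List.mem_cons, List.not_mem_nil, or_false] at hR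
    omega
  obtain ⟨k, rfl⟩ := hX
  have h' : (N : ℤ) * (k - 1) ^ 2 = 2304 * R * k * (2 * k + 1) := by linarith
  have hk1 : k - 1 ≠ 0 := fun e => by
    have : k = 1 := by omega
    subst this
    norm_num at h'
    omega
  have hd : (k - 1) ^ 2 ∣ 2304 * R * 9 := by
    have h1 : IsCoprime ((k - 1) ^ 2) k := IsCoprime.pow_left ⟨-1, 1, by ring⟩
    have h3 : (k - 1) ^ 2 ∣ 2304 * R * k * (2 * k + 1) := ⟨N, by linarith⟩
    have h4 : (k - 1) ^ 2 ∣ 2304 * R * (2 * k + 1) := h1.dvd_of_dvd_mul_right (by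
      rwa [show 2304 * R * (2 * k + 1) * k = 2304 * R * k * (2 * k + 1) by ring])
    have h5 : k - 1 ∣ 2304 * R * 3 := by
      have : k - 1 ∣ 2304 * R * (2 * k + 1) := (dvd_pow_self _ two_ne_zero).trans h4
      rw [show 2304 * R * (2 * k + 1) = 2304 * R * 3 + (k - 1) * (2 * 2304 * R) by ring] at this
      exact (dvd_add_left (dvd_mul_right _ _)).mp this
    have h6 : (k - 1) ^ 2 ∣ 2304 * R * 3 * (k - 1) * 2 := by
      rw [pow_two]
      exact dvd_mul_of_dvd_left (mul_dvd_mul h5 dvd_rfl) 2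
    have h7 : (k - 1) ^ 2 ∣ 2304 * R * 3 * 3 := by
      have := dvd_mul_of_dvd_left h4 (3 : ℤ)
      rw [show 2304 * R * (2 * k + 1) * 3 = 2304 * R * 3 * 3 + 2304 * R * 3 * (k - 1) * 2 by ring] at this
      exact (dvd_add_left h6).mp this
    rwa [show 2304 * R * 9 = 2304 * R * 3 * 3 by ring]
  have hle := Int.le_of_dvd (by omega) hd
  have hmem : k ∈ Finset.Icc (-749 : ℤ) 751 := Finset.mem_Icc.mpr (by constructor <;> nlinarith)
  have hq : 2304 * R * k * (2 * k + 1) / ((k - 1) * (k - 1)) = N := by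
    rw [← h', pow_two, Int.mul_ediv_cancel _ (mul_ne_zero hk1 hk1)]
  have := cand_final R hR k hmem hk1 (Dvd.intro_left (N : ℤ) (by rw [← pow_two]; exact h'))
    (by rw [hq]; omega) (by rw [hq]; omega) (by rw [hq]; omega)
  rwa [hq] at this

theorem exclude_final : ∀ p ∈ [((3 : ℤ), (11088 : ℤ)), (12, 61200), (27, 133200), (27, 115920)],
    ∀ a ∈ Finset.Icc (-4 : ℤ) 11, ∀ A ∈ Finset.Icc (-300 : ℤ) 300, A ≠ 0 → A + 1 ≠ 0 →
      p.2 * (A * (-1 - A) + a ^ 2 * (-1 - A) + (7 - a) ^ 2 * A) ≠ 9216 * p.1 * (A * (-1 - A)) := by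
  decide +kernel

theorem exclude {n R a A : ℤ}
    (hn : (R, n) ∈ [((3 : ℤ), (11088 : ℤ)), (12, 61200), (27, 133200), (27, 115920)])
    (ha : a ^ 2 + (7 - a) ^ 2 ≤ 143) (hA : A ≠ 0) (hA1 : A + 1 ≠ 0) :
    n * (A * (-1 - A) + a ^ 2 * (-1 - A) + (7 - a) ^ 2 * A) ≠ 9216 * R * (A * (-1 - A)) := by
  intro h
  have ha1 : -4 ≤ a := by nlinarith
  have ha2 : a ≤ 11 := by nlinarith
  have hD : 0 < n ∧ 2 * n ≤ 3 * (9216 * R - n) := by
    simp only [List.mem_cons, List.not_mem_nil, or_false, Prod.mk.injEq] at hn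
    omega
  have hc1 : (7 - a) ^ 2 - a ^ 2 ≤ 105 := by nlinarith
  have hc2 : -105 ≤ (7 - a) ^ 2 - a ^ 2 := by nlinarith
  have hq : a ^ 2 ≤ 121 := by nlinarith
  have hkey : A * ((9216 * R - n) * (A + 1) + n * ((7 - a) ^ 2 - a ^ 2)) = n * a ^ 2 := by
    linear_combination h
  have hmem : A ∈ Finset.Icc (-300 : ℤ) 300 := by
    rw [Finset.mem_Icc]
    constructor
    · by_contra hA'
      have e1 : (9216 * R - n) * (A + 1) ≤ (9216 * R - n) * (-300) :=
        mul_le_mul_of_nonneg_left (by omega) (by omega)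
      have e2 : n * ((7 - a) ^ 2 - a ^ 2) ≤ n * 105 := mul_le_mul_of_nonneg_left hc1 (by omega)
      have e3 : n * a ^ 2 ≤ n * 121 := mul_le_mul_of_nonneg_left hq (by omega)
      nlinarith
    · by_contra hA'
      have e1 : (9216 * R - n) * 302 ≤ (9216 * R - n) * (A + 1) :=
        mul_le_mul_of_nonneg_left (by omega) (by omega)
      have e2 : n * (-105) ≤ n * ((7 - a) ^ 2 - a ^ 2) := mul_le_mul_of_nonneg_left hc2 (by omega)
      have e3 : n * a ^ 2 ≤ n * 121 := mul_le_mul_of_nonneg_left hq (by omega)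
      nlinarith
  exact exclude_final (R, n) hn a (Finset.mem_Icc.mpr ⟨ha1, ha2⟩) A hmem hA hA1 h

/-! ### The model -/

/-- The noncentral involutions of the model. -/
def outer : Finset GLThree := Finset.univ.filter fun g => g * g = 1 ∧ g ≠ 1 ∧ g ≠ negOne

theorem model_facts :
    negOne * negOne = 1 ∧ negOne ≠ 1 ∧
    (∀ g : GLThree, g * g * g = 1 → (∀ m : GLThree, g * m = m * g) → g = 1) ∧
    (∀ g : GLThree, g * (genEight * genEight * genEight) = genEight * genEight * genEight * g → g * g = 1 →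
      g = 1 ∨ g = negOne) ∧
    (genEight * genEight * genEight) ^ 4 = negOne ∧ genEight ^ 8 = 1 := by
  decide +kernel

theorem outer_conj : ∀ g ∈ outer, ∀ h ∈ outer, ∃ m : GLThree, m * g = h * m := by decide +kernel

theorem outer_nonempty : outer.Nonempty := by decide +kernel

theorem invol_cases : ∀ g : GLThree, g * g = 1 → g = 1 ∨ g = negOne ∨ g ∈ outer := by decide +kernel

/-! ### Counting -/

section Count

variable {G : Type u} [Group G] [Fintype G] {t : G} [Fintype (Subgroup.centralizer ({t} : Set G))]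
  (π : Subgroup.centralizer ({t} : Set G) →* GLThree)

/-- A function on the model as a function on the centraliser. -/
noncomputable def pullTen (F : GLThree → RootTwo) : Subgroup.centralizer ({t} : Set G) → ℂ :=
  fun x => rootTwoHom (F (π x))

theorem card_fiber (hsurj : Function.Surjective π) (g : GLThree) :
    (Finset.univ.filter fun x => π x = g).card = Nat.card π.ker := by
  classical
  obtain ⟨x₀, rfl⟩ := hsurj g
  rw [← Fintype.card_subtype, ← Nat.card_eq_fintype_card]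
  refine Nat.card_congr ⟨fun x => ⟨x₀⁻¹ * x.1, ?_⟩, fun k => ⟨x₀ * k.1, ?_⟩, fun x => ?_, fun k => ?_⟩
  · rw [MonoidHom.mem_ker, map_mul, map_inv, x.2, inv_mul_cancel]
  · rw [map_mul, MonoidHom.mem_ker.mp k.2, mul_one]
  · exact Subtype.ext (mul_inv_cancel_left _ _)
  · exact Subtype.ext (inv_mul_cancel_left _ _)

theorem sum_pull (hsurj : Function.Surjective π) (F : GLThree → RootTwo) :
    ∑ x, F (π x) = (Nat.card π.ker : RootTwo) * ∑ g, F g := by
  rw [← Finset.sum_fiberwise Finset.univ π (fun x => F (π x)), Finset.mul_sum]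
  refine Finset.sum_congr rfl fun g _ => ?_
  rw [Finset.sum_congr rfl (g := fun _ => F g) fun x hx => by rw [(Finset.mem_filter.mp hx).2],
    Finset.sum_const, card_fiber π hsurj, nsmul_eq_mul]

theorem supp_pullTen (hker : Nat.card π.ker = 3) (ht : orderOf t = 2)
    (hπt : π ⟨t, Subgroup.mem_centralizer_singleton_iff.mpr rfl⟩ = negOne) (F : GLThree → RootTwo)
    (hF : ∀ m, F m ≠ 0 → ∃ i : ℕ, i < 5 ∧ m ^ i = negOne) (x : Subgroup.centralizer ({t} : Set G))
    (hx : pullTen π F x ≠ 0) : t ∈ Subgroup.zpowers (x : G) := by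
  obtain ⟨i, -, hi⟩ := hF (π x) fun h => hx (by rw [pullTen, h, map_zero])
  set T : Subgroup.centralizer ({t} : Set G) := ⟨t, Subgroup.mem_centralizer_singleton_iff.mpr rfl⟩
  have hTT : T * T = 1 := Subtype.ext (show t * t = 1 by rw [← pow_two, ← ht, pow_orderOf_eq_one])
  have hy : x ^ i * T ∈ π.ker := by
    rw [MonoidHom.mem_ker, map_mul, map_pow, hi, hπt, model_facts.1]
  have h3 : (x ^ i * T) ^ 3 = 1 := by
    have := pow_card_eq_one' (x := (⟨_, hy⟩ : π.ker))
    rw [hker] at this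
    exact congrArg Subtype.val this
  have hc : Commute (x ^ i) T := Subtype.ext
    (Subgroup.mem_centralizer_singleton_iff.mp (x ^ i).2)
  rw [hc.mul_pow, pow_succ T, pow_two, hTT, one_mul, ← pow_mul] at h3
  refine ⟨((i * 3 : ℕ) : ℤ), ?_⟩
  show (x : G) ^ ((i * 3 : ℕ) : ℤ) = t
  rw [zpow_natCast, ← SubgroupClass.coe_pow, eq_inv_of_mul_eq_one_left h3,
    inv_eq_of_mul_eq_one_right hTT]

theorem isGen_pullTen {F : GLThree → RootTwo}
    (h : IsGeneralizedCharacter GLThree fun m => rootTwoHom (F m)) :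
    IsGeneralizedCharacter _ (pullTen π F) := by
  obtain ⟨χ, ψ, hχ, hψ, heq⟩ := h
  exact ⟨χ ∘ π, ψ ∘ π, Chars.isCharacter_comp π hχ, Chars.isCharacter_comp π hψ,
    funext fun x => congrFun heq (π x)⟩

/-- The number of involutions over an element of the model. -/
noncomputable def invFiber (g : GLThree) : ℕ :=
  haveI := Classical.decEq (Subgroup.centralizer ({t} : Set G))
  (Finset.univ.filter fun x : Subgroup.centralizer ({t} : Set G) => orderOf x = 2 ∧ π x = g).card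

theorem invFiber_facts (hsurj : Function.Surjective π) (hker : Nat.card π.ker = 3) (ht : orderOf t = 2)
    (hπt : π ⟨t, Subgroup.mem_centralizer_singleton_iff.mpr rfl⟩ = negOne) :
    invFiber π 1 = 0 ∧ invFiber π negOne = 1 ∧
      (∀ g, g * g ≠ 1 → invFiber π g = 0) ∧
      ∃ w : ℕ, (w = 1 ∨ w = 2 ∨ w = 3) ∧ ∀ g ∈ outer, invFiber π g = w := by
  classical
  set T : Subgroup.centralizer ({t} : Set G) := ⟨t, Subgroup.mem_centralizer_singleton_iff.mpr rfl⟩
  have hT : orderOf T = 2 := by rw [← Subgroup.orderOf_coe]; exact ht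
  have hker' : ∀ x, π x = 1 → x * x = 1 → x = 1 := by
    intro x hx hx2
    have h3 := pow_card_eq_one' (x := (⟨x, hx⟩ : π.ker))
    rw [hker] at h3
    have h3' : x ^ 3 = 1 := congrArg Subtype.val h3
    rwa [pow_succ, pow_two, hx2, one_mul] at h3'
  have hsq : ∀ x : Subgroup.centralizer ({t} : Set G), orderOf x = 2 → x * x = 1 ∧ x ≠ 1 := fun x hx => by
    rw [orderOf_eq_prime_iff, pow_two] at hx; exact hx
  refine ⟨?_, ?_, fun g hg => ?_, ?_⟩
  · rw [invFiber, Finset.card_eq_zero, Finset.filter_eq_empty_iff]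
    rintro x - ⟨hx, hx1⟩
    exact (hsq x hx).2 (hker' x hx1 (hsq x hx).1)
  · rw [invFiber, Finset.card_eq_one]
    refine ⟨T, Finset.eq_singleton_iff_unique_mem.mpr ⟨by simpa using ⟨hT, hπt⟩, fun x hx => ?_⟩⟩
    obtain ⟨hx2, hxn⟩ := (Finset.mem_filter.mp hx).2
    have hc : x * T = T * x := Subtype.ext (Subgroup.mem_centralizer_singleton_iff.mp x.2)
    have h1 : x * T = 1 := hker' _ (by rw [map_mul, hxn, hπt, model_facts.1]) (by
      rw [mul_assoc, ← mul_assoc T, ← hc, mul_assoc x T T, (hsq T hT).1, mul_one, (hsq x hx2).1])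
    rw [eq_inv_of_mul_eq_one_left h1, inv_eq_of_mul_eq_one_right (hsq T hT).1]
  · rw [invFiber, Finset.card_eq_zero, Finset.filter_eq_empty_iff]
    rintro x - ⟨hx, hx1⟩
    exact hg (by rw [← hx1, ← map_mul, (hsq x hx).1, map_one])
  · obtain ⟨g₀, hg₀⟩ := outer_nonempty
    refine ⟨invFiber π g₀, ?_, fun g hg => ?_⟩
    · have hle : invFiber π g₀ ≤ 3 := by
        rw [← hker, ← card_fiber π hsurj g₀]
        exact Finset.card_le_card fun x hx => by
          simp only [Finset.mem_filter, Finset.mem_univ, true_and] at hx ⊢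
          exact hx.2
      have hpos : 0 < invFiber π g₀ := by
        rw [invFiber, Finset.card_pos]
        obtain ⟨x, hx⟩ := hsurj g₀
        obtain ⟨h2, h1, -⟩ := (Finset.mem_filter.mp hg₀).2
        have h3 := pow_card_eq_one' (x := (⟨x * x, by rw [MonoidHom.mem_ker, map_mul, hx, h2]⟩ : π.ker))
        rw [hker] at h3
        have h3' : (x * x) ^ 3 = 1 := congrArg Subtype.val h3
        have himg : π (x ^ 3) = g₀ := by rw [map_pow, hx, pow_succ, pow_two, h2, one_mul]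
        refine ⟨x ^ 3, Finset.mem_filter.mpr ⟨Finset.mem_univ _, orderOf_eq_prime_iff.mpr ⟨?_, ?_⟩, himg⟩⟩
        · rw [← pow_mul, show 3 * 2 = 2 * 3 from rfl, pow_mul, pow_two, h3']
        · exact fun e => h1 (by rw [← himg, e, map_one])
      omega
    · obtain ⟨m, hm⟩ := outer_conj g hg g₀ hg₀
      obtain ⟨y, rfl⟩ := hsurj m
      refine Finset.card_bij' (fun x _ => y * x * y⁻¹) (fun x _ => y⁻¹ * x * y) ?_ ?_ ?_ ?_
      · intro x hx
        simp only [Finset.mem_filter, Finset.mem_univ, true_and] at hx ⊢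
        refine ⟨by rw [← MulAut.conj_apply, MulEquiv.orderOf_eq, hx.1], ?_⟩
        rw [map_mul, map_mul, map_inv, hx.2, hm, mul_inv_cancel_right]
      · intro x hx
        simp only [Finset.mem_filter, Finset.mem_univ, true_and] at hx ⊢
        refine ⟨by rw [show y⁻¹ * x * y = MulAut.conj y⁻¹ x by simp, MulEquiv.orderOf_eq, hx.1], ?_⟩
        rw [map_mul, map_mul, map_inv, hx.2, mul_assoc, ← hm, inv_mul_cancel_left]
      · intro x _; group
      · intro x _; group

/-- The pair sum through the model. -/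
theorem pairSum_pullTen (hsurj : Function.Surjective π) (hker : Nat.card π.ker = 3) (ht : orderOf t = 2)
    (hπt : π ⟨t, Subgroup.mem_centralizer_singleton_iff.mpr rfl⟩ = negOne) (F : GLThree → RootTwo) {w : ℕ}
    (hw : ∀ g ∈ outer, invFiber π g = w) {S : ℤ}
    (hF0 : F 1 = 0 ∧ ∀ g ∈ outer, F (negOne * g) = 0 ∧ F (g * negOne) = 0)
    (hS : ∑ g ∈ outer, ∑ h ∈ outer, F (g * h) = (S : RootTwo)) :
    pairSum t (pullTen π F) = (((w : ℤ) ^ 2 * S : ℤ) : ℂ) := by
  classical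
  obtain ⟨hone, hneg, hoth, -⟩ := invFiber_facts π hsurj hker ht hπt
  have hstep : ∀ f : GLThree → RootTwo,
      ∑ x ∈ Finset.univ.filter (fun x : Subgroup.centralizer ({t} : Set G) => orderOf x = 2), f (π x) =
        f negOne + (w : RootTwo) * ∑ g ∈ outer, f g := by
    intro f
    rw [← Finset.sum_fiberwise _ π (fun x => f (π x))]
    have : ∀ g, ∑ x ∈ (Finset.univ.filter
        (fun x : Subgroup.centralizer ({t} : Set G) => orderOf x = 2)).filter (fun x => π x = g), f (π x) =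
          (invFiber π g : RootTwo) * f g := by
      intro g
      rw [Finset.sum_congr rfl (g := fun _ => f g) fun x hx => by rw [(Finset.mem_filter.mp hx).2],
        Finset.sum_const, nsmul_eq_mul, Finset.filter_filter, invFiber]
    simp only [this]
    rw [← Finset.sum_subset (Finset.subset_univ (insert negOne outer)) fun g _ hg => ?_,
      Finset.sum_insert (by simp [outer]), hneg, Nat.cast_one, one_mul, Finset.mul_sum]
    · exact congrArg (f negOne + ·) (Finset.sum_congr rfl fun g hg => by rw [hw g hg])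
    · rw [Finset.mem_insert, not_or] at hg
      by_cases hgg : g * g = 1
      · rcases invol_cases g hgg with rfl | h | h
        · rw [hone, Nat.cast_zero, zero_mul]
        · exact absurd h hg.1
        · exact absurd h hg.2
      · rw [hoth g hgg, Nat.cast_zero, zero_mul]
  have hsum : pairSum t (pullTen π F) = rootTwoHom
      (∑ u ∈ Finset.univ.filter (fun x : Subgroup.centralizer ({t} : Set G) => orderOf x = 2),
        ∑ v ∈ Finset.univ.filter (fun x : Subgroup.centralizer ({t} : Set G) => orderOf x = 2),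
          F (π u * π v)) := by
    simp only [pairSum, pullTen, map_sum, map_mul]
  rw [hsum]
  have h1 : ∀ u : GLThree, ∑ v ∈ Finset.univ.filter
      (fun x : Subgroup.centralizer ({t} : Set G) => orderOf x = 2), F (u * π v) =
        F (u * negOne) + (w : RootTwo) * ∑ h ∈ outer, F (u * h) := fun u => hstep fun g => F (u * g)
  simp only [h1]
  rw [hstep (fun u => F (u * negOne) + (w : RootTwo) * ∑ h ∈ outer, F (u * h)), model_facts.1, hF0.1,
    zero_add, Finset.sum_congr rfl (fun g hg => (hF0.2 g hg).1), Finset.sum_const_zero, mul_zero, zero_add,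
    Finset.sum_add_distrib, Finset.sum_congr rfl (fun g hg => (hF0.2 g hg).2), Finset.sum_const_zero,
    zero_add, ← Finset.mul_sum, hS]
  simp only [map_mul, map_natCast, map_intCast]
  push_cast
  ring

/-- All invariants of one class function. -/
theorem coeff_of (hsurj : Function.Surjective π) (hker : Nat.card π.ker = 3) (ht : orderOf t = 2)
    (hπt : π ⟨t, Subgroup.mem_centralizer_singleton_iff.mpr rfl⟩ = negOne)
    (hconj : ∀ u : G, orderOf u = 2 → IsConj u t)
    {a d : IrrCharacter G → ℤ} (ha : ∀ χ : IrrCharacter G, (χ : G → ℂ) t = a χ)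
    (hd : ∀ χ : IrrCharacter G, (χ : G → ℂ) 1 = d χ) {w : ℕ} (hw : ∀ g ∈ outer, invFiber π g = w)
    (F : GLThree → RootTwo) (hgen : IsGeneralizedCharacter GLThree fun m => rootTwoHom (F m))
    (hF : ∀ m, F m ≠ 0 → ∃ i : ℕ, i < 5 ∧ m ^ i = negOne)
    (hF0 : F 1 = 0 ∧ ∀ g ∈ outer, F (negOne * g) = 0 ∧ F (g * negOne) = 0) {m₀ v S : ℤ}
    (hm : ∑ m, F m = ((48 * m₀ : ℤ) : RootTwo)) (hv : F negOne = (v : RootTwo))
    (hS : ∑ g ∈ outer, ∑ h ∈ outer, F (g * h) = (S : RootTwo)) :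
    ∃ c : IrrCharacter G → ℤ,
      (∀ χ : IrrCharacter G,
        classInner (indFun (Subgroup.centralizer ({t} : Set G)) (pullTen π F)) (χ : G → ℂ) = c χ) ∧
      c (Chars.trivialIrr G) = m₀ ∧ ∑ χ, (c χ : ℚ) * d χ = 0 ∧ ∑ χ, (c χ : ℚ) * a χ = v ∧
      (Nat.card G : ℚ) * ∑ χ, (c χ : ℚ) * ((a χ : ℚ) ^ 2 / d χ) = 144 * ((w : ℚ) ^ 2 * S) := by
  have hcard : Nat.card (Subgroup.centralizer ({t} : Set G)) = 144 := by
    rw [← π.ker.card_mul_index, Subgroup.index_ker, MonoidHom.range_eq_top.mpr hsurj,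
      Subgroup.card_top, hker, Nat.card_eq_fintype_card, show Fintype.card GLThree = 48 by decide +kernel]
  obtain ⟨c, hc, h0, h1, h2, h3⟩ := exists_coeff ht hconj (pullTen π F)
    (isGen_pullTen π hgen) (supp_pullTen π hker ht hπt F hF)
  refine ⟨c, hc, ?_, ?_, ?_, ?_⟩
  · have hs : ∑ x, pullTen π F x * conj (1 : ℂ) = rootTwoHom (∑ x, F (π x)) := by
      rw [map_sum]
      exact Finset.sum_congr rfl fun x _ => by simp [pullTen]
    rw [classInner, hs, sum_pull π hsurj, hker, hm, map_mul, map_natCast, map_intCast, hcard] at h0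
    push_cast at h0
    have : (c (Chars.trivialIrr G) : ℂ) = (m₀ : ℂ) := by rw [h0]; ring
    exact_mod_cast this
  · apply Rat.cast_injective (α := ℂ)
    push_cast
    simpa only [hd] using h1
  · apply Rat.cast_injective (α := ℂ)
    push_cast
    simp only [ha] at h2
    rw [h2, pullTen, hπt, hv, map_intCast]
  · apply Rat.cast_injective (α := ℂ)
    push_cast
    rw [pairSum_pullTen π hsurj hker ht hπt F hw hF0 hS, hcard] at h3
    simp only [ha, hd] at h3
    push_cast at h3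
    rw [← h3]
    congr 1
    exact Finset.sum_congr rfl fun χ _ => by ring

/-- Inner products of coefficient vectors. -/
theorem inner_of (hsurj : Function.Surjective π) (hker : Nat.card π.ker = 3) (ht : orderOf t = 2)
    (hπt : π ⟨t, Subgroup.mem_centralizer_singleton_iff.mpr rfl⟩ = negOne)
    {F F' : GLThree → RootTwo} (hgen' : IsGeneralizedCharacter GLThree fun m => rootTwoHom (F' m))
    (hF : ∀ m, F m ≠ 0 → ∃ i : ℕ, i < 5 ∧ m ^ i = negOne)
    (hF' : ∀ m, F' m ≠ 0 → ∃ i : ℕ, i < 5 ∧ m ^ i = negOne)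
    {c c' : IrrCharacter G → ℤ}
    (hc : ∀ χ : IrrCharacter G,
      classInner (indFun (Subgroup.centralizer ({t} : Set G)) (pullTen π F)) (χ : G → ℂ) = c χ)
    (hc' : ∀ χ : IrrCharacter G,
      classInner (indFun (Subgroup.centralizer ({t} : Set G)) (pullTen π F')) (χ : G → ℂ) = c' χ)
    {k : ℤ} (hk : ∑ m, F m * star (F' m) = ((48 * k : ℤ) : RootTwo)) :
    ∑ χ, c χ * c' χ = k := by
  have hcard : Nat.card (Subgroup.centralizer ({t} : Set G)) = 144 := by
    rw [← π.ker.card_mul_index, Subgroup.index_ker, MonoidHom.range_eq_top.mpr hsurj,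
      Subgroup.card_top, hker, Nat.card_eq_fintype_card, show Fintype.card GLThree = 48 by decide +kernel]
  have h := sum_coeff_mul ht (isGen_pullTen π hgen') (supp_pullTen π hker ht hπt F hF)
    (supp_pullTen π hker ht hπt F' hF') hc hc'
  have hs : ∑ x, pullTen π F x * conj (pullTen π F' x) =
      rootTwoHom (∑ x, F (π x) * star (F' (π x))) := by
    rw [map_sum]
    exact Finset.sum_congr rfl fun x _ => by simp [pullTen, conj_rootTwoHom]
  rw [classInner, hs, sum_pull π hsurj (fun g => F g * star (F' g)), hker, hk, map_mul, map_natCast,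
    map_intCast, hcard] at h
  push_cast at h
  have : ((∑ χ, c χ * c' χ : ℤ) : ℂ) = (k : ℂ) := by push_cast; rw [h]; ring
  exact_mod_cast this

end Count

theorem supports :
    (∀ m, testOne m ≠ 0 → ∃ i : ℕ, i < 5 ∧ m ^ i = negOne) ∧
    (∀ m, testTwo m ≠ 0 → ∃ i : ℕ, i < 5 ∧ m ^ i = negOne) ∧
    (∀ m, testFour m ≠ 0 → ∃ i : ℕ, i < 5 ∧ m ^ i = negOne) := by
  decide +kernel

set_option maxHeartbeats 1600000 in
/-- There is no group with an involution centraliser mapping onto the model with kernel of order three, a single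
class of involutions and a Sylow three subgroup of order nine. -/
theorem no_cover {G : Type u} [Group G] [Fintype G] {t : G} [Fintype (Subgroup.centralizer ({t} : Set G))]
    (π : Subgroup.centralizer ({t} : Set G) →* GLThree) (hsurj : Function.Surjective π)
    (hker : Nat.card π.ker = 3) (ht : orderOf t = 2)
    (hπt : π ⟨t, Subgroup.mem_centralizer_singleton_iff.mpr rfl⟩ = negOne)
    (hconj : ∀ u : G, orderOf u = 2 → IsConj u t) (h16 : 16 ∣ Nat.card G) (h32 : ¬ 32 ∣ Nat.card G)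
    (h9 : 9 ∣ Nat.card G) (h27 : ¬ 27 ∣ Nat.card G) : False := by
  classical
  have hcard : Nat.card (Subgroup.centralizer ({t} : Set G)) = 144 := by
    rw [← π.ker.card_mul_index, Subgroup.index_ker, MonoidHom.range_eq_top.mpr hsurj,
      Subgroup.card_top, hker, Nat.card_eq_fintype_card, show Fintype.card GLThree = 48 by decide +kernel]
  obtain ⟨-, -, -, w, hwv, hw⟩ := invFiber_facts π hsurj hker ht hπt
  obtain ⟨R, hRdef⟩ : ∃ R : ℤ, R = 3 * (w : ℤ) ^ 2 := ⟨_, rfl⟩
  have hR : R ∈ [(3 : ℤ), 12, 27] := by rcases hwv with rfl | rfl | rfl <;> simp [hRdef]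
  obtain ⟨a, d, ha, hd, hpos, hpar, ha1, hd1⟩ := exists_values (G := G) ht
  obtain ⟨hg1, hg2, hg4⟩ := isGeneralizedCharacter_tests
  obtain ⟨hs1, hs2, hs4⟩ := supports
  obtain ⟨c₁, hc₁, hz₁, hdeg₁, hval₁, hcnt₁⟩ := coeff_of π hsurj hker ht hπt hconj ha hd hw
    testOne hg1 hs1 (by decide +kernel) (m₀ := 1) (v := 8) (S := 192)
    (by decide +kernel) (by decide +kernel) (by decide +kernel)
  obtain ⟨c₂, hc₂, hz₂, hdeg₂, hval₂, hcnt₂⟩ := coeff_of π hsurj hker ht hπt hconj ha hd hw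
    testTwo hg2 hs2 (by decide +kernel) (m₀ := 1) (v := 0) (S := 96)
    (by decide +kernel) (by decide +kernel) (by decide +kernel)
  obtain ⟨c₄, hc₄, hz₄, hdeg₄, hval₄, hcnt₄⟩ := coeff_of π hsurj hker ht hπt hconj ha hd hw
    testFour hg4 hs4 (by decide +kernel) (m₀ := 0) (v := 4) (S := 0)
    (by decide +kernel) (by decide +kernel) (by decide +kernel)
  have h11 := inner_of π hsurj hker ht hπt hg1 hs1 hs1 hc₁ hc₁ (k := 3) (by decide +kernel)
  have h22 := inner_of π hsurj hker ht hπt hg2 hs2 hs2 hc₂ hc₂ (k := 3) (by decide +kernel)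
  have h44 := inner_of π hsurj hker ht hπt hg4 hs4 hs4 hc₄ hc₄ (k := 2) (by decide +kernel)
  have h24 := inner_of π hsurj hker ht hπt hg4 hs2 hs4 hc₂ hc₄ (k := 1) (by decide +kernel)
  set o := Chars.trivialIrr G
  have hterm : ∀ (c : IrrCharacter G → ℤ) (r : IrrCharacter G), c r = 1 ∨ c r = -1 →
      ((c r : ℚ) * ((a r : ℚ) ^ 2 / d r) = ((c r * a r : ℤ) : ℚ) ^ 2 / ((c r * d r : ℤ) : ℚ)) ∧
        2 ∣ c r * d r - c r * a r ∧ c r * d r ≠ 0 ∧ (c r * a r) ^ 2 = a r ^ 2 := by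
    intro c r hr
    have hd0 := (hpos r).ne'
    rcases hr with h | h <;> rw [h] <;> refine ⟨?_, ?_, by simpa using hd0, by ring⟩
    · push_cast; ring
    · simpa using hpar r
    · push_cast; ring
    · obtain ⟨w, hw⟩ := hpar r; exact ⟨-w, by linarith⟩
  obtain ⟨p, q, hpq, hpo, hqo, hcp, hcq, -, hsum₄⟩ := exists_pair_support c₄ o (by
    rw [hz₄]; simpa [pow_two] using h44)
  obtain ⟨p₁, q₁, hpq₁, hpo₁, hqo₁, hcp₁, hcq₁, -, hsum₁⟩ := exists_pair_support c₁ o (by
    rw [hz₁]; simpa [pow_two] using h11)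
  obtain ⟨p₂, q₂, hpq₂, hpo₂, hqo₂, hcp₂, hcq₂, hzero₂, hsum₂⟩ := exists_pair_support c₂ o (by
    rw [hz₂]; simpa [pow_two] using h22)
  rw [hsum₁, hz₁, ha1] at hval₁
  rw [hsum₁, hz₁, hd1] at hdeg₁
  rw [hsum₁, hz₁, ha1, hd1, (hterm c₁ p₁ hcp₁).1, (hterm c₁ q₁ hcq₁).1] at hcnt₁
  rw [hsum₂, hz₂, ha1] at hval₂
  rw [hsum₂, hz₂, hd1] at hdeg₂
  rw [hsum₂, hz₂, ha1, hd1, (hterm c₂ p₂ hcp₂).1, (hterm c₂ q₂ hcq₂).1] at hcnt₂
  rw [hsum₄, hz₄] at hval₄ hdeg₄
  rw [hsum₄, hz₄, (hterm c₄ p hcp).1, (hterm c₄ q hcq).1] at hcnt₄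
  have hG0 : (Nat.card G : ℚ) ≠ 0 := Nat.cast_ne_zero.mpr Nat.card_pos.ne'
  -- both signed values of the constituents of the fourth function are two
  have hpq4 : c₄ p * a p = 2 ∧ c₄ q * a q = 2 := by
    have hs : c₄ p * a p + c₄ q * a q = 4 := by
      apply Int.cast_injective (α := ℚ); push_cast at hval₄ ⊢; linarith
    have hd' : c₄ q * d q = -(c₄ p * d p) := by
      apply Int.cast_injective (α := ℚ); push_cast at hdeg₄ ⊢; linarith
    have hne : ((c₄ p * d p : ℤ) : ℚ) ≠ 0 := by exact_mod_cast (hterm c₄ p hcp).2.2.1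
    rw [hd'] at hcnt₄
    have h0 : ((c₄ p * a p : ℤ) : ℚ) ^ 2 = ((c₄ q * a q : ℤ) : ℚ) ^ 2 := by
      simp only [Int.cast_neg, Int.cast_zero, zero_mul, zero_add, div_neg, mul_zero] at hcnt₄
      have := (mul_eq_zero.mp hcnt₄).resolve_left hG0
      rw [← sub_eq_add_neg, sub_eq_zero, div_left_inj' hne] at this
      exact this
    have h0' : (c₄ p * a p) ^ 2 = (c₄ q * a q) ^ 2 := by exact_mod_cast h0
    rcases sq_eq_sq_iff_eq_or_eq_neg.mp h0' with h | h <;> omega
  -- one of them occurs with the same sign in the second function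
  obtain ⟨r, hr, hrval⟩ : ∃ r, (r = p₂ ∨ r = q₂) ∧ c₂ r * a r = 2 := by
    have h24' : c₂ p * c₄ p + c₂ q * c₄ q = 1 := by
      have hh := hsum₄ (fun χ => (c₂ χ : ℚ))
      rw [hz₄, Int.cast_zero, zero_mul, zero_add] at hh
      apply Int.cast_injective (α := ℚ)
      push_cast
      rw [mul_comm (c₂ p : ℚ), mul_comm (c₂ q : ℚ), ← hh, ← Int.cast_one, ← h24]
      push_cast
      exact Finset.sum_congr rfl fun χ _ => mul_comm _ _
    have hbd : ∀ χ, χ ≠ o → c₂ χ = 0 ∨ ((χ = p₂ ∨ χ = q₂) ∧ (c₂ χ = 1 ∨ c₂ χ = -1)) := fun χ hχ => by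
      by_cases e1 : χ = p₂
      · exact Or.inr ⟨Or.inl e1, e1 ▸ hcp₂⟩
      by_cases e2 : χ = q₂
      · exact Or.inr ⟨Or.inr e2, e2 ▸ hcq₂⟩
      exact Or.inl (hzero₂ χ hχ e1 e2)
    rcases hbd p hpo with hp0 | ⟨hp1, hp2⟩
    · rcases hbd q hqo with hq0 | ⟨hq1, -⟩
      · rw [hp0, hq0] at h24'; simp at h24'
      · refine ⟨q, hq1, ?_⟩
        rw [hp0, zero_mul, zero_add] at h24'
        have : c₂ q = c₄ q := by
          rcases hcq with e | e <;> rw [e] at h24' ⊢ <;> linarith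
        rw [this, hpq4.2]
    · by_cases hsame : c₂ p = c₄ p
      · exact ⟨p, hp1, by rw [hsame, hpq4.1]⟩
      rcases hbd q hqo with hq0 | ⟨hq1, hq2⟩
      · exfalso
        rw [hq0, zero_mul, add_zero] at h24'
        apply hsame
        rcases hcp with e | e <;> rw [e] at h24' ⊢ <;> linarith
      · refine ⟨q, hq1, ?_⟩
        have : c₂ q = c₄ q := by
          rcases hcq with e | e <;> rcases hcp with e' | e' <;> rcases hp2 with e'' | e'' <;>
            rw [e, e', e''] at h24' <;> rw [e', e''] at hsame <;> first | omega | (exact absurd rfl hsame)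
        rw [this, hpq4.2]
  -- the second function
  have hcand : ∃ X : ℤ, 2 ∣ X ∧ X ≠ 0 ∧ X + 1 ≠ 0 ∧
      (Nat.card G : ℤ) * (X - 2) ^ 2 = 4608 * R * X * (X + 1) := by
    have hs : (1 : ℤ) + c₂ p₂ * a p₂ + c₂ q₂ * a q₂ = 0 := by
      apply Int.cast_injective (α := ℚ); push_cast at hval₂ ⊢; linarith
    have hD : (1 : ℤ) + c₂ p₂ * d p₂ + c₂ q₂ * d q₂ = 0 := by
      apply Int.cast_injective (α := ℚ); push_cast at hdeg₂ ⊢; linarith
    obtain ⟨-, hpp, hp0, -⟩ := hterm c₂ p₂ hcp₂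
    obtain ⟨-, hqp, hq0, -⟩ := hterm c₂ q₂ hcq₂
    have key : ∀ X Z : ℤ, X ≠ 0 → Z ≠ 0 → 2 ∣ X - 2 → 1 + X + Z = 0 →
        (Nat.card G : ℚ) * (1 + (2 : ℚ) ^ 2 / X + (-3 : ℚ) ^ 2 / Z) = 4608 * R →
        2 ∣ X ∧ X ≠ 0 ∧ X + 1 ≠ 0 ∧ (Nat.card G : ℤ) * (X - 2) ^ 2 = 4608 * R * X * (X + 1) := by
      intro X Z hX hZ hpar hXZ heq
      refine ⟨by omega, hX, by omega, ?_⟩
      obtain rfl : Z = -1 - X := by linarith
      apply Int.cast_injective (α := ℚ)
      have hX' : (X : ℚ) ≠ 0 := by exact_mod_cast hX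
      have hZ' : ((-1 - X : ℤ) : ℚ) ≠ 0 := by exact_mod_cast hZ
      push_cast at heq hZ' ⊢
      field_simp at heq
      linarith
    rcases hr with rfl | rfl
    · refine ⟨_, key _ _ hp0 hq0 (by rw [hrval] at hpp; exact hpp) hD ?_⟩
      rw [hrval, show c₂ q₂ * a q₂ = -3 by linarith] at hcnt₂
      push_cast [hRdef] at hcnt₂ ⊢
      linarith
    · refine ⟨_, key _ _ hq0 hp0 (by rw [hrval] at hqp; exact hqp) (by linarith) ?_⟩
      rw [hrval, show c₂ p₂ * a p₂ = -3 by linarith] at hcnt₂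
      push_cast [hRdef] at hcnt₂ ⊢
      linarith
  obtain ⟨X, hX, hX0, hX1, hXeq⟩ := hcand
  have hmemN := candidates hR hX hXeq h16 h32 h9 h27
  -- the first test function rules them out
  have hsq : a p₁ ^ 2 + a q₁ ^ 2 ≤ 143 := by
    have hh := sum_sq_value (t := t) ha
    rw [hcard] at hh
    have h3 : ∑ χ ∈ ({o, p₁, q₁} : Finset _), a χ ^ 2 ≤ ∑ χ, a χ ^ 2 :=
      Finset.sum_le_sum_of_subset_of_nonneg (Finset.subset_univ _) fun _ _ _ => sq_nonneg _
    rw [hh, Finset.sum_insert (by simp [Ne.symm hpo₁, Ne.symm hqo₁]), Finset.sum_pair hpq₁, ha1] at h3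
    push_cast at h3
    linarith
  obtain ⟨-, -, hp0, hps⟩ := hterm c₁ p₁ hcp₁
  obtain ⟨-, -, hq0, hqs⟩ := hterm c₁ q₁ hcq₁
  rw [← hps, ← hqs] at hsq
  have hs : (1 : ℤ) + c₁ p₁ * a p₁ + c₁ q₁ * a q₁ = 8 := by
    apply Int.cast_injective (α := ℚ); push_cast at hval₁ ⊢; linarith
  have hD : (1 : ℤ) + c₁ p₁ * d p₁ + c₁ q₁ * d q₁ = 0 := by
    apply Int.cast_injective (α := ℚ); push_cast at hdeg₁ ⊢; linarith
  generalize c₁ p₁ * d p₁ = A at hp0 hD hcnt₁
  generalize c₁ q₁ * d q₁ = B at hq0 hD hcnt₁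
  generalize c₁ p₁ * a p₁ = x at hs hsq hcnt₁
  generalize c₁ q₁ * a q₁ = y at hs hsq hcnt₁
  obtain rfl : y = 7 - x := by linarith
  obtain rfl : B = -1 - A := by linarith
  refine exclude hmemN (a := x) (A := A) hsq hp0 (by omega) ?_
  apply Int.cast_injective (α := ℚ)
  have hA' : (A : ℚ) ≠ 0 := by exact_mod_cast hp0
  have hB' : ((-1 - A : ℤ) : ℚ) ≠ 0 := by exact_mod_cast hq0
  rw [hRdef]
  push_cast at hcnt₁ hB' ⊢
  field_simp at hcnt₁
  linarith

/-- The product of two disjoint three cycles. -/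
def tenPerm : Perm (Fin 10) := (swap 0 1 * swap 0 2) * (swap 3 4 * swap 3 5)

theorem tenPerm_facts :
    (swap (0 : Fin 10) 1 * swap 0 2).IsThreeCycle ∧ (swap (3 : Fin 10) 4 * swap 3 5).IsThreeCycle ∧
      Equiv.Perm.Disjoint (swap (0 : Fin 10) 1 * swap 0 2) (swap 3 4 * swap 3 5) ∧
      Equiv.Perm.sign tenPerm = 1 ∧ tenPerm ^ 3 = 1 ∧ tenPerm ≠ 1 := by
  refine ⟨Equiv.Perm.isThreeCycle_swap_mul_swap_same (by decide) (by decide) (by decide),
    Equiv.Perm.isThreeCycle_swap_mul_swap_same (by decide) (by decide) (by decide), ?_, ?_, ?_, ?_⟩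
  · intro i; revert i; decide
  all_goals decide +kernel

end Ten

set_option maxHeartbeats 800000 in
/-- Brick: degree ten is impossible. -/
theorem ten (hL : LocalStmt.{u}) (hM : TenModelStmt.{u}) : TenStmt.{u} := by
  intro G _ _ _ K hX
  classical
  obtain ⟨hσ, hτ, hdis, hsgn, hp3, hp1⟩ := Ten.tenPerm_facts
  have hord : orderOf Ten.tenPerm = 3 := by
    haveI : Fact (Nat.Prime 3) := ⟨Nat.prime_three⟩
    exact orderOf_eq_prime hp3 hp1
  obtain ⟨d, hφd, hdo⟩ := K.cov.exists_odd_lift hsgn (by rw [hord]; decide)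
  rw [hord] at hdo
  have hex : ∃ σ τ : Perm (Fin 10), σ.IsThreeCycle ∧ τ.IsThreeCycle ∧ σ.Disjoint τ ∧ K.cov.φ d = σ * τ :=
    ⟨_, _, hσ, hτ, hdis, hφd⟩
  obtain ⟨h81, hfus⟩ := hL G 10 K (Or.inr rfl) hX d hdo hex
  set D : Subgroup G := Subgroup.centralizer ({(d : G)} : Set G) with hD
  have hdD : (d : G) ∈ D := Subgroup.mem_centralizer_singleton_iff.mpr rfl
  set N : Subgroup D := Subgroup.zpowers (⟨(d : G), hdD⟩ : D) with hN
  haveI hNn : N.Normal := ⟨fun m hm g => by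
    obtain ⟨i, rfl⟩ := Subgroup.mem_zpowers_iff.mp hm
    have hc : Commute g (⟨(d : G), hdD⟩ : D) := Subtype.ext (Subgroup.mem_centralizer_singleton_iff.mp g.2)
    rw [(hc.zpow_right i).eq, mul_inv_cancel_right]
    exact ⟨i, rfl⟩⟩
  have hd3 : orderOf (⟨(d : G), hdD⟩ : D) = 3 := by
    rw [← Subgroup.orderOf_coe]; exact (Subgroup.orderOf_coe d).trans hdo
  have hNcard : Nat.card N = 3 := by rw [hN, Nat.card_zpowers, hd3]
  -- elements of the double cover commuting with `d`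
  set W : Subgroup (Subgroup.centralizer ({K.z} : Set G)) := Subgroup.centralizer {d} with hW
  obtain ⟨π, hπs, hπk, hπz⟩ : ∃ π : W →* GLThree, Function.Surjective π ∧ Nat.card π.ker = 9 ∧
      ∀ h : K.cov.z ∈ W, π ⟨K.cov.z, h⟩ = negOne :=
    hM (Subgroup.centralizer ({K.z} : Set G)) K.cov d hdo hex
  have hzW : K.cov.z ∈ W := Subgroup.mem_centralizer_singleton_iff.mpr (K.cov.central d).symm
  let emb : W →* D :=
    { toFun := fun w => ⟨((w : Subgroup.centralizer ({K.z} : Set G)) : G),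
        Subgroup.mem_centralizer_singleton_iff.mpr
          (congrArg Subtype.val (Subgroup.mem_centralizer_singleton_iff.mp w.2))⟩
      map_one' := rfl
      map_mul' := fun _ _ => rfl }
  have hemb : Function.Injective emb := fun a b h => Subtype.ext (Subtype.ext (congrArg (fun x : D => (x : G)) h))
  set t : D ⧸ N := QuotientGroup.mk (emb ⟨K.cov.z, hzW⟩) with htdef
  have hzz : emb ⟨K.cov.z, hzW⟩ * emb ⟨K.cov.z, hzW⟩ = 1 := by
    rw [← map_mul, show (⟨K.cov.z, hzW⟩ : W) * ⟨K.cov.z, hzW⟩ = 1 from Subtype.ext K.cov.z_mul_self,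
      map_one]
  have hzord : orderOf (emb ⟨K.cov.z, hzW⟩) = 2 := by
    rw [orderOf_injective emb hemb, ← Subgroup.orderOf_coe]; exact K.cov.hz
  have ht : orderOf t = 2 := by
    refine orderOf_eq_prime_iff.mpr ⟨by rw [pow_two, htdef, ← QuotientGroup.mk_mul, hzz]; rfl, fun h => ?_⟩
    have := orderOf_dvd_natCard (⟨_, (QuotientGroup.eq_one_iff _).mp h⟩ : N)
    rw [Subgroup.orderOf_mk, hzord, hNcard] at this
    omega
  -- the centraliser of the image of `z`
  set CX : Subgroup (D ⧸ N) := Subgroup.centralizer {t} with hCX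
  let ψ : W →* CX := ((QuotientGroup.mk' N).comp emb).codRestrict CX fun w => by
    rw [hCX, Subgroup.mem_centralizer_singleton_iff]
    show QuotientGroup.mk' N (emb w) * QuotientGroup.mk' N (emb ⟨K.cov.z, hzW⟩) =
      QuotientGroup.mk' N (emb ⟨K.cov.z, hzW⟩) * QuotientGroup.mk' N (emb w)
    rw [← map_mul, ← map_mul, ← map_mul, ← map_mul]
    congr 2
    exact Subtype.ext (K.cov.central _)
  have hψ : ∀ w, ((ψ w : CX) : D ⧸ N) = QuotientGroup.mk (emb w) := fun w => rfl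
  have hψs : Function.Surjective ψ := by
    rintro ⟨x, hx⟩
    obtain ⟨g, rfl⟩ := QuotientGroup.mk_surjective x
    rw [hCX, Subgroup.mem_centralizer_singleton_iff, htdef, ← QuotientGroup.mk_mul,
      ← QuotientGroup.mk_mul, QuotientGroup.eq] at hx
    obtain ⟨i, hi⟩ := Subgroup.mem_zpowers_iff.mp hx
    have hi' : ((g : G) * K.z)⁻¹ * (K.z * g) = (d : G) ^ i := by
      have := congrArg (fun y : D => (y : G)) hi
      simp only [Subgroup.coe_mul, InvMemClass.coe_inv, SubgroupClass.coe_zpow] at this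
      rw [this]
      simp [emb, K.cov_z]
    have hcd : Commute K.z (d : G) := (Subgroup.mem_centralizer_singleton_iff.mp d.2).symm
    have hcg : Commute (g : G) (d : G) := Subgroup.mem_centralizer_singleton_iff.mp g.2
    have hz2 : K.z * K.z = 1 := by rw [← pow_two, ← K.hz, pow_orderOf_eq_one]
    have hzi : K.z⁻¹ = K.z := inv_eq_of_mul_eq_one_right hz2
    have h1 : (g : G)⁻¹ * K.z * g = K.z * (d : G) ^ i := by
      rw [← hi', mul_inv_rev, hzi]
      calc (g : G)⁻¹ * K.z * g = (K.z * K.z) * ((g : G)⁻¹ * K.z * g) := by rw [hz2, one_mul]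
        _ = _ := by group
    have h2 : ((d : G) ^ i) ^ 2 = 1 := by
      have e1 : (K.z * (d : G) ^ i) ^ 2 = 1 := by
        rw [← h1, pow_two]
        calc (g : G)⁻¹ * K.z * g * ((g : G)⁻¹ * K.z * g) = (g : G)⁻¹ * (K.z * K.z) * g := by group
          _ = 1 := by rw [hz2]; group
      rwa [(hcd.zpow_right i).mul_pow, pow_two K.z, hz2, one_mul] at e1
    have h3 : (d : G) ^ i = 1 := by
      have e3 : ((d : G) ^ i) ^ 3 = 1 := by
        rw [← zpow_natCast, ← zpow_mul, mul_comm, zpow_mul, zpow_natCast,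
          show (d : G) ^ 3 = 1 by rw [← hdo, ← Subgroup.orderOf_coe, pow_orderOf_eq_one], one_zpow]
      rwa [pow_succ, h2, one_mul] at e3
    rw [h3, mul_one] at h1
    have hgz : (g : G) ∈ Subgroup.centralizer ({K.z} : Set G) := by
      rw [Subgroup.mem_centralizer_singleton_iff]
      calc (g : G) * K.z = g * ((g : G)⁻¹ * K.z * g) := by rw [h1]
        _ = K.z * g := by group
    have hgW : (⟨(g : G), hgz⟩ : Subgroup.centralizer ({K.z} : Set G)) ∈ W :=
      Subgroup.mem_centralizer_singleton_iff.mpr (Subtype.ext hcg.eq)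
    exact ⟨⟨_, hgW⟩, Subtype.ext rfl⟩
  have hψk : ψ.ker ≤ π.ker := by
    intro w hw
    have h1 : emb w ∈ N := (QuotientGroup.eq_one_iff _).mp (congrArg Subtype.val (MonoidHom.mem_ker.mp hw))
    obtain ⟨i, hi⟩ := Subgroup.mem_zpowers_iff.mp h1
    have hdW : d ∈ W := Subgroup.mem_centralizer_singleton_iff.mpr rfl
    have hw' : w = (⟨d, hdW⟩ : W) ^ i := hemb (by rw [← hi, map_zpow]; rfl)
    have hdπ : π ⟨d, hdW⟩ = 1 := by
      refine Ten.model_facts.2.2.1 _ ?_ fun m => ?_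
      · rw [← map_mul, ← map_mul, ← map_one π]
        congr 1
        refine Subtype.ext ?_
        show d * d * d = 1
        rw [← pow_three', ← hdo, pow_orderOf_eq_one]
      · obtain ⟨v, rfl⟩ := hπs m
        rw [← map_mul, ← map_mul]
        congr 1
        exact Subtype.ext (Subgroup.mem_centralizer_singleton_iff.mp v.2).symm
    rw [MonoidHom.mem_ker, hw', map_zpow, hdπ, one_zpow]
  let ρ : CX →* GLThree := ψ.liftOfSurjective hψs ⟨π, hψk⟩
  have hρ : ∀ w, ρ (ψ w) = π w := fun w => ψ.liftOfRightInverse_comp_apply _ _ ⟨π, hψk⟩ w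
  have hρs : Function.Surjective ρ := fun m => by
    obtain ⟨w, rfl⟩ := hπs m
    exact ⟨ψ w, hρ w⟩
  have hρt : ρ ⟨t, Subgroup.mem_centralizer_singleton_iff.mpr rfl⟩ = negOne := by
    rw [show (⟨t, Subgroup.mem_centralizer_singleton_iff.mpr rfl⟩ : CX) = ψ ⟨K.cov.z, hzW⟩ from
      Subtype.ext rfl, hρ]
    exact hπz _
  -- the orders
  have hcardGL : Nat.card GLThree = 48 := by rw [Nat.card_eq_fintype_card]; decide +kernel
  have hWcard : Nat.card W = 432 := by
    rw [← π.ker.card_mul_index, Subgroup.index_ker, MonoidHom.range_eq_top.mpr hπs, Subgroup.card_top,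
      hπk, hcardGL]
  have hψkcard : Nat.card ψ.ker = 3 := by
    have hdW : d ∈ W := Subgroup.mem_centralizer_singleton_iff.mpr rfl
    have : ψ.ker = Subgroup.zpowers (⟨d, hdW⟩ : W) := by
      refine le_antisymm (fun w hw => ?_) ?_
      · have h1 : emb w ∈ N :=
          (QuotientGroup.eq_one_iff _).mp (congrArg Subtype.val (MonoidHom.mem_ker.mp hw))
        obtain ⟨i, hi⟩ := Subgroup.mem_zpowers_iff.mp h1
        exact ⟨i, hemb (by rw [← hi, map_zpow]; rfl)⟩
      · rw [Subgroup.zpowers_le, MonoidHom.mem_ker]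
        exact Subtype.ext ((QuotientGroup.eq_one_iff _).mpr (Subgroup.mem_zpowers _))
    rw [this, Nat.card_zpowers, ← Subgroup.orderOf_coe]; exact hdo
  have hCXcard : Nat.card CX = 144 := by
    have := ψ.ker.card_mul_index
    rw [Subgroup.index_ker, MonoidHom.range_eq_top.mpr hψs, Subgroup.card_top, hψkcard, hWcard] at this
    omega
  have hρk : Nat.card ρ.ker = 3 := by
    have := ρ.ker.card_mul_index
    rw [Subgroup.index_ker, MonoidHom.range_eq_top.mpr hρs, Subgroup.card_top, hcardGL, hCXcard] at this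
    omega
  have hDX : Nat.card D = Nat.card (D ⧸ N) * 3 := by
    rw [Subgroup.card_eq_card_quotient_mul_card_subgroup N, hNcard]
  have h144 : 144 ∣ Nat.card (D ⧸ N) := hCXcard ▸ Subgroup.card_subgroup_dvd_card CX
  have h27 : ¬ 27 ∣ Nat.card (D ⧸ N) := fun h => h81 (by
    show 81 ∣ Nat.card D
    rw [hDX]
    obtain ⟨j, hj⟩ := h
    exact ⟨j, by rw [hj]; ring⟩)
  -- a Sylow two subgroup inside the centraliser
  obtain ⟨a₀, ha₀⟩ := hρs genEight
  set a : CX := a₀ ^ 3 with ha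
  have haimg : ρ a = genEight * genEight * genEight := by rw [ha, map_pow, ha₀, pow_three']
  have ha8 : a ^ 8 = 1 := by
    have h1 : a₀ ^ 8 ∈ ρ.ker := by rw [MonoidHom.mem_ker, map_pow, ha₀, Ten.model_facts.2.2.2.2.2]
    have h2 := pow_card_eq_one' (x := (⟨_, h1⟩ : ρ.ker))
    rw [hρk] at h2
    have h3 : (a₀ ^ 8) ^ 3 = 1 := congrArg Subtype.val h2
    rwa [ha, ← pow_mul, show 3 * 8 = 8 * 3 from rfl, pow_mul]
  have ha4 : a ^ 4 = ⟨t, Subgroup.mem_centralizer_singleton_iff.mpr rfl⟩ := by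
    set T : CX := ⟨t, Subgroup.mem_centralizer_singleton_iff.mpr rfl⟩
    have hTT : T * T = 1 := Subtype.ext (show t * t = 1 by rw [← pow_two, ← ht, pow_orderOf_eq_one])
    have hc : Commute (a ^ 4) T := Subtype.ext (Subgroup.mem_centralizer_singleton_iff.mp (a ^ 4).2)
    have hy : a ^ 4 * T ∈ ρ.ker := by
      rw [MonoidHom.mem_ker, map_mul, map_pow, haimg, hρt, Ten.model_facts.2.2.2.2.1, Ten.model_facts.1]
    have h2 := pow_card_eq_one' (x := (⟨_, hy⟩ : ρ.ker))
    rw [hρk] at h2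
    have h3 : (a ^ 4 * T) ^ 3 = 1 := congrArg Subtype.val h2
    have h4 : (a ^ 4 * T) ^ 2 = 1 := by
      rw [hc.mul_pow, pow_two T, hTT, mul_one, ← pow_mul, ha8]
    rw [pow_succ, h4, one_mul] at h3
    rw [eq_inv_of_mul_eq_one_left h3, inv_eq_of_mul_eq_one_right hTT]
  have hta : t ∈ Subgroup.zpowers (a : D ⧸ N) :=
    ⟨4, by
      show (a : D ⧸ N) ^ (4 : ℤ) = t
      rw [zpow_ofNat, ← SubgroupClass.coe_pow, ha4]⟩
  have hpa : IsPGroup 2 (Subgroup.zpowers (a : D ⧸ N)) := by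
    have hdvd : orderOf (a : D ⧸ N) ∣ 2 ^ 3 := orderOf_dvd_of_pow_eq_one
      (by show (a : D ⧸ N) ^ 8 = 1; rw [← SubgroupClass.coe_pow, ha8]; rfl)
    obtain ⟨j, -, hj⟩ := (Nat.dvd_prime_pow Nat.prime_two).mp hdvd
    exact IsPGroup.of_card (n := j) (by rw [Nat.card_zpowers, hj])
  obtain ⟨P, hPC, -⟩ := exists_sylow_le_centralizer ht hta hpa fun y hy hya hy2 => by
    have hyy : (⟨y, hy⟩ : CX) * ⟨y, hy⟩ = 1 :=
      Subtype.ext (show y * y = 1 by rw [← pow_two, ← hy2, pow_orderOf_eq_one])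
    have hyk : ρ ⟨y, hy⟩ ≠ 1 := fun h => by
      have h2 := pow_card_eq_one' (x := (⟨_, MonoidHom.mem_ker.mpr h⟩ : ρ.ker))
      rw [hρk] at h2
      have h3 : (⟨y, hy⟩ : CX) ^ 3 = 1 := congrArg Subtype.val h2
      rw [pow_succ, pow_two, hyy, one_mul] at h3
      have h4 : y = 1 := congrArg Subtype.val h3
      rw [h4, orderOf_one] at hy2
      omega
    have hcm : ρ ⟨y, hy⟩ * (genEight * genEight * genEight) = genEight * genEight * genEight * ρ ⟨y, hy⟩ := by
      rw [← haimg, ← map_mul, ← map_mul]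
      exact congrArg ρ (Subtype.ext hya)
    rcases Ten.model_facts.2.2.2.1 _ hcm (by rw [← map_mul, hyy, map_one]) with h | h
    · exact absurd h hyk
    · set T : CX := ⟨t, Subgroup.mem_centralizer_singleton_iff.mpr rfl⟩
      have hTT : T * T = 1 := Subtype.ext (show t * t = 1 by rw [← pow_two, ← ht, pow_orderOf_eq_one])
      have hc : Commute (⟨y, hy⟩ : CX) T := Subtype.ext (Subgroup.mem_centralizer_singleton_iff.mp hy)
      have hk : (⟨y, hy⟩ : CX) * T ∈ ρ.ker := by rw [MonoidHom.mem_ker, map_mul, h, hρt, Ten.model_facts.1]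
      have h2 := pow_card_eq_one' (x := (⟨_, hk⟩ : ρ.ker))
      rw [hρk] at h2
      have h3 : ((⟨y, hy⟩ : CX) * T) ^ 3 = 1 := congrArg Subtype.val h2
      rw [pow_succ, hc.mul_pow, pow_two, pow_two, hyy, hTT, one_mul, one_mul] at h3
      have h4 := eq_inv_of_mul_eq_one_left h3
      rw [inv_eq_of_mul_eq_one_right hTT] at h4
      exact congrArg Subtype.val h4
  haveI : Fact (Nat.Prime 2) := ⟨Nat.prime_two⟩
  obtain ⟨j, hj⟩ := IsPGroup.iff_card.mp P.isPGroup'
  have hj144 : 2 ^ j ∣ 144 := hj ▸ hCXcard ▸ Subgroup.card_dvd_of_le hPC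
  have h32 : ¬ 32 ∣ Nat.card (D ⧸ N) := fun h => by
    have h1 := P.pow_dvd_card_of_pow_dvd_card (n := 5) h
    have h2 : (32 : ℕ) ∣ 144 := (hj ▸ h1).trans hj144
    omega
  -- one class of involutions
  have hin : ∀ u : D ⧸ N, u ∈ CX → orderOf u = 2 → IsConj u t := by
    intro u hu hu2
    obtain ⟨w, hw⟩ := hψs ⟨u, hu⟩
    have huu : (⟨u, hu⟩ : CX) * ⟨u, hu⟩ = 1 :=
      Subtype.ext (show u * u = 1 by rw [← pow_two, ← hu2, pow_orderOf_eq_one])
    have hwk : w * w ∈ ψ.ker := by rw [MonoidHom.mem_ker, map_mul, hw, huu]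
    have h2 := pow_card_eq_one' (x := (⟨_, hwk⟩ : ψ.ker))
    rw [hψkcard] at h2
    have h3 : (w * w) ^ 3 = 1 := congrArg Subtype.val h2
    have hw3 : ψ (w ^ 3) = ⟨u, hu⟩ := by rw [map_pow, hw, pow_succ, pow_two, huu, one_mul]
    have hu1 : u ≠ 1 := fun e => by rw [e, orderOf_one] at hu2; omega
    have hv2 : orderOf ((w ^ 3 : W) : Subgroup.centralizer ({K.z} : Set G)) = 2 := by
      rw [Subgroup.orderOf_coe]
      refine orderOf_eq_prime_iff.mpr ⟨?_, fun e => hu1 ?_⟩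
      · rw [← pow_mul, show 3 * 2 = 2 * 3 from rfl, pow_mul, pow_two, h3]
      · rw [e, map_one] at hw3
        exact (congrArg Subtype.val hw3).symm
    have hu' : u = QuotientGroup.mk (emb (w ^ 3)) := by
      rw [← hψ, hw3]
    by_cases hvz : ((w ^ 3 : W) : Subgroup.centralizer ({K.z} : Set G)) = K.cov.z
    · rw [hu', show (w ^ 3 : W) = ⟨K.cov.z, hzW⟩ from Subtype.ext hvz]
    · obtain ⟨g, hgd, hg⟩ := hfus _ hv2 hvz (Subgroup.mem_centralizer_singleton_iff.mp (w ^ 3).2)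
      refine isConj_iff.mpr ⟨QuotientGroup.mk (⟨g, Subgroup.mem_centralizer_singleton_iff.mpr hgd⟩ : D), ?_⟩
      rw [hu', htdef, ← QuotientGroup.mk_inv, ← QuotientGroup.mk_mul, ← QuotientGroup.mk_mul]
      congr 1
      refine Subtype.ext ?_
      show g * _ * g⁻¹ = _
      rw [show ((emb ⟨K.cov.z, hzW⟩ : D) : G) = K.z from K.cov_z]
      exact hg
  have hconj : ∀ u : D ⧸ N, orderOf u = 2 → IsConj u t := by
    intro u hu
    obtain ⟨Q, hQ⟩ := (IsPGroup.of_card (p := 2) (n := 1)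
      (by rw [Nat.card_zpowers, hu, pow_one]) : IsPGroup 2 (Subgroup.zpowers u)).exists_le_sylow
    obtain ⟨g, rfl⟩ := MulAction.exists_smul_eq (D ⧸ N) P Q
    have hmem := hQ (Subgroup.mem_zpowers u)
    rw [Sylow.coe_subgroup_smul, Subgroup.mem_pointwise_smul_iff_inv_smul_mem] at hmem
    have hmem' : g⁻¹ * u * g ∈ CX := by
      simpa using hPC hmem
    have hc := hin _ hmem' (by
      rw [show g⁻¹ * u * g = MulAut.conj g⁻¹ u by simp, MulEquiv.orderOf_eq, hu])
    exact (isConj_iff.mpr ⟨g⁻¹, by simp⟩ : IsConj u (g⁻¹ * u * g)).trans hc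
  haveI : Fintype (D ⧸ N) := Fintype.ofFinite _
  haveI : Fintype CX := Fintype.ofFinite _
  exact Ten.no_cover (t := t) ρ hρs hρk ht hρt hconj ((show 16 ∣ 144 by norm_num).trans h144) h32
    ((show 9 ∣ 144 by norm_num).trans h144) h27

end Cfsg.Agent.Lib.DoubleAlt12
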