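import Cfsg.Agent.Lib.DoubleAlt12.TenSpec
import Cfsg.Agent.Lib.DoubleAlt12.Cover
import Cfsg.Agent.Lib.TwoRankInter.QuatEight

/-!
# S1645, degree ten: the centraliser of a product of two three cycles in the double cover

In the double cover of `Alt 10` this centraliser is the product of a normal subgroup of order nine and a
complement isomorphic to `GL(2,3)`: the complement is the preimage of a copy of `Sym 4`, which moves the four
fixed points and, for odd permutations, exchanges the two three cycles.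
-/

set_option autoImplicit false

namespace Cfsg.Agent.Lib.DoubleAlt12

open Equiv Equiv.Perm Cfsg.Agent.Lib.InvCentralizer Cfsg.Agent.Lib.TwoRankInter

universe u v

namespace TenModel

/-- The first three cycle. -/
def sg : Perm (Fin 10) := swap 0 1 * swap 0 2

/-- The second three cycle. -/
def ta : Perm (Fin 10) := swap 3 4 * swap 3 5

/-- The product of the two three cycles. -/
def d0 : Perm (Fin 10) := sg * ta

/-- An odd permutation exchanging the two three cycles. -/
def w0 : Perm (Fin 10) := swap 0 3 * swap 1 4 * swap 2 5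

/-- The four fixed points. -/
def fixPt (i : Fin 4) : Fin 10 := Fin.natAdd 6 i

/-- The exchange attached to the parity. -/
def sgnPart (p : Perm (Fin 4)) : Perm (Fin 10) := if sign p = 1 then 1 else w0

/-- The action on the fixed points. -/
def emb (p : Perm (Fin 4)) : Perm (Fin 10) :=
  (finSumFinEquiv (m := 6) (n := 4)).permCongr (Equiv.sumCongr (1 : Perm (Fin 6)) p)

/-- The section. -/
def secFun (p : Perm (Fin 4)) : Perm (Fin 10) := sgnPart p * emb p

set_option maxRecDepth 100000 in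
theorem secFun_mul : ∀ p q, secFun (p * q) = secFun p * secFun q := by decide +kernel

/-- The section as a homomorphism. -/
def sec : Perm (Fin 4) →* Perm (Fin 10) := MonoidHom.mk' secFun secFun_mul

theorem secFun_ker : ∀ p, secFun p = 1 → p = 1 := by decide +kernel

theorem sec_injective : Function.Injective sec :=
  (injective_iff_map_eq_one sec).2 secFun_ker

theorem secFun_sign : ∀ p, sign (secFun p) = 1 := by decide +kernel

theorem secFun_comm : ∀ p, secFun p * d0 = d0 * secFun p := by decide +kernel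

theorem secFun_fixPt : ∀ p i, secFun p (fixPt i) = fixPt (p i) := by decide +kernel

theorem fixPt_injective : ∀ i j, fixPt i = fixPt j → i = j := by decide +kernel

theorem exists_fixPt : ∀ x : Fin 10, 6 ≤ x → ∃ i, fixPt i = x := by decide +kernel

theorem fixPt_ge : ∀ i, (6 : Fin 10) ≤ fixPt i := by decide +kernel

theorem d0_fix_iff : ∀ x : Fin 10, d0 x = x ↔ 6 ≤ x := by decide +kernel

/-- The elements of the kernel part. -/
def spart (i j : Fin 3) : Perm (Fin 10) := sg ^ i.val * ta ^ j.val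

theorem spart_comm : ∀ i j k l, spart i j * spart k l = spart k l * spart i j := by decide +kernel

theorem spart_sign : ∀ i j, sign (spart i j) = 1 := by decide +kernel

theorem spart_cube : ∀ i j, spart i j ^ 3 = 1 := by decide +kernel

theorem spart_fix : ∀ i j, ∀ x : Fin 10, 6 ≤ x → spart i j x = x := by decide +kernel

theorem spart_comm_d0 : ∀ i j, spart i j * d0 = d0 * spart i j := by decide +kernel

theorem spart_injective : ∀ i j k l, spart i j = spart k l → i = k ∧ j = l := by decide +kernel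

theorem spart_mul : ∀ i j k l, ∃ a b, spart i j * spart k l = spart a b := by decide +kernel

theorem d0_moves : ∀ x : Fin 10, ¬ 6 ≤ x →
    ∃ e : Fin 3, x = (d0 ^ e.val) 0 ∨ x = (d0 ^ e.val) 3 := by decide +kernel

theorem candidates : ∀ a b : Fin 10, ¬ 6 ≤ a → ¬ 6 ≤ b → b ≠ a → b ≠ d0 a → b ≠ d0 (d0 a) →
    ∃ i j : Fin 3, ∃ k : Fin 2, (spart i j * w0 ^ k.val) 0 = a ∧ (spart i j * w0 ^ k.val) 3 = b := by
  decide +kernel

theorem w0_facts : sign w0 = -1 ∧ w0 * d0 = d0 * w0 ∧ ∀ x : Fin 10, 6 ≤ x → w0 x = x := by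
  decide +kernel

theorem d0_three : d0 3 ≠ 0 ∧ (3 : Fin 10) ≠ 0 ∧ (3 : Fin 10) ≠ d0 0 ∧ (3 : Fin 10) ≠ d0 (d0 0) ∧
    ¬ (6 : Fin 10) ≤ 0 ∧ ¬ (6 : Fin 10) ≤ 3 := by
  decide +kernel

theorem preserves {p : Perm (Fin 10)} (hp : Commute p d0) (x : Fin 10) : 6 ≤ p x ↔ 6 ≤ x := by
  rw [← d0_fix_iff, ← d0_fix_iff, ← Perm.mul_apply, ← hp.eq, Perm.mul_apply, p.injective.eq_iff]

/-- An even permutation commuting with the product of the two cycles and fixing the four points. -/
theorem eq_spart {p : Perm (Fin 10)} (hp : Commute p d0) (hs : sign p = 1)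
    (hfix : ∀ x : Fin 10, 6 ≤ x → p x = x) : ∃ i j, p = spart i j := by
  have hap : ∀ x, p (d0 x) = d0 (p x) := fun x => by
    rw [← Perm.mul_apply, hp.eq, Perm.mul_apply]
  have hne := d0_three
  obtain ⟨i, j, k, h0, h3⟩ := candidates (p 0) (p 3)
    (fun h => hne.2.2.2.2.1 ((preserves hp 0).1 h)) (fun h => hne.2.2.2.2.2 ((preserves hp 3).1 h))
    (fun h => hne.2.1 (p.injective h))
    (fun h => hne.2.2.1 (p.injective (h.trans (hap 0).symm)))
    (fun h => hne.2.2.2.1 (p.injective (h.trans (by rw [← hap, ← hap]))))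
  set r : Perm (Fin 10) := spart i j * w0 ^ k.val with hr
  have hrc : Commute r d0 := (Commute.mul_left (spart_comm_d0 i j) ((Commute.pow_left w0_facts.2.1) _))
  have heq : p = r := by
    refine Equiv.ext fun x => ?_
    by_cases hx : (6 : Fin 10) ≤ x
    · rw [hfix x hx, hr, Perm.mul_apply]
      have : (w0 ^ k.val) x = x := by
        fin_cases k <;> simp [w0_facts.2.2 x hx]
      rw [this, spart_fix i j x hx]
    · obtain ⟨e, rfl | rfl⟩ := d0_moves x hx
      · rw [← Perm.mul_apply, (hp.pow_right _).eq, ← Perm.mul_apply r, (hrc.pow_right _).eq,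
          Perm.mul_apply, Perm.mul_apply, h0]
      · rw [← Perm.mul_apply, (hp.pow_right _).eq, ← Perm.mul_apply r, (hrc.pow_right _).eq,
          Perm.mul_apply, Perm.mul_apply, h3]
  refine ⟨i, j, ?_⟩
  have hk : k = 0 := by
    by_contra hk
    have h1 : k.val = 1 := by omega
    rw [heq, hr, Perm.sign_mul, spart_sign, map_pow, h1, pow_one, w0_facts.1] at hs
    exact absurd hs (by decide)
  rw [heq, hr, hk]
  simp

/-- The decomposition of the centraliser. -/
theorem decompose {p : Perm (Fin 10)} (hp : Commute p d0) (hs : sign p = 1) :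
    ∃ i j q, p = spart i j * secFun q := by
  have hex : ∀ i : Fin 4, ∃ k : Fin 4, fixPt k = p (fixPt i) := fun i =>
    exists_fixPt _ ((preserves hp _).2 (fixPt_ge i))
  choose f hf using hex
  have hfi : Function.Injective f := fun a b hab =>
    fixPt_injective a b (p.injective (by rw [← hf, ← hf, hab]))
  set q : Perm (Fin 4) := Equiv.ofBijective f (Finite.injective_iff_bijective.1 hfi) with hq
  have hinv : (secFun q)⁻¹ = secFun q⁻¹ := (map_inv sec q).symm
  obtain ⟨i, j, hij⟩ := eq_spart (p := p * (secFun q)⁻¹)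
    (hp.mul_left (Commute.inv_left (secFun_comm q)))
    (by rw [Perm.sign_mul, hinv, secFun_sign, hs, mul_one])
    (fun x hx => by
      obtain ⟨k, rfl⟩ := exists_fixPt x hx
      rw [hinv, Perm.mul_apply, secFun_fixPt, ← hf]
      exact congrArg fixPt (q.apply_symm_apply k))
  exact ⟨i, j, q, by rw [← hij, inv_mul_cancel_right]⟩

/-- The four group of `Sym 4`. -/
def fourGroup : Subgroup (Perm (Fin 4)) where
  carrier := {p | p * p = 1 ∧ sign p = 1}
  one_mem' := ⟨mul_one 1, sign_one⟩
  mul_mem' {a b} ha hb :=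
    (show ∀ a b : Perm (Fin 4), a * a = 1 ∧ sign a = 1 → b * b = 1 ∧ sign b = 1 →
      a * b * (a * b) = 1 ∧ sign (a * b) = 1 by decide +kernel) a b ha hb
  inv_mem' {a} ha :=
    (show ∀ a : Perm (Fin 4), a * a = 1 ∧ sign a = 1 → a⁻¹ * a⁻¹ = 1 ∧ sign a⁻¹ = 1 by
      decide +kernel) a ha

theorem mem_fourGroup {p : Perm (Fin 4)} : p ∈ fourGroup ↔ p * p = 1 ∧ sign p = 1 := Iff.rfl

theorem fourGroup_normal : fourGroup.Normal :=
  ⟨fun n hn g => (show ∀ n g : Perm (Fin 4), n * n = 1 ∧ sign n = 1 →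
      g * n * g⁻¹ * (g * n * g⁻¹) = 1 ∧ sign (g * n * g⁻¹) = 1 by decide +kernel) n g hn⟩

/-- First generator of the four group. -/
def v1 : Perm (Fin 4) := swap 0 1 * swap 2 3

/-- Second generator of the four group. -/
def v2 : Perm (Fin 4) := swap 0 2 * swap 1 3

/-- A three cycle. -/
def gam : Perm (Fin 4) := swap 0 1 * swap 0 2

/-- A transposition. -/
def del : Perm (Fin 4) := swap 0 1

/-- The images of the quaternion group. -/
def quatImg : QuaternionGroup 2 → Perm (Fin 4)
  | .a k => v1 ^ k.val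
  | .xa k => v2 * v1 ^ k.val

/-- The images of the dihedral group. -/
def dihImg : DihedralGroup 3 → Perm (Fin 4)
  | .r k => gam ^ k.val
  | .sr k => del * gam ^ k.val

theorem quatImg_mem : ∀ x, quatImg x * quatImg x = 1 ∧ sign (quatImg x) = 1 := by decide +kernel

theorem quatImg_ker : ∀ x, quatImg x = 1 → x = .a 0 ∨ x = .a 2 := by decide +kernel

theorem quatImg_surj : ∀ p : Perm (Fin 4), p * p = 1 ∧ sign p = 1 → ∃ x, quatImg x = p := by
  decide +kernel

theorem quatImg_two : ∀ x : QuaternionGroup 2, quatImg (.a 2 * x) = quatImg x := by decide +kernel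

theorem dihImg_four : ∀ x, dihImg x * dihImg x = 1 ∧ sign (dihImg x) = 1 → x = .r 0 := by
  decide +kernel

theorem dihImg_surj : ∀ p : Perm (Fin 4), ∃ x, (p * (dihImg x)⁻¹) * (p * (dihImg x)⁻¹) = 1 ∧
    sign (p * (dihImg x)⁻¹) = 1 := by
  decide +kernel

theorem cent_four : ∀ p : Perm (Fin 4), p * v1 = v1 * p → p * v2 = v2 * p →
    p * p = 1 ∧ sign p = 1 := by
  decide +kernel

theorem gam_rel : del * gam⁻¹ * del⁻¹ = gam ∧ gam ^ 3 = 1 := by decide +kernel

section Lifts

variable {H : Type v} [Group H]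

/-- Powers indexed by residues. -/
def zpw {m : ℕ} (I : H) (k : ZMod m) : H := I ^ k.val

theorem zpw_add {m : ℕ} [NeZero m] {I : H} (h : I ^ m = 1) (a b : ZMod m) :
    zpw I (a + b) = zpw I a * zpw I b := by
  rw [zpw, zpw, zpw, ← pow_add, ZMod.val_add, ← pow_eq_pow_mod _ h]

theorem zpw_neg {m : ℕ} [NeZero m] {I : H} (h : I ^ m = 1) (a : ZMod m) :
    zpw I (-a) = (zpw I a)⁻¹ := by
  refine eq_inv_of_mul_eq_one_left ?_
  rw [← zpw_add h, neg_add_cancel, zpw, ZMod.val_zero, pow_zero]

theorem zpw_swap {m : ℕ} [NeZero m] {I J : H} (h : I ^ m = 1) (hc : I * J = J * I⁻¹) (a : ZMod m) :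
    zpw I a * J = J * zpw I (-a) := by
  have hs : SemiconjBy J I⁻¹ I := hc.symm
  rw [zpw_neg h, zpw, ← inv_pow]
  exact (hs.pow_right a.val).symm

/-- The map of the quaternion group given by two elements. -/
def quatFn (I J : H) : QuaternionGroup 2 → H
  | .a k => zpw I k
  | .xa k => J * zpw I k

theorem quatFn_mul {I J : H} (h1 : I ^ 4 = 1) (h2 : J * J = I ^ 2) (h3 : I * J = J * I⁻¹)
    (x y : QuaternionGroup 2) : quatFn I J (x * y) = quatFn I J x * quatFn I J y := by
  have : NeZero (2 * 2) := ⟨by norm_num⟩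
  have h1' : I ^ (2 * 2) = 1 := h1
  cases x with
  | a i =>
    cases y with
    | a j => simp only [QuaternionGroup.a_mul_a, quatFn, zpw_add h1']
    | xa j =>
      simp only [QuaternionGroup.a_mul_xa, quatFn]
      rw [← mul_assoc, zpw_swap h1' h3, mul_assoc, ← zpw_add h1', neg_add_eq_sub]
  | xa i =>
    cases y with
    | a j => simp only [QuaternionGroup.xa_mul_a, quatFn, zpw_add h1', mul_assoc]
    | xa j =>
      simp only [QuaternionGroup.xa_mul_xa, quatFn]
      rw [mul_assoc J (zpw I i), ← mul_assoc (zpw I i) J, zpw_swap h1' h3, ← mul_assoc,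
        ← mul_assoc, h2, mul_assoc, ← zpw_add h1', neg_add_eq_sub, add_sub_assoc, zpw_add h1']
      rfl

/-- The map of the dihedral group of order six given by two elements. -/
def dihFn (I J : H) : DihedralGroup 3 → H
  | .r k => zpw I k
  | .sr k => J * zpw I k

theorem dihFn_mul {I J : H} (h1 : I ^ 3 = 1) (h2 : J * J = 1) (h3 : I * J = J * I⁻¹)
    (x y : DihedralGroup 3) : dihFn I J (x * y) = dihFn I J x * dihFn I J y := by
  cases x with
  | r i =>
    cases y with
    | r j => simp only [DihedralGroup.r_mul_r, dihFn, zpw_add h1]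
    | sr j =>
      simp only [DihedralGroup.r_mul_sr, dihFn]
      rw [← mul_assoc, zpw_swap h1 h3, mul_assoc, ← zpw_add h1, neg_add_eq_sub]
  | sr i =>
    cases y with
    | r j => simp only [DihedralGroup.sr_mul_r, dihFn, zpw_add h1, mul_assoc]
    | sr j =>
      simp only [DihedralGroup.sr_mul_sr, dihFn]
      rw [mul_assoc J (zpw I i), ← mul_assoc (zpw I i) J, zpw_swap h1 h3, ← mul_assoc,
        ← mul_assoc, h2, one_mul, ← zpw_add h1, neg_add_eq_sub]

end Lifts

section Cover

variable {C : Type u} [Group C] (c : Cov C 10)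

/-- The complement: the preimage of the section. -/
def hsub : Subgroup C := sec.range.comap c.φ

/-- The projection of the complement. -/
noncomputable def rho : hsub c →* Perm (Fin 4) :=
  (MonoidHom.ofInjective sec_injective).symm.toMonoidHom.comp (c.φ.subgroupComap sec.range)

theorem sec_rho (h : hsub c) : secFun (rho c h) = c.φ (h : C) :=
  congrArg Subtype.val
    ((MonoidHom.ofInjective sec_injective).apply_symm_apply (c.φ.subgroupComap sec.range h))

theorem rho_eq {h : hsub c} {p : Perm (Fin 4)} (e : c.φ (h : C) = secFun p) : rho c h = p :=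
  sec_injective ((sec_rho c h).trans e)

theorem exists_mem {p : Perm (Fin 4)} : ∃ h : hsub c, rho c h = p := by
  obtain ⟨g, hg⟩ := c.exists_lift (secFun_sign p)
  exact ⟨⟨g, ⟨p, hg.symm⟩⟩, rho_eq c hg⟩

/-- The central involution inside the complement. -/
def hz : hsub c := ⟨c.z, ⟨1, by rw [map_one, c.φ_z]⟩⟩

theorem rho_eq_iff {g h : hsub c} (e : rho c g = rho c h) : g = h ∨ g = hz c * h := by
  rcases c.eq_or_eq (g := (g : C)) (h := (h : C)) (by rw [← sec_rho, ← sec_rho, e]) with h1 | h1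
  · exact Or.inl (Subtype.ext h1)
  · exact Or.inr (Subtype.ext h1)

theorem exists_split [Finite C] : Nonempty (Split (hsub c)) := by
  have hv1 : IsDT (secFun v1) := ⟨6, 7, 8, 9, by decide, by decide +kernel⟩
  have hv2 : IsDT (secFun v2) := ⟨6, 8, 7, 9, by decide, by decide +kernel⟩
  have hv12 : IsDT (secFun v1 * secFun v2) := ⟨6, 9, 7, 8, by decide, by decide +kernel⟩
  obtain ⟨I, hI⟩ := exists_mem c (p := v1)
  obtain ⟨J, hJ⟩ := exists_mem c (p := v2)
  have hIφ : c.φ (I : C) = secFun v1 := by rw [← sec_rho, hI]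
  have hJφ : c.φ (J : C) = secFun v2 := by rw [← sec_rho, hJ]
  have hII : I * I = hz c := Subtype.ext (c.sq_dt _ (hIφ.symm ▸ hv1))
  have hJJ : J * J = hz c := Subtype.ext (c.sq_dt _ (hJφ.symm ▸ hv2))
  have hzz : hz c * hz c = 1 := Subtype.ext c.z_mul_self
  have hzc : ∀ h : hsub c, h * hz c = hz c * h := fun h => Subtype.ext (c.central h)
  have hI4 : I ^ 4 = 1 := by rw [pow_mul I 2 2, pow_two, pow_two, hII, hzz]
  have hIinv : I⁻¹ = hz c * I :=
    inv_eq_of_mul_eq_one_right (by rw [← mul_assoc, hzc, mul_assoc, hII, hzz])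
  have hIJ : I * J = J * I⁻¹ := by
    refine Subtype.ext ?_
    rw [hIinv, ← mul_assoc, hzc, mul_assoc]
    exact c.anti (hIφ.symm ▸ hv1) (hJφ.symm ▸ hv2) (by rw [hIφ, hJφ]; exact hv12)
  let qh : QuaternionGroup 2 →* hsub c :=
    MonoidHom.mk' (quatFn I J) (quatFn_mul hI4 (by rw [hJJ, pow_two, hII]) hIJ)
  have hq : ∀ x, rho c (qh x) = quatImg x := by
    intro x
    cases x with
    | a k =>
      show rho c (I ^ k.val) = v1 ^ k.val
      rw [map_pow, hI]
    | xa k =>
      show rho c (J * I ^ k.val) = v2 * v1 ^ k.val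
      rw [map_mul, map_pow, hI, hJ]
  have hq2 : qh (.a 2) = hz c := by
    show I ^ 2 = hz c
    rw [pow_two, hII]
  let U : Subgroup (hsub c) := fourGroup.comap (rho c)
  have hqU : ∀ x, qh x ∈ U := fun x => by
    show rho c (qh x) ∈ fourGroup
    rw [hq]; exact quatImg_mem x
  let qU : QuaternionGroup 2 →* U := qh.codRestrict U hqU
  have hbij : Function.Bijective qU := by
    refine ⟨(injective_iff_map_eq_one qU).2 fun x hx => ?_, fun w => ?_⟩
    · have hx' : qh x = 1 := congrArg Subtype.val hx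
      rcases quatImg_ker x (by rw [← hq, hx', map_one]) with rfl | rfl
      · rfl
      · rw [hq2] at hx'
        exact absurd (congrArg Subtype.val hx') c.z_ne_one
    · obtain ⟨x, hx⟩ := quatImg_surj _ w.2
      rcases rho_eq_iff c (g := (w : hsub c)) (h := qh x) (by rw [hq, hx]) with h1 | h1
      · exact ⟨x, Subtype.ext h1.symm⟩
      · refine ⟨.a 2 * x, Subtype.ext ?_⟩
        show qh (.a 2 * x) = w
        rw [map_mul, hq2, h1]
  -- the complement of order six
  have hgs : sign (secFun gam) = 1 := secFun_sign _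
  have hgo : Odd (orderOf (secFun gam)) := by
    refine Odd.of_dvd_nat (by decide : Odd 3) (orderOf_dvd_of_pow_eq_one ?_)
    rw [show secFun gam = sec gam from rfl, ← map_pow, gam_rel.2, map_one]
  obtain ⟨c0, hc0, hc0o⟩ := c.exists_odd_lift hgs hgo
  have hc03 : c0 ^ 3 = 1 := by
    refine orderOf_dvd_iff_pow_eq_one.1 (hc0o ▸ orderOf_dvd_of_pow_eq_one ?_)
    rw [show secFun gam = sec gam from rfl, ← map_pow, gam_rel.2, map_one]
  let A0 : hsub c := ⟨c0, ⟨gam, hc0.symm⟩⟩
  have hA0 : rho c A0 = gam := rho_eq c hc0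
  have hA03 : A0 ^ 3 = 1 := Subtype.ext hc03
  have hta : IsDT (swap 0 3 * swap 1 4 : Perm (Fin 10)) := ⟨0, 3, 1, 4, by decide, rfl⟩
  have htb : IsDT (swap 2 5 * swap 6 7 : Perm (Fin 10)) := ⟨2, 5, 6, 7, by decide, rfl⟩
  obtain ⟨ga, hga⟩ := c.exists_lift (a := swap 0 3 * swap 1 4) (by decide +kernel)
  obtain ⟨gb, hgb⟩ := c.exists_lift (a := swap 2 5 * swap 6 7) (by decide +kernel)
  have hdab : (c.φ ga).Disjoint (c.φ gb) := by
    rw [hga, hgb]
    exact (show ∀ x : Fin 10, (swap 0 3 * swap 1 4 : Perm (Fin 10)) x = x ∨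
      (swap 2 5 * swap 6 7 : Perm (Fin 10)) x = x by decide +kernel)
  have htt : (ga * gb) * (ga * gb) = 1 := by
    rw [(c.commute_of_disjoint hdab).symm.mul_mul_mul_comm, c.sq_dt _ (hga.symm ▸ hta),
      c.sq_dt _ (hgb.symm ▸ htb), c.z_mul_self]
  have htdel : c.φ (ga * gb) = secFun del := by
    rw [map_mul, hga, hgb]; decide +kernel
  let T : hsub c := ⟨ga * gb, ⟨del, htdel.symm⟩⟩
  have hT : rho c T = del := rho_eq c htdel
  have hTT : T * T = 1 := Subtype.ext htt
  have hAT : A0 * T = T * A0⁻¹ := by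
    have h3 : (T * A0⁻¹ * T⁻¹) ^ 3 = 1 := by rw [conj_pow, inv_pow, hA03, inv_one, mul_one, mul_inv_cancel]
    have ho : ∀ {g : hsub c}, g ^ 3 = 1 → Odd (orderOf (g : C)) := fun {g} hg =>
      Odd.of_dvd_nat (by decide : Odd 3) (orderOf_dvd_of_pow_eq_one (congrArg Subtype.val hg))
    have heq : T * A0⁻¹ * T⁻¹ = A0 := by
      refine Subtype.ext (c.odd_lift_unique (ho h3) (ho hA03) ?_)
      rw [← sec_rho, ← sec_rho, map_mul, map_mul, map_inv, map_inv, hT, hA0, gam_rel.1]
    calc A0 * T = T * A0⁻¹ * T⁻¹ * T := by rw [heq]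
      _ = T * A0⁻¹ := inv_mul_cancel_right _ _
  let dh : DihedralGroup 3 →* hsub c := MonoidHom.mk' (dihFn A0 T) (dihFn_mul hA03 hTT hAT)
  have hd : ∀ x, rho c (dh x) = dihImg x := by
    intro x
    cases x with
    | r k =>
      show rho c (A0 ^ k.val) = gam ^ k.val
      rw [map_pow, hA0]
    | sr k =>
      show rho c (T * A0 ^ k.val) = del * gam ^ k.val
      rw [map_mul, map_pow, hA0, hT]
  have hdinj : Function.Injective dh := by
    refine (injective_iff_map_eq_one dh).2 fun x hx => ?_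
    have h1 : dihImg x = 1 := by rw [← hd, hx, map_one]
    exact dihImg_four x (by rw [h1]; exact ⟨mul_one 1, sign_one⟩)
  refine ⟨⟨U, fourGroup_normal.comap _, (MulEquiv.ofBijective qU hbij).symm, fun g hg => ?_,
    dh.range, ?_, ?_⟩⟩
  · rw [Subgroup.mem_centralizer_iff] at hg
    have hc : ∀ x, rho c g * quatImg x = quatImg x * rho c g := fun x => by
      rw [← hq, ← map_mul, ← map_mul, hg _ (hqU x)]
    exact cent_four _
      (by have := hc (.a 1); rwa [show quatImg (.a 1) = v1 from by decide +kernel] at this)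
      (by have := hc (.xa 0); rwa [show quatImg (.xa 0) = v2 from by decide +kernel] at this)
  · rw [← Nat.card_congr (MonoidHom.ofInjective hdinj).toEquiv, DihedralGroup.nat_card]
  · refine Subgroup.isComplement'_of_disjoint_and_mul_eq_univ ?_ (Set.eq_univ_of_forall fun g => ?_)
    · rw [Subgroup.disjoint_def]
      rintro g hgU ⟨x, rfl⟩
      have h1 : rho c (dh x) ∈ fourGroup := hgU
      rw [hd] at h1
      rw [dihImg_four x h1]
      exact map_one dh
    · obtain ⟨x, hx⟩ := dihImg_surj (rho c g)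
      refine ⟨g * (dh x)⁻¹, ?_, dh x, ⟨x, rfl⟩, inv_mul_cancel_right _ _⟩
      show rho c (g * (dh x)⁻¹) ∈ fourGroup
      rw [map_mul, map_inv, hd]
      exact hx

/-- The kernel: elements of order dividing three over the two cycles. -/
def nsub : Subgroup C where
  carrier := {g | g ^ 3 = 1 ∧ ∃ i j, c.φ g = spart i j}
  one_mem' := ⟨one_pow 3, 0, 0, by rw [map_one]; decide +kernel⟩
  mul_mem' := by
    rintro a b ⟨ha, i, j, hi⟩ ⟨hb, k, l, hk⟩
    have hab : Commute a b := c.commute_of_odd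
      (Odd.of_dvd_nat (by decide : Odd 3) (orderOf_dvd_of_pow_eq_one ha))
      (by rw [hi, hk]; exact spart_comm i j k l)
    obtain ⟨p, q, hpq⟩ := spart_mul i j k l
    exact ⟨by rw [hab.mul_pow, ha, hb, one_mul], p, q, by rw [map_mul, hi, hk, hpq]⟩
  inv_mem' := by
    rintro a ⟨ha, i, j, hi⟩
    obtain ⟨p, q, hpq⟩ := spart_mul i j i j
    refine ⟨by rw [inv_pow, ha, inv_one], p, q, ?_⟩
    rw [← hpq, ← hi, ← map_mul]
    congr 1
    exact inv_eq_of_mul_eq_one_right (by rw [← mul_assoc, ← pow_two, ← pow_succ, ha])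

theorem card_nsub [Finite C] : Nat.card (nsub c) = 9 := by
  have hodd : ∀ {g : C}, g ^ 3 = 1 → Odd (orderOf g) := fun hg =>
    Odd.of_dvd_nat (by decide : Odd 3) (orderOf_dvd_of_pow_eq_one hg)
  have hl : ∀ ij : Fin 3 × Fin 3, ∃ g : C, c.φ g = spart ij.1 ij.2 ∧ g ^ 3 = 1 := fun ij => by
    obtain ⟨g, hg, hgo⟩ := c.exists_odd_lift (spart_sign ij.1 ij.2)
      (Odd.of_dvd_nat (by decide : Odd 3) (orderOf_dvd_of_pow_eq_one (spart_cube _ _)))
    exact ⟨g, hg, orderOf_dvd_iff_pow_eq_one.1
      (hgo ▸ orderOf_dvd_of_pow_eq_one (spart_cube _ _))⟩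
  choose f hf hf3 using hl
  let F : Fin 3 × Fin 3 → nsub c := fun ij => ⟨f ij, hf3 ij, ij.1, ij.2, hf ij⟩
  have hb : Function.Bijective F := by
    refine ⟨fun a b hab => ?_, fun g => ?_⟩
    · have h1 : f a = f b := congrArg Subtype.val hab
      have h2 := spart_injective _ _ _ _ ((hf a).symm.trans ((congrArg c.φ h1).trans (hf b)))
      exact Prod.ext h2.1 h2.2
    · obtain ⟨g, hg3, i, j, hij⟩ := g
      exact ⟨(i, j), Subtype.ext (c.odd_lift_unique (hodd (hf3 _)) (hodd hg3) ((hf _).trans hij.symm))⟩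
  rw [← Nat.card_congr (Equiv.ofBijective F hb), Nat.card_prod, Nat.card_fin]

theorem model [Finite C] {d : C} (hd : orderOf d = 3) (hφd : c.φ d = d0) :
    ∃ π : Subgroup.centralizer ({d} : Set C) →* GLThree, Function.Surjective π ∧ Nat.card π.ker = 9 ∧
      ∀ h : c.z ∈ Subgroup.centralizer ({d} : Set C), π ⟨c.z, h⟩ = negOne := by
  set W := Subgroup.centralizer ({d} : Set C) with hW
  have hmem : ∀ g : C, g ∈ W ↔ Commute (c.φ g) d0 := fun g => by
    rw [hW, Subgroup.mem_centralizer_singleton_iff, ← hφd]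
    exact ⟨fun h => Commute.map h c.φ,
      fun h => (c.commute_of_odd (by rw [hd]; decide) h.symm).symm⟩
  have hN : nsub c ≤ W := by
    rintro g ⟨-, i, j, hg⟩
    exact (hmem g).2 (hg ▸ spart_comm_d0 i j)
  have hH : hsub c ≤ W := by
    rintro g ⟨p, hg⟩
    exact (hmem g).2 (hg ▸ secFun_comm p)
  let N : Subgroup W := (nsub c).subgroupOf W
  have hNn : N.Normal := by
    refine ⟨fun n hn g => ?_⟩
    obtain ⟨hn3, i, j, hnφ⟩ := hn
    refine ⟨?_, ?_⟩
    · show ((g : C) * n * (g : C)⁻¹) ^ 3 = 1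
      rw [conj_pow, show ((n : C) ^ 3 = 1) from hn3, mul_one, mul_inv_cancel]
    · have hgc := (hmem g).1 g.2
      refine eq_spart ((hmem _).1 (g * n * g⁻¹).2) (c.sign_φ _) fun x hx => ?_
      show c.φ ((g : C) * n * (g : C)⁻¹) x = x
      have hnφ' : c.φ (n : C) = spart i j := hnφ
      rw [map_mul, map_mul, map_inv, hnφ', Perm.mul_apply, Perm.mul_apply,
        spart_fix i j _ ((preserves hgc.inv_left x).2 hx), ← Perm.mul_apply, mul_inv_cancel,
        Perm.one_apply]
  let ψ : hsub c →* W ⧸ N := (QuotientGroup.mk' N).comp (Subgroup.inclusion hH)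
  have hψ : Function.Bijective ψ := by
    refine ⟨(injective_iff_map_eq_one ψ).2 fun h hh => ?_, fun w => ?_⟩
    · obtain ⟨h3, i, j, hij⟩ := (QuotientGroup.eq_one_iff _).1 hh
      have hij' : c.φ (h : C) = spart i j := hij
      have hp : rho c h = 1 := by
        refine Equiv.ext fun k => fixPt_injective _ _ ?_
        rw [← secFun_fixPt, sec_rho, hij', spart_fix i j _ (fixPt_ge k), Perm.one_apply]
      rcases rho_eq_iff c (g := h) (h := 1) (by rw [hp, map_one]) with h1 | h1
      · exact h1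
      · have h4 : (h : C) = c.z := by rw [h1, mul_one]; rfl
        have h5 : (h : C) ^ 3 = 1 := h3
        rw [h4, pow_succ, pow_two, c.z_mul_self, one_mul] at h5
        exact absurd h5 c.z_ne_one
    · obtain ⟨w, rfl⟩ := QuotientGroup.mk'_surjective N w
      obtain ⟨i, j, q, hq⟩ := decompose ((hmem w).1 w.2) (c.sign_φ _)
      obtain ⟨a, ha, hao⟩ := c.exists_odd_lift (spart_sign i j)
        (Odd.of_dvd_nat (by decide : Odd 3) (orderOf_dvd_of_pow_eq_one (spart_cube i j)))
      have ha3 : a ^ 3 = 1 :=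
        orderOf_dvd_iff_pow_eq_one.1 (hao ▸ orderOf_dvd_of_pow_eq_one (spart_cube i j))
      have haN : a ∈ nsub c := ⟨ha3, i, j, ha⟩
      have hr : a⁻¹ * (w : C) ∈ hsub c :=
        ⟨q, by rw [map_mul, map_inv, ha, hq, inv_mul_cancel_left]; rfl⟩
      refine ⟨⟨_, hr⟩, ?_⟩
      symm
      refine (QuotientGroup.eq (a := w) (b := Subgroup.inclusion hH ⟨_, hr⟩)).2 ?_
      show (w : C)⁻¹ * (a⁻¹ * (w : C)) ∈ nsub c
      have h6 := hNn.conj_mem ⟨a, hN haN⟩ (show (⟨a, hN haN⟩ : W) ∈ N from haN) w⁻¹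
      have h7 : (w : C)⁻¹ * a * ((w : C)⁻¹)⁻¹ ∈ nsub c := h6
      rw [inv_inv] at h7
      simpa [mul_assoc] using inv_mem h7
  obtain ⟨s⟩ := exists_split c
  obtain ⟨e⟩ := s.nonempty_mulEquiv_gl23
  let E : hsub c ≃* GLThree := e.trans glThreeEquiv
  let Ψ : hsub c ≃* W ⧸ N := MulEquiv.ofBijective ψ hψ
  refine ⟨E.toMonoidHom.comp (Ψ.symm.toMonoidHom.comp (QuotientGroup.mk' N)),
    E.surjective.comp (Ψ.symm.surjective.comp (QuotientGroup.mk'_surjective N)), ?_, fun h => ?_⟩
  · have hk : (E.toMonoidHom.comp (Ψ.symm.toMonoidHom.comp (QuotientGroup.mk' N))).ker = N := by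
      ext w
      simp
    rw [hk, Nat.card_congr (Subgroup.subgroupOfEquivOfLe hN).toEquiv, card_nsub]
  · have hw : Ψ (hz c) = QuotientGroup.mk' N ⟨c.z, h⟩ := rfl
    show E (Ψ.symm (QuotientGroup.mk' N ⟨c.z, h⟩)) = negOne
    rw [← hw, MulEquiv.symm_apply_apply]
    refine gl_model_facts _ ?_ ?_ fun m => ?_
    · rw [← map_mul, show hz c * hz c = 1 from Subtype.ext c.z_mul_self, map_one]
    · intro h1
      exact c.z_ne_one (congrArg Subtype.val ((map_eq_one_iff E E.injective).1 h1))
    · obtain ⟨g, rfl⟩ := E.surjective m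
      rw [← map_mul, ← map_mul, show hz c * g = g * hz c from Subtype.ext (c.central g).symm]

end Cover

end TenModel

open TenModel in
/-- The model of the centraliser of a product of two three cycles in degree ten. -/
theorem tenModel : TenModelStmt.{u} := by
  intro C _ _ c d hd ⟨σ, τ, hσ, hτ, hdis, hφ⟩
  have hconj : IsConj (c.φ d) d0 := by
    rw [isConj_iff_cycleType_eq, hφ, hdis.cycleType_mul, hσ.cycleType, hτ.cycleType, d0]
    rw [Perm.Disjoint.cycleType_mul (show sg.Disjoint ta from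
        (show ∀ x, sg x = x ∨ ta x = x by decide +kernel))]
    rw [show sg.cycleType = {3} from isThreeCycle_swap_mul_swap_same (by decide) (by decide) (by decide),
      show ta.cycleType = {3} from isThreeCycle_swap_mul_swap_same (by decide) (by decide) (by decide)]
  obtain ⟨π, hπ⟩ := isConj_iff.1 hconj
  let c' : Cov C 10 :=
    { φ := (MulAut.conj π).toMonoidHom.comp c.φ
      range_eq := by
        ext p
        simp only [MonoidHom.mem_range, MonoidHom.comp_apply, MulEquiv.coe_toMonoidHom,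
          MulAut.conj_apply]
        constructor
        · rintro ⟨g, rfl⟩
          rw [mem_alternatingGroup, Perm.sign_mul, Perm.sign_mul, Perm.sign_inv, c.sign_φ,
            mul_one, Int.units_mul_self]
        · intro hp
          have hp' : sign p = 1 := mem_alternatingGroup.1 hp
          obtain ⟨g, hg⟩ := c.exists_lift (a := π⁻¹ * p * π) (by
            rw [Perm.sign_mul, Perm.sign_mul, Perm.sign_inv, hp', mul_one, Int.units_mul_self])
          exact ⟨g, by rw [hg]; group⟩
      z := c.z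
      hz := c.hz
      central := c.central
      ker_iff := fun g => by
        rw [MonoidHom.comp_apply, MulEquiv.coe_toMonoidHom, map_eq_one_iff _ (MulEquiv.injective _),
          c.ker_iff]
      sq_dt := fun g ⟨p, q, r, s, hnd, he⟩ => c.sq_dt g ⟨π⁻¹ p, π⁻¹ q, π⁻¹ r, π⁻¹ s,
        hnd.map (Equiv.injective π⁻¹), by
          have he' : π * c.φ g * π⁻¹ = swap p q * swap r s := he
          rw [Equiv.swap_apply_apply, Equiv.swap_apply_apply, inv_inv]
          calc c.φ g = π⁻¹ * (π * c.φ g * π⁻¹) * π := by group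
            _ = _ := by rw [he']; group⟩ }
  exact model c' hd hπ

end Cfsg.Agent.Lib.DoubleAlt12
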