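import Cfsg.Agent.Lib.DoubleAlt12.Spec
import Cfsg.Agent.Lib.InvCentralizer.GLTwoThreeMain

/-!
# S1645, degree ten: the model of the centraliser of a product of two three cycles
-/

set_option autoImplicit false

namespace Cfsg.Agent.Lib.DoubleAlt12

open Equiv Cfsg.Agent.Lib.InvCentralizer

universe u

/-- Brick: in the double cover of `Alt 10` the centraliser of a lift `d` of a product of two disjoint three cycles
maps onto `GL(2,3)` with kernel of order nine, the central involution going to minus one. -/
def TenModelStmt : Prop :=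
  ∀ (C : Type u) [Group C] [Finite C] (c : Cov C 10) (d : C), orderOf d = 3 →
    (∃ σ τ : Perm (Fin 10), σ.IsThreeCycle ∧ τ.IsThreeCycle ∧ σ.Disjoint τ ∧ c.φ d = σ * τ) →
    ∃ π : Subgroup.centralizer ({d} : Set C) →* GLThree, Function.Surjective π ∧ Nat.card π.ker = 9 ∧
      ∀ h : c.z ∈ Subgroup.centralizer ({d} : Set C), π ⟨c.z, h⟩ = negOne

end Cfsg.Agent.Lib.DoubleAlt12
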