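import Cfsg.Agent.Lib.DoubleAlt12.ThreeCentralAct
import Cfsg.Agent.Lib.DoubleAlt12.Move

/-!
# S1645: the centraliser of a three cycle in degree 9 and 10
-/

set_option autoImplicit false
set_option linter.unusedSectionVars false

namespace Cfsg.Agent.Lib.DoubleAlt12

open Equiv Equiv.Perm
open Cfsg
open Cfsg.Agent.Lib

universe u

namespace ThreeCentral

theorem arith_ten3 : ∀ m < 6, ∀ j < m, 3 ^ j % 7 ≠ 3 ^ m % 7 := by decide
theorem arith_five7 : ∀ m < 5, ∀ j < m, 5 ^ j % 7 ≠ 5 ^ m % 7 := by decide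
theorem arith_seven5 : ∀ m < 3, ∀ j < m, 7 ^ j % 5 ≠ 7 ^ m % 5 := by decide
theorem arith_three5 : ∀ j < 3, 3 ^ j % 5 ≠ 3 ^ 3 % 5 := by decide

namespace Std

variable {G : Type u} [Group G] [Finite G] {n : ℕ} {K : Conf G n} {p : Perms n} (S : Std K p)

theorem exists_bound (hB : InvBoundStmt.{u}) (hn : n = 9 ∨ n = 10)
    (hmove : ∀ u : Cz K, orderOf u = 2 → u ≠ K.cov.z → IsConj (u : G) K.z) :
    ∃ a : ℕ, a ∣ 1575 ∧ (n = 9 → a ∣ 315) ∧ Nat.card S.R = 3 * a ^ 2 := by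
  obtain ⟨t1, ht, hne, hfix, hcard⟩ := S.exists_fixed
  set A := S.R ⊓ Subgroup.centralizer ({(t1 : G)} : Set G) with hA
  have hzA : ∀ a ∈ A, K.z * a * (K.z)⁻¹ ∈ A := by
    rintro a ⟨haR, hat⟩
    refine ⟨S.R_conj (Std.commute_z S.x).symm haR, Subgroup.mem_centralizer_singleton_iff.2 ?_⟩
    have h1 : Commute a (t1 : G) := Subgroup.mem_centralizer_singleton_iff.1 hat
    have h2 := (Commute.conj_iff K.z).2 h1
    rwa [(Std.commute_z t1).symm.eq, mul_inv_cancel_right] at h2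
  have hinv := inverts_of_fixed_trivial (Std.z_mul K) hzA hfix
  obtain ⟨g, hg⟩ := isConj_iff.1 (hmove t1 ht hne)
  have hwz : Commute (g * K.z * g⁻¹) K.z := by
    have h := (Commute.conj_iff g).2 (Std.commute_z t1).symm
    rwa [hg] at h
  set w : Cz K := ⟨g * K.z * g⁻¹, Std.mem_cz.2 hwz⟩ with hw
  have hwo : orderOf w = 2 := by
    rw [← Subgroup.orderOf_coe]
    show orderOf (g * K.z * g⁻¹) = 2
    rw [← MulAut.conj_apply, (MulAut.conj g).orderOf_eq, K.hz]
  have hwne : w ≠ K.cov.z := fun h => by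
    have h1 : g * K.z * g⁻¹ = K.z := (congrArg Subtype.val h).trans K.cov_z
    have h2 : g * K.z * g⁻¹ = g * (t1 : G) * g⁻¹ := by rw [h1, hg]
    exact hne (Subtype.ext (by rw [K.cov_z]; exact (mul_left_cancel (mul_right_cancel h2)).symm))
  set A' : Subgroup (Cz K) := (A.map (MulAut.conj g).toMonoidHom).subgroupOf (Cz K) with hA'
  have hle : A.map (MulAut.conj g).toMonoidHom ≤ Cz K := by
    rintro _ ⟨a, ha, rfl⟩
    have h1 : Commute a (t1 : G) := Subgroup.mem_centralizer_singleton_iff.1 ha.2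
    have h2 := (Commute.conj_iff g).2 h1
    rw [hg] at h2
    exact Std.mem_cz.2 (by simpa using h2)
  have hcA : Nat.card A' = Nat.card A := by
    rw [hA', Nat.card_congr (Subgroup.subgroupOfEquivOfLe hle).toEquiv,
      ← Nat.card_congr (A.equivMapOfInjective _ (MulAut.conj g).injective).toEquiv]
  have hodd : Odd (Nat.card A') := by
    rw [hcA]; exact Odd.of_dvd_nat S.R_odd (Subgroup.card_dvd_of_le inf_le_left)
  have hcomm : ∀ a ∈ A, ∀ b ∈ A, Commute a b := by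
    intro a ha b hb
    have h1 := hinv _ (mul_mem ha hb)
    have h2 : (a * b)⁻¹ = a⁻¹ * b⁻¹ := by
      rw [← h1, ← hinv a ha, ← hinv b hb]; group
    rw [mul_inv_rev] at h2
    exact Commute.inv_inv_iff.1 (show Commute a⁻¹ b⁻¹ from h2.symm)
  have hmem : ∀ a' ∈ A', ∃ a ∈ A, g * a * g⁻¹ = (a' : G) := fun a' ha' => by
    obtain ⟨a, ha, e⟩ := Subgroup.mem_subgroupOf.1 ha'
    exact ⟨a, ha, e⟩
  have hB' := hB (Cz K) n K.cov hn A' hodd (by
      intro a' ha' b' hb'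
      obtain ⟨a, ha, e1⟩ := hmem a' ha'
      obtain ⟨b, hb, e2⟩ := hmem b' hb'
      refine Std.commute_coe.1 ?_
      rw [← e1, ← e2]
      exact (Commute.conj_iff g).2 (hcomm a ha b hb))
    w hwo hwne (by
      intro a' ha'
      obtain ⟨a, ha, e1⟩ := hmem a' ha'
      apply Subtype.ext
      show g * K.z * g⁻¹ * a' * (g * K.z * g⁻¹)⁻¹ = (a' : G)⁻¹
      rw [← e1]
      calc g * K.z * g⁻¹ * (g * a * g⁻¹) * (g * K.z * g⁻¹)⁻¹ = g * (K.z * a * (K.z)⁻¹) * g⁻¹ := by group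
        _ = (g * a * g⁻¹)⁻¹ := by rw [hinv a ha]; group)
  rw [hcA] at hB'
  exact ⟨Nat.card A, hB'.1, hB'.2, hcard⟩

theorem inv_R : S.Inv S.R := ⟨le_rfl, fun _ hγ _ hr => S.R_conj hγ hr⟩

theorem not_dvd {a N M : ℕ} (hcard : Nat.card S.R = 3 * a ^ 2) (haN : a ∣ N) {pp k : ℕ}
    [hpp : Fact pp.Prime] [Fact k.Prime] (hk : Odd k) (hM : ¬ pp ^ M ∣ 3 * N ^ 2)
    {σ : Perm (Fin n)} (hσf : Fix3 σ) (hσ1 : σ ≠ 1) (hσk : σ ^ k = 1)
    (harith : ∀ m < M, ∀ j < m, pp ^ j % k ≠ pp ^ m % k) : ¬ pp ∣ a := by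
  intro hdvd
  obtain ⟨P, hP, hPc⟩ := S.exists_sylow_inv pp
  set m := (Nat.card S.R).factorization pp with hm
  have h2 : pp ^ 2 ∣ Nat.card S.R := hcard ▸ Dvd.dvd.mul_left (pow_dvd_pow_of_dvd hdvd 2) 3
  have hm2 : 2 ≤ m := (hpp.out.pow_dvd_iff_le_factorization Nat.card_pos.ne').1 h2
  have hR : Nat.card S.R ∣ 3 * N ^ 2 := hcard ▸ mul_dvd_mul_left 3 (pow_dvd_pow_of_dvd haN 2)
  have hmM : m < M := by
    by_contra hcon
    exact hM ((pow_dvd_pow pp (Nat.not_lt.1 hcon)).trans ((Nat.ordProj_dvd _ pp).trans hR))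
  have h3 : ¬ Nat.card P ∣ 3 := fun h => by
    rw [hPc] at h
    have h4 := Nat.le_of_dvd (by norm_num) ((pow_dvd_pow pp hm2).trans h)
    have := hpp.out.two_le
    nlinarith
  exact hP.false_of_arith h3 hpp.out hPc hσf hσ1 hσk hk (harith m hmM)

theorem ten (hB : InvBoundStmt.{u}) (hn : n = 10)
    (hmove : ∀ u : Cz K, orderOf u = 2 → u ≠ K.cov.z → IsConj (u : G) K.z)
    {σ : Perm (Fin n)} (hσf : Fix3 σ) (hσ1 : σ ≠ 1) (hσk : σ ^ 7 = 1) : S.R ≤ Cz K := by
  obtain ⟨a, ha, -, hcard⟩ := exists_bound S hB (Or.inr hn) hmove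
  haveI : Fact (Nat.Prime 3) := ⟨by norm_num⟩
  haveI : Fact (Nat.Prime 5) := ⟨by norm_num⟩
  haveI : Fact (Nat.Prime 7) := ⟨by norm_num⟩
  have h3 := not_dvd S hcard ha (pp := 3) (k := 7) (M := 6) (by decide) (by norm_num) hσf hσ1 hσk arith_ten3
  have h5 := not_dvd S hcard ha (pp := 5) (k := 7) (M := 5) (by decide) (by norm_num) hσf hσ1 hσk arith_five7
  have h7 := not_dvd S hcard ha (pp := 7) (k := 5) (M := 3) (by decide) (by norm_num) p.q5_fix p.q5_ne
    p.q5_pow arith_seven5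
  have hco : Nat.Coprime a 1575 := by
    rw [show (1575 : ℕ) = 3 * 3 * (5 * 5) * 7 by norm_num]
    have c3 := ((Nat.Prime.coprime_iff_not_dvd (by norm_num)).2 h3).symm
    have c5 := ((Nat.Prime.coprime_iff_not_dvd (by norm_num)).2 h5).symm
    have c7 := ((Nat.Prime.coprime_iff_not_dvd (by norm_num)).2 h7).symm
    exact ((c3.mul_right c3).mul_right (c5.mul_right c5)).mul_right c7
  rw [hco.eq_one_of_dvd ha] at hcard
  have : Subgroup.zpowers (S.x : G) = S.R :=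
    Subgroup.eq_of_le_of_card_ge (Subgroup.zpowers_le.2 S.x_mem_R) (by rw [S.card_zpowers, hcard]; norm_num)
  rw [← this]
  exact Subgroup.zpowers_le.2 S.x.2

theorem nine (hB : InvBoundStmt.{u}) (hn : n = 9)
    (hmove : ∀ u : Cz K, orderOf u = 2 → u ≠ K.cov.z → IsConj (u : G) K.z) :
    S.R ≤ Cz K ∨ Nat.card S.R = 243 := by
  obtain ⟨a, -, ha, hcard⟩ := exists_bound S hB (Or.inl hn) hmove
  have ha' := ha hn
  haveI : Fact (Nat.Prime 5) := ⟨by norm_num⟩
  haveI : Fact (Nat.Prime 7) := ⟨by norm_num⟩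
  have h7 := not_dvd S hcard ha' (pp := 7) (k := 5) (M := 3) (by decide) (by norm_num) p.q5_fix p.q5_ne
    p.q5_pow arith_seven5
  have h5 : ¬ 5 ∣ a := by
    intro hdvd
    obtain ⟨P, hP, hPc⟩ := S.exists_sylow_inv 5
    set m := (Nat.card S.R).factorization 5 with hm
    have h2 : 5 ^ 2 ∣ Nat.card S.R := hcard ▸ Dvd.dvd.mul_left (pow_dvd_pow_of_dvd hdvd 2) 3
    have hm2 : 2 ≤ m := ((Fact.out : Nat.Prime 5).pow_dvd_iff_le_factorization Nat.card_pos.ne').1 h2
    have hR : Nat.card S.R ∣ 3 * 315 ^ 2 := hcard ▸ mul_dvd_mul_left 3 (pow_dvd_pow_of_dvd ha' 2)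
    have hm3 : m < 3 := by
      by_contra hcon
      exact absurd ((pow_dvd_pow 5 (Nat.not_lt.1 hcon)).trans ((Nat.ordProj_dvd _ 5).trans hR)) (by norm_num)
    exact hP.card_ne_25 (by rw [hPc, show m = 2 by omega])
  have hco : Nat.Coprime a (5 * 7) :=
    (((Nat.Prime.coprime_iff_not_dvd (by norm_num)).2 h5).symm).mul_right
      ((Nat.Prime.coprime_iff_not_dvd (by norm_num)).2 h7).symm
  have h9 : a ∣ 3 ^ 2 := hco.dvd_of_dvd_mul_right (by norm_num; exact ha')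
  obtain ⟨i, hi, rfl⟩ := (Nat.dvd_prime_pow (by norm_num : Nat.Prime 3)).1 h9
  interval_cases i
  · left
    have : Subgroup.zpowers (S.x : G) = S.R :=
      Subgroup.eq_of_le_of_card_ge (Subgroup.zpowers_le.2 S.x_mem_R) (by rw [S.card_zpowers, hcard]; norm_num)
    rw [← this]
    exact Subgroup.zpowers_le.2 S.x.2
  · exfalso
    have hR : Nat.card S.R = 3 ^ 3 := by rw [hcard]; norm_num
    exact (inv_R S).false_of_arith (by rw [hR]; decide) (by norm_num) hR p.q5_fix p.q5_ne p.q5_pow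
      (by decide) arith_three5
  · right; rw [hcard]; norm_num

theorem commute_z_of_le (h : S.R ≤ Cz K) {g : G} (hg : Commute g (S.x : G)) : Commute g K.z := by
  obtain ⟨s, hs, -, hc⟩ := S.cover hg
  have := (Std.mem_cz.1 (h hs)).inv_left.mul_left hc
  rwa [inv_mul_cancel_left] at this

theorem bigCore_of_card (h : Nat.card S.R = 243) : BigCore K := by
  refine ⟨S.x, S.R, S.hx, by rw [S.φx]; exact p.cyc_three, h, S.R_le, ?_, S.R_inf, fun g hg => ?_⟩
  · intro g hg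
    have hc : Commute g (S.x : G) := S.mem_H.1 hg
    rw [Subgroup.mem_normalizer_iff]
    refine fun r => ⟨fun hr => S.R_conj hc hr, fun hr => ?_⟩
    simpa [mul_assoc] using S.R_conj hc.inv_left hr
  · obtain ⟨s, hs, -, hc⟩ := S.cover hg
    exact ⟨s, hs, hc⟩

end Std

/-- Moving a lift of a three cycle onto the chosen one. -/
theorem exists_std {G : Type u} [Group G] {n : ℕ} (K : Conf G n) (p : Perms n)
    (x : Cz K) (hx : orderOf x = 3) (hx3 : (K.cov.φ x).IsThreeCycle) :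
    ∃ (S : Std K p) (h : Cz K), S.x = h * x * h⁻¹ := by
  have h5 : 5 ≤ Nat.card (Fin n) := by rw [Nat.card_eq_fintype_card, Fintype.card_fin]; exact p.five_le
  obtain ⟨π, hπ⟩ := isConj_iff.1 (alternatingGroup.isThreeCycle_isConj h5
    (σ := ⟨K.cov.φ x, hx3.mem_alternatingGroup⟩) (τ := ⟨p.cyc, p.cyc_three.mem_alternatingGroup⟩)
    hx3 p.cyc_three)
  obtain ⟨h, hh⟩ := K.cov.exists_lift (mem_alternatingGroup.1 π.2)
  refine ⟨⟨h * x * h⁻¹, ?_, ?_⟩, h, rfl⟩
  · rw [← MulAut.conj_apply, (MulAut.conj h).orderOf_eq, hx]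
  · rw [map_mul, map_mul, map_inv, hh]
    exact congrArg Subtype.val hπ

end ThreeCentral

open ThreeCentral in
/-- In degree 9 and 10 the centraliser of a three cycle is as expected, up to one configuration. -/
theorem threeCentral (hB : InvBoundStmt.{u}) : ThreeCentralStmt.{u} := by
  intro G _ _ _ n K hn
  by_cases hbig : n = 9 ∧ BigCore K
  · exact Or.inr hbig
  refine Or.inl fun x hx hx3 g hg => ?_
  have hmove : ∀ u : Cz K, orderOf u = 2 → u ≠ K.cov.z → IsConj (u : G) K.z :=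
    fun u hu hne => Conf.isConj_z K hn hu hne
  have key : ∀ (p : Perms n), (∀ S : Std K p, S.R ≤ Cz K) → Commute g K.z := by
    intro p hp
    obtain ⟨S, h, hS⟩ := exists_std K p x hx hx3
    have hc : Commute ((h : G) * g * (h : G)⁻¹) (S.x : G) := by
      rw [hS]
      exact (Commute.conj_iff (h : G)).2 hg
    have h1 := Std.commute_z_of_le S (hp S) hc
    have h2 := (Commute.conj_iff (h : G)⁻¹).2 h1
    have hz : (h : G)⁻¹ * K.z * (h : G) = K.z := by
      rw [mul_assoc, ← (Std.commute_z h).eq, inv_mul_cancel_left]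
    simp only [inv_inv, hz] at h2
    have e1 : (h : G)⁻¹ * ((h : G) * g * (h : G)⁻¹) * (h : G) = g := by group
    rwa [e1] at h2
  rcases hn with h9 | h10
  · subst h9
    refine key perms9 fun S => (Std.nine S hB rfl hmove).resolve_right fun h => ?_
    exact hbig ⟨rfl, Std.bigCore_of_card S h⟩
  · subst h10
    exact key perms10 fun S => Std.ten S hB rfl hmove q7_fix q7_ne q7_pow

end Cfsg.Agent.Lib.DoubleAlt12
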