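import Cfsg.Agent.Lib.DoubleAlt12.ThreeCentralCore

/-!
# S1645: action of the cover on the odd core of the centraliser of a three cycle
-/

set_option autoImplicit false
set_option linter.unusedSectionVars false

namespace Cfsg.Agent.Lib.DoubleAlt12.ThreeCentral

open Equiv Equiv.Perm
open Cfsg
open Cfsg.Agent.Lib

universe u

section General

theorem sign_of_pow_odd {n k : ℕ} {σ : Perm (Fin n)} (h : σ ^ k = 1) (hk : Odd k) : sign σ = 1 := by
  have h1 : sign σ ^ k = 1 := by rw [← map_pow, h, map_one]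
  rcases Int.units_eq_one_or (sign σ) with h2 | h2
  · exact h2
  · rw [h2, hk.neg_one_pow] at h1; exact absurd h1 (by decide)

variable {G : Type*} [Group G] [Finite G]

/-- An element of prime order fixes a number of points congruent to the order. -/
theorem card_fixed_modEq {P : Subgroup G} {g : G} {k : ℕ} [hk : Fact k.Prime] (hg : g ^ k = 1)
    (hn : ∀ r ∈ P, g * r * g⁻¹ ∈ P) :
    Nat.card P ≡ Nat.card ↥(P ⊓ Subgroup.centralizer ({g} : Set G)) [MOD k] := by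
  classical
  haveI : Fintype P := Fintype.ofFinite _
  let f : Function.End P := fun r => ⟨g * r * g⁻¹, hn r r.2⟩
  have hf : ∀ (j : ℕ) (r : P), (((f ^ j : Function.End P) r : P) : G) = g ^ j * r * (g ^ j)⁻¹ := by
    intro j
    induction j with
    | zero => intro r; rw [pow_zero, pow_zero, one_mul, inv_one, mul_one]; rfl
    | succ i ih =>
      intro r
      rw [pow_succ' f]
      show g * ((f ^ i : Function.End P) r : G) * g⁻¹ = _
      rw [ih, pow_succ', mul_inv_rev]; group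
  have hf1 : f ^ k ^ 1 = 1 := by
    funext r
    apply Subtype.ext
    rw [hf, pow_one, hg, one_mul, inv_one, mul_one]; rfl
  have h := card_fixedPoints_modEq (f := f) hf1
  rw [← Nat.card_eq_fintype_card, ← Nat.card_eq_fintype_card] at h
  have e : Nat.card f.fixedPoints = Nat.card ↥(P ⊓ Subgroup.centralizer ({g} : Set G)) :=
    Nat.card_congr
      { toFun := fun r => ⟨r.1.1, r.1.2, Subgroup.mem_centralizer_singleton_iff.2 (by
          have h1 : g * (r.1 : G) * g⁻¹ = r.1 := congrArg Subtype.val r.2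
          exact (mul_inv_eq_iff_eq_mul.1 h1).symm)⟩
        invFun := fun a => ⟨⟨a.1, a.2.1⟩, Subtype.ext (by
          show g * (a : G) * g⁻¹ = a
          rw [← Subgroup.mem_centralizer_singleton_iff.1 a.2.2, mul_inv_cancel_right])⟩
        left_inv := fun r => rfl
        right_inv := fun a => rfl }
  rwa [e] at h

/-- Four commuting operators of order three without fixed points on an abelian group force exponent three. -/
theorem cube_eq_one {M : Type*} [CommGroup M] (Y Y' : M →* M) (hc : ∀ r, Y (Y' r) = Y' (Y r))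
    (hY : ∀ r, r * Y r * Y (Y r) = 1) (hY' : ∀ r, r * Y' r * Y' (Y' r) = 1)
    (h3 : ∀ r, r * Y (Y' r) * Y (Y (Y' (Y' r))) = 1)
    (h4 : ∀ r, r * Y (Y' (Y' r)) * Y (Y (Y' r)) = 1) (r : M) : r ^ 3 = 1 := by
  have h9 : (r * Y' r * Y' (Y' r)) * Y (r * Y' r * Y' (Y' r)) * Y (Y (r * Y' r * Y' (Y' r))) = 1 := by
    rw [hY', map_one, map_one, one_mul, one_mul]
  have h12 : (r * Y r * Y (Y r)) * (r * Y' r * Y' (Y' r)) * (r * Y (Y' r) * Y (Y (Y' (Y' r)))) *
      (r * Y (Y' (Y' r)) * Y (Y (Y' r))) = 1 := by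
    rw [hY, hY', h3, h4, one_mul, one_mul, one_mul]
  simp only [map_mul] at h9
  have key : (r * Y r * Y (Y r)) * (r * Y' r * Y' (Y' r)) * (r * Y (Y' r) * Y (Y (Y' (Y' r)))) *
      (r * Y (Y' (Y' r)) * Y (Y (Y' r))) = r ^ 3 *
      ((r * Y' r * Y' (Y' r)) * (Y r * Y (Y' r) * Y (Y' (Y' r))) *
        (Y (Y r) * Y (Y (Y' r)) * Y (Y (Y' (Y' r))))) := by
    simp only [pow_succ, pow_zero, one_mul]
    ac_rfl
  rw [key, h9, mul_one] at h12
  exact h12

end General

namespace Std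

variable {G : Type u} [Group G] [Finite G] {n : ℕ} {K : Conf G n} {p : Perms n} (S : Std K p)

/-- A subgroup of the odd core invariant under the centraliser of `x` in the cover. -/
structure Inv (P : Subgroup G) : Prop where
  le : P ≤ S.R
  conj : ∀ γ : Cz K, Commute (γ : G) (S.x : G) → ∀ r ∈ P, (γ : G) * r * (γ : G)⁻¹ ∈ P

variable {S}

theorem Inv.not_centralised {P : Subgroup G} (hP : S.Inv P) (h3 : ¬ Nat.card P ∣ 3) {q : Cz K}
    (hqf : Fix3 (K.cov.φ q)) (hq1 : K.cov.φ q ≠ 1) : ¬ ∀ r ∈ P, Commute (q : G) r := by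
  intro hc
  set N0 : Subgroup (Cz K) := (Subgroup.centralizer (P : Set G)).subgroupOf (Cz K) with hN0
  have hN : ∀ γ : Cz K, Commute (γ : G) (S.x : G) → ∀ k ∈ N0, γ * k * γ⁻¹ ∈ N0 := by
    intro γ hγ k hk
    rw [hN0, Subgroup.mem_subgroupOf, Subgroup.mem_centralizer_iff] at hk ⊢
    intro r hr
    have h1 := hP.conj γ⁻¹ (by exact hγ.inv_left) r hr
    simp only [Subgroup.coe_inv, inv_inv] at h1
    have h2 := hk _ h1
    simp only [Subgroup.coe_mul, Subgroup.coe_inv]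
    calc r * ((γ : G) * k * (γ : G)⁻¹) = (γ : G) * ((γ : G)⁻¹ * r * γ * k) * (γ : G)⁻¹ := by group
      _ = (γ : G) * (k * ((γ : G)⁻¹ * r * γ)) * (γ : G)⁻¹ := by rw [h2]
      _ = (γ : G) * k * (γ : G)⁻¹ * r := by group
  have hq : q ∈ N0 := by
    rw [hN0, Subgroup.mem_subgroupOf, Subgroup.mem_centralizer_iff]
    exact fun r hr => (hc r hr).symm.eq
  have hz := S.z_mem_of_normalised hN hq hqf hq1
  rw [hN0, Subgroup.mem_subgroupOf, Subgroup.mem_centralizer_iff, K.cov_z] at hz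
  have hle : P ≤ S.R ⊓ Cz K := fun r hr => ⟨hP.le hr, mem_cz.2 (hz r hr)⟩
  rw [S.R_inf] at hle
  exact h3 (S.card_zpowers ▸ Subgroup.card_dvd_of_le hle)

theorem Inv.fixed_card {P : Subgroup G} (hP : S.Inv P) (h3 : ¬ Nat.card P ∣ 3) {pp m : ℕ}
    (hpp : pp.Prime) (hcard : Nat.card P = pp ^ m) {q : Cz K}
    (hqf : Fix3 (K.cov.φ q)) (hq1 : K.cov.φ q ≠ 1) {k : ℕ} [Fact k.Prime] (hqk : q ^ k = 1) :
    ∃ j < m, Nat.card ↥(P ⊓ Subgroup.centralizer ({(q : G)} : Set G)) = pp ^ j ∧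
      pp ^ j % k = pp ^ m % k := by
  have hqx := S.commute_x_of_fix3 hqf
  have hmod := card_fixed_modEq (P := P) (g := (q : G)) (k := k)
    (by simpa using congrArg Subtype.val hqk) (hP.conj q hqx)
  set F := P ⊓ Subgroup.centralizer ({(q : G)} : Set G) with hF
  obtain ⟨j, hj, hFj⟩ := (Nat.dvd_prime_pow hpp).1
    (hcard ▸ Subgroup.card_dvd_of_le (show F ≤ P from inf_le_left))
  refine ⟨j, ?_, hFj, ?_⟩
  · rcases lt_or_eq_of_le hj with h | h
    · exact h
    exfalso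
    have hFP : F = P := Subgroup.eq_of_le_of_card_ge inf_le_left (by rw [hcard, hFj, h])
    refine hP.not_centralised h3 hqf hq1 fun r hr => ?_
    have : r ∈ F := by rw [hFP]; exact hr
    exact (Subgroup.mem_centralizer_singleton_iff.1 this.2 : Commute r (q : G)).symm
  · rw [hcard, hFj] at hmod
    exact hmod.symm

theorem Inv.false_of_arith {P : Subgroup G} (hP : S.Inv P) (h3 : ¬ Nat.card P ∣ 3) {pp m : ℕ}
    (hpp : pp.Prime) (hcard : Nat.card P = pp ^ m) {σ : Perm (Fin n)} {k : ℕ} [hk : Fact k.Prime]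
    (hσf : Fix3 σ) (hσ1 : σ ≠ 1) (hσk : σ ^ k = 1) (hodd : Odd k)
    (harith : ∀ j < m, pp ^ j % k ≠ pp ^ m % k) : False := by
  have hord : orderOf σ = k := orderOf_eq_prime hσk hσ1
  obtain ⟨q, hq, hqo⟩ := K.cov.exists_odd_lift (sign_of_pow_odd hσk hodd) (hord ▸ hodd)
  obtain ⟨j, hj, _, h⟩ := hP.fixed_card h3 hpp hcard (q := q) (k := k) (by rw [hq]; exact hσf)
    (by rw [hq]; exact hσ1) (by rw [← hord, ← hqo, pow_orderOf_eq_one])
  exact harith j hj h

/-- No invariant subgroup of order 25. -/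
theorem Inv.card_ne_25 {P : Subgroup G} (hP : S.Inv P) : Nat.card P ≠ 5 ^ 2 := by
  intro hcard
  haveI : Fact (Nat.Prime 5) := ⟨by norm_num⟩
  haveI : Fact (Nat.Prime 3) := ⟨by norm_num⟩
  have h3 : ¬ Nat.card P ∣ 3 := by rw [hcard]; decide
  have hcomm : ∀ a b : P, a * b = b * a := IsPGroup.commutative_of_card_eq_prime_sq hcard
  letI : CommGroup P := { (inferInstance : Group P) with mul_comm := hcomm }
  have hsy : sign p.y = 1 := sign_of_pow_odd p.y_pow (by decide)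
  have hsy' : sign p.y' = 1 := sign_of_pow_odd p.y'_pow (by decide)
  have hoy : orderOf p.y = 3 := orderOf_eq_prime p.y_pow p.y_ne
  have hoy' : orderOf p.y' = 3 := orderOf_eq_prime p.y'_pow p.y'_ne
  obtain ⟨y, hy, hyo⟩ := K.cov.exists_odd_lift hsy (by rw [hoy]; decide)
  obtain ⟨y', hy', hy'o⟩ := K.cov.exists_odd_lift hsy' (by rw [hoy']; decide)
  have hy3 : y ^ 3 = 1 := by rw [← hoy, ← hyo, pow_orderOf_eq_one]
  have hy'3 : y' ^ 3 = 1 := by rw [← hoy', ← hy'o, pow_orderOf_eq_one]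
  have hyy : Commute y y' := K.cov.commute_of_disjoint (by rw [hy, hy']; exact p.y_y')
  have hfy : Fix3 (K.cov.φ y) := by rw [hy]; exact p.y_fix
  have hfy' : Fix3 (K.cov.φ y') := by rw [hy']; exact p.y'_fix
  have hxy := S.commute_x_of_fix3 hfy
  have hxy' := S.commute_x_of_fix3 hfy'
  let cj : (w : Cz K) → Commute (w : G) (S.x : G) → (P →* P) := fun w hw =>
    { toFun := fun r => ⟨(w : G) * r * (w : G)⁻¹, hP.conj w hw r r.2⟩
      map_one' := by ext; simp
      map_mul' := fun a b => by ext; simp only [Subgroup.coe_mul]; group }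
  have hT : ∀ (w : Cz K) (hw : Commute (w : G) (S.x : G)), w ^ 3 = 1 → Fix3 (K.cov.φ w) →
      K.cov.φ w ≠ 1 → ∀ r : P, r * cj w hw r * cj w hw (cj w hw r) = 1 := by
    intro w hw hw3 hwf hw1 r
    obtain ⟨j, hj, hFj, hjm⟩ := hP.fixed_card h3 (by norm_num : Nat.Prime 5) hcard hwf hw1 hw3
    have hj0 : j = 0 := by
      interval_cases j
      · rfl
      · exact absurd hjm (by decide)
    subst hj0
    have hbot : P ⊓ Subgroup.centralizer ({(w : G)} : Set G) = ⊥ :=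
      Subgroup.eq_bot_of_card_eq _ (by rw [hFj, pow_zero])
    set T := r * cj w hw r * cj w hw (cj w hw r) with hTdef
    have hc3 : cj w hw (cj w hw (cj w hw r)) = r := by
      apply Subtype.ext
      show (w : G) * ((w : G) * ((w : G) * r * (w : G)⁻¹) * (w : G)⁻¹) * (w : G)⁻¹ = r
      have h1 : (w : G) ^ 3 = 1 := by simpa using congrArg Subtype.val hw3
      calc (w : G) * ((w : G) * ((w : G) * r * (w : G)⁻¹) * (w : G)⁻¹) * (w : G)⁻¹
          = (w : G) ^ 3 * r * ((w : G) ^ 3)⁻¹ := by simp only [pow_succ, pow_zero, one_mul]; group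
        _ = r := by rw [h1]; group
    have hfixT : cj w hw T = T := by
      rw [hTdef, map_mul, map_mul, hc3]
      ac_rfl
    have hmem : (T : G) ∈ P ⊓ Subgroup.centralizer ({(w : G)} : Set G) := by
      refine ⟨T.2, Subgroup.mem_centralizer_singleton_iff.2 ?_⟩
      have h1 : (w : G) * T * (w : G)⁻¹ = T := congrArg Subtype.val hfixT
      exact (mul_inv_eq_iff_eq_mul.1 h1).symm
    rw [hbot, Subgroup.mem_bot] at hmem
    exact Subtype.ext hmem
  have hyw : K.cov.φ (y * y') = p.y * p.y' := by rw [map_mul, hy, hy']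
  have hyw2 : K.cov.φ (y * y' ^ 2) = p.y * p.y' ^ 2 := by rw [map_mul, map_pow, hy, hy']
  have hfw : Fix3 (K.cov.φ (y * y')) := fun i hi => by
    rw [hyw, Perm.mul_apply, p.y'_fix i hi, p.y_fix i hi]
  have hfw2 : Fix3 (K.cov.φ (y * y' ^ 2)) := fun i hi => by
    rw [hyw2, pow_two, Perm.mul_apply, Perm.mul_apply, p.y'_fix i hi, p.y'_fix i hi, p.y_fix i hi]
  have hxw := S.commute_x_of_fix3 hfw
  have hxw2 := S.commute_x_of_fix3 hfw2
  have hall : ∀ r : P, r ^ 3 = 1 := by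
    refine cube_eq_one (cj y hxy) (cj y' hxy') (fun r => ?_) (hT y hxy hy3 hfy (by rw [hy]; exact p.y_ne))
      (hT y' hxy' hy'3 hfy' (by rw [hy']; exact p.y'_ne)) (fun r => ?_) (fun r => ?_)
    · apply Subtype.ext
      show (y : G) * ((y' : G) * r * (y' : G)⁻¹) * (y : G)⁻¹ =
        (y' : G) * ((y : G) * r * (y : G)⁻¹) * (y' : G)⁻¹
      calc (y : G) * ((y' : G) * r * (y' : G)⁻¹) * (y : G)⁻¹
          = ((y : G) * y') * r * ((y : G) * y')⁻¹ := by group
        _ = ((y' : G) * y) * r * ((y' : G) * y)⁻¹ := by rw [(commute_coe.2 hyy).eq]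
        _ = _ := by group
    · have h := hT (y * y') hxw (by rw [hyy.mul_pow, hy3, hy'3, one_mul]) hfw
        (by rw [hyw]; exact p.yy'_ne) r
      have e1 : cj (y * y') hxw r = cj y hxy (cj y' hxy' r) := Subtype.ext (by
        show ((y : G) * (y' : G)) * r * ((y : G) * (y' : G))⁻¹ = (y : G) * ((y' : G) * r * (y' : G)⁻¹) * (y : G)⁻¹
        group)
      have e2 : cj (y * y') hxw (cj (y * y') hxw r) =
          cj y hxy (cj y hxy (cj y' hxy' (cj y' hxy' r))) := Subtype.ext (by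
        show ((y : G) * (y' : G)) * (((y : G) * (y' : G)) * r * ((y : G) * (y' : G))⁻¹) * ((y : G) * (y' : G))⁻¹ =
          (y : G) * ((y : G) * ((y' : G) * ((y' : G) * r * (y' : G)⁻¹) * (y' : G)⁻¹) * (y : G)⁻¹) * (y : G)⁻¹
        have hcG : (y' : G) * (y : G) = (y : G) * (y' : G) := (commute_coe.2 hyy).eq.symm
        calc ((y : G) * (y' : G)) * (((y : G) * (y' : G)) * r * ((y : G) * (y' : G))⁻¹) * ((y : G) * (y' : G))⁻¹
            = (y : G) * ((y' : G) * (y : G)) * (y' : G) * r * ((y : G) * ((y' : G) * (y : G)) * (y' : G))⁻¹ := by group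
          _ = (y : G) * ((y : G) * (y' : G)) * (y' : G) * r * ((y : G) * ((y : G) * (y' : G)) * (y' : G))⁻¹ := by rw [hcG]
          _ = _ := by group)
      rwa [e1, ← e1, e2, e1] at h
    · have hw3 : (y * y' ^ 2) ^ 3 = 1 := by
        rw [(hyy.pow_right 2).mul_pow, hy3, ← pow_mul, mul_comm 2 3, pow_mul, hy'3, one_pow, one_mul]
      have h := hT (y * y' ^ 2) hxw2 hw3 hfw2 (by rw [hyw2]; exact p.yy'2_ne) r
      have hv : ((y * y' ^ 2) * (y * y' ^ 2) : Cz K) = y * y * y' := by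
        rw [(hyy.pow_right 2).symm.mul_mul_mul_comm, ← pow_add, show 2 + 2 = 3 + 1 from rfl, pow_succ,
          hy'3, one_mul]
      have e1 : cj (y * y' ^ 2) hxw2 r = cj y hxy (cj y' hxy' (cj y' hxy' r)) := Subtype.ext (by
        show ((y * y' ^ 2 : Cz K) : G) * r * ((y * y' ^ 2 : Cz K) : G)⁻¹ =
          (y : G) * ((y' : G) * ((y' : G) * r * (y' : G)⁻¹) * (y' : G)⁻¹) * (y : G)⁻¹
        simp only [Subgroup.coe_mul, Subgroup.coe_pow, pow_two]; group)
      have e2 : cj (y * y' ^ 2) hxw2 (cj (y * y' ^ 2) hxw2 r) =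
          cj y hxy (cj y hxy (cj y' hxy' r)) := Subtype.ext (by
        show ((y * y' ^ 2 : Cz K) : G) * (((y * y' ^ 2 : Cz K) : G) * r * ((y * y' ^ 2 : Cz K) : G)⁻¹) *
          ((y * y' ^ 2 : Cz K) : G)⁻¹ = (y : G) * ((y : G) * ((y' : G) * r * (y' : G)⁻¹) * (y : G)⁻¹) * (y : G)⁻¹
        have hv' := congrArg Subtype.val hv
        simp only [Subgroup.coe_mul] at hv' ⊢
        calc _ = ((y : G) * ((y' ^ 2 : Cz K) : G) * ((y : G) * ((y' ^ 2 : Cz K) : G))) * r *
              ((y : G) * ((y' ^ 2 : Cz K) : G) * ((y : G) * ((y' ^ 2 : Cz K) : G)))⁻¹ := by group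
          _ = (y : G) * (y : G) * (y' : G) * r * ((y : G) * (y : G) * (y' : G))⁻¹ := by rw [hv']
          _ = _ := by group)
      rwa [e1, ← e1, e2, e1] at h
  haveI : Nontrivial P := by
    rw [← Finite.one_lt_card_iff_nontrivial, hcard]; norm_num
  obtain ⟨r, hr⟩ := exists_ne (1 : P)
  have hd := orderOf_dvd_iff_pow_eq_one.2 (hall r)
  have hd5 : orderOf r ∣ 5 ^ 2 := hcard ▸ orderOf_dvd_natCard r
  have h1 := Nat.dvd_gcd hd hd5
  exact hr (orderOf_eq_one_iff.1 (Nat.dvd_one.1 h1))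

variable (S)

theorem decomp {r : G} (hr : r ∈ S.R) :
    ∃ y ∈ S.R, ∃ ζ ∈ Subgroup.zpowers (S.x : G), K.z * y * K.z = y⁻¹ ∧ r = y * ζ := by
  obtain ⟨s, hs, hzs, hc⟩ := S.cover (S.R_commute hr)
  refine ⟨s⁻¹, inv_mem hs, s * r, ?_, ?_, (inv_mul_cancel_left s r).symm⟩
  · rw [← S.R_inf]; exact ⟨mul_mem hs hr, mem_cz.2 hc⟩
  · have h1 := congrArg (·⁻¹) hzs
    simp only [mul_inv_rev, z_inv K, inv_inv, ← mul_assoc] at h1
    rw [h1, inv_inv]

theorem zpowers_central {ζ r : G} (hζ : ζ ∈ Subgroup.zpowers (S.x : G)) (hr : r ∈ S.R) :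
    Commute ζ r := by
  obtain ⟨j, rfl⟩ := hζ
  exact (S.R_commute hr).symm.zpow_left j

theorem zpowers_commute_z {ζ : G} (hζ : ζ ∈ Subgroup.zpowers (S.x : G)) : Commute ζ K.z := by
  obtain ⟨j, rfl⟩ := hζ
  exact (commute_z S.x).zpow_left j

theorem commutator_mem {r1 r2 : G} (h1 : r1 ∈ S.R) (h2 : r2 ∈ S.R) :
    r1 * r2 * r1⁻¹ * r2⁻¹ ∈ Subgroup.zpowers (S.x : G) := by
  obtain ⟨y1, hy1, ζ1, hζ1, hz1, rfl⟩ := S.decomp h1
  obtain ⟨y2, hy2, ζ2, hζ2, hz2, rfl⟩ := S.decomp h2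
  have c12 := S.zpowers_central hζ1 hy2
  have c21 := S.zpowers_central hζ2 hy1
  have c11 := S.zpowers_central hζ1 hy1
  have c22 := S.zpowers_central hζ2 hy2
  have hcc : Commute ζ1 ζ2 := S.zpowers_central hζ1 (S.R_inf.ge hζ2).1
  have e0 : y1 * ζ1 * (y2 * ζ2) * (y1 * ζ1)⁻¹ * (y2 * ζ2)⁻¹ = y1 * y2 * y1⁻¹ * y2⁻¹ := by
    calc y1 * ζ1 * (y2 * ζ2) * (y1 * ζ1)⁻¹ * (y2 * ζ2)⁻¹
        = y1 * (ζ1 * y2) * (ζ2 * ζ1⁻¹) * y1⁻¹ * ζ2⁻¹ * y2⁻¹ := by group
      _ = y1 * y2 * (ζ1 * ζ2 * ζ1⁻¹) * y1⁻¹ * ζ2⁻¹ * y2⁻¹ := by rw [c12.eq]; group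
      _ = y1 * y2 * (ζ2 * y1⁻¹ * ζ2⁻¹) * y2⁻¹ := by rw [hcc.eq, mul_inv_cancel_right]; group
      _ = y1 * y2 * y1⁻¹ * y2⁻¹ := by rw [c21.inv_right.eq, mul_inv_cancel_right]
  rw [e0]
  obtain ⟨y3, hy3, ζ, hζ, hz3, e⟩ := S.decomp (mul_mem hy1 hy2)
  have hzz := z_mul K
  have h4 : y1⁻¹ * y2⁻¹ = y3⁻¹ * ζ := by
    have h5 : K.z * (y1 * y2) * K.z = y1⁻¹ * y2⁻¹ := by
      calc K.z * (y1 * y2) * K.z = K.z * y1 * (K.z * K.z) * y2 * K.z := by rw [hzz]; group
        _ = (K.z * y1 * K.z) * (K.z * y2 * K.z) := by group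
        _ = _ := by rw [hz1, hz2]
    have h6 : K.z * (y3 * ζ) * K.z = y3⁻¹ * ζ := by
      rw [← mul_assoc, mul_assoc (K.z * y3), (S.zpowers_commute_z hζ).eq, ← mul_assoc, hz3]
    rw [← h5, ← h6, e]
  have h7 : y1 * y2 * y1⁻¹ * y2⁻¹ = ζ * ζ := by
    calc y1 * y2 * y1⁻¹ * y2⁻¹ = (y1 * y2) * (y1⁻¹ * y2⁻¹) := by group
      _ = y3 * (ζ * y3⁻¹) * ζ := by rw [h4, e]; group
      _ = ζ * ζ := by rw [(S.zpowers_central hζ (inv_mem hy3)).eq, mul_inv_cancel_left]
  rw [h7]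
  exact mul_mem hζ hζ

theorem R_nilpotent : Group.IsNilpotent S.R := by
  refine isNilpotent_of_ker_le_center (Abelianization.of : S.R →* Abelianization S.R) ?_
  rw [Abelianization.ker_of, commutator_def, Subgroup.commutator_le]
  intro a _ b _
  rw [Subgroup.mem_center_iff]
  intro g
  have h := S.zpowers_central (S.commutator_mem a.2 b.2) g.2
  apply Subtype.ext
  rw [commutatorElement_def]
  simp only [Subgroup.coe_mul, Subgroup.coe_inv]
  exact h.symm.eq

/-- The Sylow subgroups of the odd core are invariant. -/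
theorem exists_sylow_inv (pp : ℕ) [hpp : Fact pp.Prime] :
    ∃ P : Subgroup G, S.Inv P ∧ Nat.card P = pp ^ (Nat.card S.R).factorization pp := by
  obtain ⟨Q⟩ := (inferInstance : Nonempty (Sylow pp S.R))
  haveI := S.R_nilpotent
  have hQn : (Q : Subgroup S.R).Normal := inferInstance
  have hQc := Q.characteristic_of_normal hQn
  refine ⟨(Q : Subgroup S.R).map S.R.subtype, ⟨Subgroup.map_subtype_le _, fun γ hγ r hr => ?_⟩, ?_⟩
  · exact conj_mem_of_characteristic hQc (fun h hh => S.R_conj hγ hh)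
      (fun h hh => by simpa using S.R_conj hγ.inv_left hh) r hr
  · rw [← Nat.card_congr ((Q : Subgroup S.R).equivMapOfInjective _ S.R.subtype_injective).toEquiv]
    exact Q.card_eq_multiplicity

end Std

end Cfsg.Agent.Lib.DoubleAlt12.ThreeCentral
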