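import Cfsg.Agent.Lib.DoubleAlt12.Spec

/-!
# S1645: the concrete permutations used for the centraliser of a three cycle
-/

set_option autoImplicit false

namespace Cfsg.Agent.Lib.DoubleAlt12.ThreeCentral

open Equiv Equiv.Perm

variable {n : ℕ}

/-- The permutation fixes the first three points. -/
def Fix3 (a : Perm (Fin n)) : Prop := ∀ i : Fin n, i.val < 3 → a i = i

/-- The points outside the first three. -/
def rest (n : ℕ) : Finset (Fin n) := Finset.univ.filter fun i => 3 ≤ i.val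

/-- The permutations used in the proof. -/
structure Perms (n : ℕ) where
  cyc : Perm (Fin n)
  a : Perm (Fin n)
  b : Perm (Fin n)
  β : Perm (Fin n)
  d1 : Perm (Fin n)
  d2 : Perm (Fin n)
  y : Perm (Fin n)
  y' : Perm (Fin n)
  q5 : Perm (Fin n)
  le_ten : n ≤ 10
  five_le : 5 ≤ n
  card_rest : 5 ≤ (rest n).card
  cyc_three : cyc.IsThreeCycle
  cyc_fix : ∀ i : Fin n, 3 ≤ i.val → cyc i = i
  cyc_move : ∀ i : Fin n, i.val < 3 → cyc i ≠ i
  cyc_trans : ∀ i : Fin n, i.val < 3 → ∀ j : Fin n, j.val < 3 → ∃ e : Fin 3, (cyc ^ e.val) i = j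
  cyc_sq : ∀ i : Fin n, i.val < 3 → ∀ e : Fin 3, (cyc ^ e.val) ((cyc ^ e.val) i) = i → e = 0
  zero : Fin n
  zero_lt : zero.val < 3
  a_dt : IsDT a
  b_dt : IsDT b
  a_b : a.Disjoint b
  β_a : β.Disjoint a
  β_dt : IsDT β
  βb_dt : IsDT (β * b)
  β_fix : Fix3 β
  ab_ne : a * b ≠ 1
  ab_inv : a * b * cyc * (a * b)⁻¹ = cyc⁻¹
  d1_dt : IsDT d1
  d2_dt : IsDT d2
  d12_dt : IsDT (d1 * d2)
  d1_fix : Fix3 d1
  d2_fix : Fix3 d2
  q5_pow : q5 ^ 5 = 1
  q5_ne : q5 ≠ 1
  q5_fix : Fix3 q5
  y_fix : Fix3 y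
  y'_fix : Fix3 y'
  y_pow : y ^ 3 = 1
  y'_pow : y' ^ 3 = 1
  y_ne : y ≠ 1
  y'_ne : y' ≠ 1
  y_y' : y.Disjoint y'
  yy'_ne : y * y' ≠ 1
  yy'2_ne : y * y' ^ 2 ≠ 1

/-- The permutations in degree 9. -/
def perms9 : Perms 9 where
  cyc := swap 0 1 * swap 1 2
  a := swap 1 2 * swap 3 6
  b := swap 4 7 * swap 5 8
  β := swap 4 5 * swap 7 8
  d1 := swap 3 4 * swap 5 6
  d2 := swap 3 5 * swap 4 6
  y := swap 3 4 * swap 4 5
  y' := swap 6 7 * swap 7 8
  q5 := swap 3 4 * swap 4 5 * swap 5 6 * swap 6 7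
  le_ten := by omega
  five_le := by omega
  card_rest := by decide
  cyc_three := by
    rw [swap_comm (0 : Fin 9) 1]
    exact isThreeCycle_swap_mul_swap_same (by decide) (by decide) (by decide)
  cyc_fix := by decide
  cyc_move := by decide
  cyc_trans := by decide
  cyc_sq := by decide
  zero := 0
  zero_lt := by decide
  a_dt := ⟨1, 2, 3, 6, by decide, rfl⟩
  b_dt := ⟨4, 7, 5, 8, by decide, rfl⟩
  a_b := by unfold Perm.Disjoint; decide
  β_a := by unfold Perm.Disjoint; decide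
  β_dt := ⟨4, 5, 7, 8, by decide, rfl⟩
  βb_dt := ⟨4, 8, 5, 7, by decide, by decide⟩
  β_fix := by unfold Fix3; decide
  ab_ne := by decide
  ab_inv := by decide
  d1_dt := ⟨3, 4, 5, 6, by decide, rfl⟩
  d2_dt := ⟨3, 5, 4, 6, by decide, rfl⟩
  d12_dt := ⟨3, 6, 4, 5, by decide, by decide⟩
  d1_fix := by unfold Fix3; decide
  d2_fix := by unfold Fix3; decide
  q5_pow := by decide
  q5_ne := by decide
  q5_fix := by unfold Fix3; decide
  y_fix := by unfold Fix3; decide
  y'_fix := by unfold Fix3; decide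
  y_pow := by decide
  y'_pow := by decide
  y_ne := by decide
  y'_ne := by decide
  y_y' := by unfold Perm.Disjoint; decide
  yy'_ne := by decide
  yy'2_ne := by decide

/-- The permutations in degree 10. -/
def perms10 : Perms 10 where
  cyc := swap 0 1 * swap 1 2
  a := swap 1 2 * swap 3 6
  b := swap 4 7 * swap 5 8
  β := swap 4 5 * swap 7 8
  d1 := swap 3 4 * swap 5 6
  d2 := swap 3 5 * swap 4 6
  y := swap 3 4 * swap 4 5
  y' := swap 6 7 * swap 7 8
  q5 := swap 3 4 * swap 4 5 * swap 5 6 * swap 6 7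
  le_ten := by omega
  five_le := by omega
  card_rest := by decide
  cyc_three := by
    rw [swap_comm (0 : Fin 10) 1]
    exact isThreeCycle_swap_mul_swap_same (by decide) (by decide) (by decide)
  cyc_fix := by decide
  cyc_move := by decide
  cyc_trans := by decide
  cyc_sq := by decide
  zero := 0
  zero_lt := by decide
  a_dt := ⟨1, 2, 3, 6, by decide, rfl⟩
  b_dt := ⟨4, 7, 5, 8, by decide, rfl⟩
  a_b := by unfold Perm.Disjoint; decide
  β_a := by unfold Perm.Disjoint; decide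
  β_dt := ⟨4, 5, 7, 8, by decide, rfl⟩
  βb_dt := ⟨4, 8, 5, 7, by decide, by decide⟩
  β_fix := by unfold Fix3; decide
  ab_ne := by decide
  ab_inv := by decide
  d1_dt := ⟨3, 4, 5, 6, by decide, rfl⟩
  d2_dt := ⟨3, 5, 4, 6, by decide, rfl⟩
  d12_dt := ⟨3, 6, 4, 5, by decide, by decide⟩
  d1_fix := by unfold Fix3; decide
  d2_fix := by unfold Fix3; decide
  q5_pow := by decide
  q5_ne := by decide
  q5_fix := by unfold Fix3; decide
  y_fix := by unfold Fix3; decide
  y'_fix := by unfold Fix3; decide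
  y_pow := by decide
  y'_pow := by decide
  y_ne := by decide
  y'_ne := by decide
  y_y' := by unfold Perm.Disjoint; decide
  yy'_ne := by decide
  yy'2_ne := by decide

/-- A seven cycle on the last seven points in degree 10. -/
def q7 : Perm (Fin 10) :=
  swap 3 4 * swap 4 5 * swap 5 6 * swap 6 7 * swap 7 8 * swap 8 9

theorem q7_pow : q7 ^ 7 = 1 := by unfold q7; decide +kernel
theorem q7_ne : q7 ≠ 1 := by unfold q7; decide +kernel
theorem q7_fix : Fix3 q7 := by unfold q7 Fix3; decide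

namespace Perms

variable (p : Perms n)

theorem commute_cyc {σ : Perm (Fin n)} (h : Fix3 σ) : Commute σ p.cyc :=
  (show σ.Disjoint p.cyc from fun i => by
    rcases Nat.lt_or_ge i.val 3 with hi | hi
    · exact Or.inl (h i hi)
    · exact Or.inr (p.cyc_fix i hi)).commute

theorem exists_split {σ : Perm (Fin n)} (h : Commute σ p.cyc) :
    ∃ e : Fin 3, Fix3 ((p.cyc ^ e.val)⁻¹ * σ) := by
  have hmv : ∀ i : Fin n, i.val < 3 → (σ i).val < 3 := fun i hi => by
    by_contra hcon
    have h1 : σ (p.cyc i) = p.cyc (σ i) := by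
      rw [← Perm.mul_apply, h.eq, Perm.mul_apply]
    rw [p.cyc_fix (σ i) (by omega)] at h1
    exact p.cyc_move i hi (σ.injective h1)
  obtain ⟨e, he⟩ := p.cyc_trans p.zero p.zero_lt (σ p.zero) (hmv _ p.zero_lt)
  refine ⟨e, fun j hj => ?_⟩
  have hc : Commute ((p.cyc ^ e.val)⁻¹ * σ) p.cyc :=
    ((Commute.refl p.cyc).pow_left _).inv_left.mul_left h
  have h0 : ((p.cyc ^ e.val)⁻¹ * σ) p.zero = p.zero := by
    rw [Perm.mul_apply, ← he]; exact (p.cyc ^ e.val).symm_apply_apply p.zero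
  obtain ⟨f, hf⟩ := p.cyc_trans p.zero p.zero_lt j hj
  calc ((p.cyc ^ e.val)⁻¹ * σ) j = (((p.cyc ^ e.val)⁻¹ * σ) * p.cyc ^ f.val) p.zero := by
        rw [← hf]; rfl
    _ = (p.cyc ^ f.val * ((p.cyc ^ e.val)⁻¹ * σ)) p.zero := by rw [(hc.pow_right f.val).eq]
    _ = j := by rw [Perm.mul_apply, h0, hf]

theorem fix3_of_involution {σ : Perm (Fin n)} (h : Commute σ p.cyc) (h2 : σ * σ = 1) : Fix3 σ := by
  obtain ⟨e, he⟩ := p.exists_split h
  set π := (p.cyc ^ e.val)⁻¹ * σ with hπ
  have hs : σ = p.cyc ^ e.val * π := (mul_inv_cancel_left _ _).symm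
  clear_value π
  have hc : Commute π p.cyc := p.commute_cyc he
  have key : (p.cyc ^ e.val) ((p.cyc ^ e.val) p.zero) = p.zero := by
    have h3 : (σ * σ) p.zero = p.zero := by rw [h2]; rfl
    rw [hs, Perm.mul_apply, Perm.mul_apply, Perm.mul_apply, he _ p.zero_lt] at h3
    have h4 : π ((p.cyc ^ e.val) p.zero) = (p.cyc ^ e.val) p.zero := by
      rw [← Perm.mul_apply, (hc.pow_right e.val).eq, Perm.mul_apply, he _ p.zero_lt]
    rwa [h4] at h3
  have he0 : e = 0 := p.cyc_sq _ p.zero_lt e key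
  rw [hs, he0]
  simpa using he

include p in
theorem support_card_le {σ : Perm (Fin n)} (h : Fix3 σ) : σ.support.card ≤ n - 3 := by
  have h1 : σ.support ⊆ rest n := fun i hi => by
    simp only [rest, Finset.mem_filter, Finset.mem_univ, true_and]
    by_contra hcon
    exact mem_support.1 hi (h i (by omega))
  have h2 : (rest n).card ≤ n - 3 := by
    have hn := p.five_le
    have h3 : (rest n).card = (Finset.range (n - 3)).card := by
      refine Finset.card_bij' (fun i _ => i.val - 3) (fun k hk => (⟨k + 3, ?_⟩ : Fin n)) ?_ ?_ ?_ ?_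
      · have := Finset.mem_range.1 hk; omega
      · intro i hi; simp only [rest, Finset.mem_filter] at hi; simp; omega
      · intro k _; simp [rest]
      · intro i hi; simp only [rest, Finset.mem_filter] at hi; ext; simp; omega
      · intro k _; simp
    rw [h3, Finset.card_range]
  exact (Finset.card_le_card h1).trans h2

theorem mem_rest_of_support {σ : Perm (Fin n)} (h : Fix3 σ) : σ.support ⊆ rest n := fun i hi => by
  simp only [rest, Finset.mem_filter, Finset.mem_univ, true_and]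
  by_contra hcon
  exact mem_support.1 hi (h i (by omega))

end Perms

end Cfsg.Agent.Lib.DoubleAlt12.ThreeCentral
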