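import Cfsg.Agent.Lib.DoubleAlt12.Cover
import Cfsg.Agent.Lib.DoubleAlt12.ThreeCentralPerms
import Cfsg.Agent.Lib.BrauerSuzukiQ.ZStarFinal
import Cfsg.Agent.Lib.CentFour74.Four

/-!
# S1645: the odd core of the centraliser of a three cycle in degree 9 and 10
-/

set_option autoImplicit false
set_option linter.unusedSectionVars false

namespace Cfsg.Agent.Lib.DoubleAlt12.ThreeCentral

open Equiv Equiv.Perm
open Cfsg
open Cfsg.Agent.Lib

universe u

section General

variable {G : Type*} [Group G]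

/-- Conjugation by an element preserving `H` preserves every characteristic subgroup of `H`. -/
theorem conj_mem_of_characteristic {H : Subgroup G} {C0 : Subgroup H} (hC : C0.Characteristic)
    {t : G} (ht : ∀ h ∈ H, t * h * t⁻¹ ∈ H) (ht' : ∀ h ∈ H, t⁻¹ * h * t ∈ H) :
    ∀ r ∈ C0.map H.subtype, t * r * t⁻¹ ∈ C0.map H.subtype := by
  let e : H ≃* H :=
    { toFun := fun h => ⟨t * h * t⁻¹, ht h h.2⟩
      invFun := fun h => ⟨t⁻¹ * h * t, ht' h h.2⟩
      left_inv := fun h => by ext; simp only; group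
      right_inv := fun h => by ext; simp only; group
      map_mul' := fun g h => by ext; simp only [Subgroup.coe_mul]; group }
  rintro _ ⟨r, hr, rfl⟩
  refine ⟨e r, ?_, rfl⟩
  rw [← Subgroup.characteristic_iff_map_eq.1 hC e]
  exact ⟨r, hr, rfl⟩

variable [Finite G]

/-- A fixed point free involution inverts. -/
theorem inverts_of_fixed_trivial {A : Subgroup G} {z : G} (hz : z * z = 1)
    (hn : ∀ a ∈ A, z * a * z⁻¹ ∈ A) (hfix : ∀ a ∈ A, Commute a z → a = 1) :
    ∀ a ∈ A, z * a * z⁻¹ = a⁻¹ := by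
  have hzi : z⁻¹ = z := inv_eq_of_mul_eq_one_right hz
  let f : A → A := fun a => ⟨(a : G)⁻¹ * (z * a * z⁻¹), mul_mem (inv_mem a.2) (hn a a.2)⟩
  have hf : Function.Injective f := fun a b h => by
    have h' : (a : G)⁻¹ * (z * a * z⁻¹) = (b : G)⁻¹ * (z * b * z⁻¹) := congrArg Subtype.val h
    have h1 : Commute ((b : G) * (a : G)⁻¹) z := by
      show (b : G) * (a : G)⁻¹ * z = z * ((b : G) * (a : G)⁻¹)
      calc (b : G) * (a : G)⁻¹ * z
          = b * ((a : G)⁻¹ * (z * a * z⁻¹)) * (z * (a : G)⁻¹ * z⁻¹) * z := by group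
        _ = b * ((b : G)⁻¹ * (z * b * z⁻¹)) * (z * (a : G)⁻¹ * z⁻¹) * z := by rw [h']
        _ = z * ((b : G) * (a : G)⁻¹) := by group
    exact Subtype.ext (mul_inv_eq_one.1 (hfix _ (mul_mem b.2 (inv_mem a.2)) h1)).symm
  intro a ha
  obtain ⟨b, hb⟩ := (Finite.injective_iff_surjective.1 hf) ⟨a, ha⟩
  have hb' : (b : G)⁻¹ * (z * b * z⁻¹) = a := congrArg Subtype.val hb
  rw [← hb', hzi]
  calc z * ((b : G)⁻¹ * (z * b * z)) * z = z * (b : G)⁻¹ * z * b * (z * z) := by group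
    _ = ((b : G)⁻¹ * (z * b * z))⁻¹ := by
      rw [hz, mul_one, mul_inv_rev, mul_inv_rev, mul_inv_rev, hzi, inv_inv]; group

end General

variable {G : Type u} [Group G] {n : ℕ}

/-- The centraliser of the involution. -/
abbrev Cz (K : Conf G n) : Subgroup G := Subgroup.centralizer ({K.z} : Set G)

/-- A lift of the chosen three cycle. -/
structure Std (K : Conf G n) (p : Perms n) where
  x : Cz K
  hx : orderOf x = 3
  φx : K.cov.φ x = p.cyc

namespace Std

variable {K : Conf G n} {p : Perms n} (S : Std K p)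

theorem odd_x : Odd (orderOf S.x) := by rw [S.hx]; decide

theorem mem_cz {g : G} : g ∈ Cz K ↔ Commute g K.z := Subgroup.mem_centralizer_singleton_iff

theorem commute_z (g : Cz K) : Commute (g : G) K.z := mem_cz.1 g.2

theorem z_mul (K : Conf G n) : K.z * K.z = 1 := by rw [← pow_two, ← K.hz, pow_orderOf_eq_one]

theorem z_inv (K : Conf G n) : (K.z)⁻¹ = K.z := inv_eq_of_mul_eq_one_right (z_mul K)

theorem z_ne_one (K : Conf G n) : K.z ≠ 1 := fun h => by
  have := K.hz; rw [h, orderOf_one] at this; omega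

theorem commute_coe {g h : Cz K} : Commute (g : G) (h : G) ↔ Commute g h :=
  ⟨fun e => Subtype.ext e, fun e => congrArg Subtype.val e⟩

theorem orderOf_x : orderOf (S.x : G) = 3 := by rw [Subgroup.orderOf_coe]; exact S.hx

theorem x_pow : (S.x : G) ^ 3 = 1 := by rw [← S.orderOf_x]; exact pow_orderOf_eq_one _

theorem commute_cyc {γ : Cz K} (h : Commute (γ : G) (S.x : G)) : Commute (K.cov.φ γ) p.cyc := by
  have := (commute_coe.1 h).map K.cov.φ
  rwa [S.φx] at this

theorem commute_x_of_fix3 {γ : Cz K} (h : Fix3 (K.cov.φ γ)) : Commute (γ : G) (S.x : G) :=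
  commute_coe.2 (K.cov.commute_of_odd S.odd_x (by rw [S.φx]; exact (p.commute_cyc h).symm)).symm

include S in
theorem only_involution {t : Cz K} (ht : orderOf t = 2) (hc : Commute (t : G) (S.x : G)) :
    t = K.cov.z := by
  by_contra hne
  obtain ⟨h1, h2, h3⟩ := K.cov.involution_support ht hne
  have h4 : K.cov.φ t * K.cov.φ t = 1 := by rw [← pow_two, ← h1, pow_orderOf_eq_one]
  have h5 := p.support_card_le (p.fix3_of_involution (S.commute_cyc hc) h4)
  have := p.le_ten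
  have := Nat.le_of_dvd h2 h3
  omega

/-- The centraliser of the three cycle lift. -/
def H : Subgroup G := Subgroup.centralizer ({(S.x : G)} : Set G)

theorem mem_H {g : G} : g ∈ S.H ↔ Commute g (S.x : G) := Subgroup.mem_centralizer_singleton_iff

/-- Its odd core. -/
def R : Subgroup G := (oddCore ↥S.H).map S.H.subtype

theorem R_le : S.R ≤ S.H := by
  rintro _ ⟨r, _, rfl⟩; exact r.2

theorem R_commute {r : G} (hr : r ∈ S.R) : Commute r (S.x : G) := S.mem_H.1 (S.R_le hr)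

theorem R_conj [Finite G] {g : G} (hg : Commute g (S.x : G)) {r : G} (hr : r ∈ S.R) :
    g * r * g⁻¹ ∈ S.R := by
  obtain ⟨r, hr, rfl⟩ := hr
  haveI : (oddCore ↥S.H).Characteristic := PSolvable.pPrimeCore_characteristic
  exact ⟨⟨g, S.mem_H.2 hg⟩ * r * ⟨g, S.mem_H.2 hg⟩⁻¹, Subgroup.Normal.conj_mem inferInstance r hr _, rfl⟩

variable [Finite G]

theorem R_odd : Odd (Nat.card S.R) := by
  rw [R, ← Nat.card_congr ((oddCore ↥S.H).equivMapOfInjective _ S.H.subtype_injective).toEquiv]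
  exact Nat.coprime_two_right.1 PSolvable.pPrimeCore_coprime

theorem x_mem_R : (S.x : G) ∈ S.R := by
  set x' : S.H := ⟨(S.x : G), S.mem_H.2 (Commute.refl _)⟩ with hx'
  haveI : (Subgroup.zpowers x').Normal := ⟨fun m hm g => by
    obtain ⟨j, rfl⟩ := hm
    have hc : Commute g x' := Subtype.ext (S.mem_H.1 g.2)
    rw [(hc.zpow_right j).eq, mul_inv_cancel_right]
    exact Subgroup.zpow_mem _ (Subgroup.mem_zpowers x') j⟩
  refine ⟨x', PSolvable.le_pPrimeCore (p := 2) ?_ (Subgroup.mem_zpowers x'), rfl⟩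
  rw [Nat.card_zpowers, ← Subgroup.orderOf_coe]
  rw [show ((x' : G)) = (S.x : G) from rfl, S.orderOf_x]
  decide

/-- Conjugation by an element normalising the centraliser of `x` normalises `R`. -/
theorem R_conj_of {t : G} (ht : t * (S.x : G) * t⁻¹ = (S.x : G)⁻¹) {r : G} (hr : r ∈ S.R) :
    t * r * t⁻¹ ∈ S.R := by
  have ht' : t⁻¹ * (S.x : G) * t = (S.x : G)⁻¹ := by
    have h1 : t * (S.x : G)⁻¹ * t⁻¹ = (S.x : G) := by
      rw [← conj_inv, ht, inv_inv]
    calc t⁻¹ * (S.x : G) * t = t⁻¹ * (t * (S.x : G)⁻¹ * t⁻¹) * t := by rw [h1]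
      _ = _ := by group
  have key : ∀ s : G, s * (S.x : G) * s⁻¹ = (S.x : G)⁻¹ → ∀ h ∈ S.H, s * h * s⁻¹ ∈ S.H := by
    intro s hs h hh
    rw [S.mem_H] at hh ⊢
    have h1 : Commute (s * h * s⁻¹) (s * (S.x : G) * s⁻¹) := (Commute.conj_iff s).2 hh
    rw [hs] at h1
    exact Commute.inv_right_iff.1 h1
  exact conj_mem_of_characteristic PSolvable.pPrimeCore_characteristic (key t ht)
    (fun h hh => by simpa using key t⁻¹ (by simpa using ht') h hh) r hr

theorem cover {g : G} (hg : Commute g (S.x : G)) :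
    ∃ s ∈ S.R, K.z * s * K.z = s⁻¹ ∧ Commute (s * g) K.z := by
  have hzz := z_mul K
  have hzi := z_inv K
  set zH : S.H := ⟨K.z, S.mem_H.2 (commute_z S.x).symm⟩ with hzH
  have hord : orderOf zH = 2 := by rw [← Subgroup.orderOf_coe]; exact K.hz
  have hiso : IsIsolatedInvolution zH := by
    refine ⟨hord, fun h hc => ?_⟩
    set t := h * zH * h⁻¹ with ht
    have htz : (t : G) ∈ Cz K := mem_cz.2 (congrArg Subtype.val hc).symm
    have hto : orderOf (⟨(t : G), htz⟩ : Cz K) = 2 := by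
      rw [← Subgroup.orderOf_coe, show ((⟨(t : G), htz⟩ : Cz K) : G) = (t : G) from rfl,
        Subgroup.orderOf_coe, ht, ← MulAut.conj_apply, (MulAut.conj h).orderOf_eq, hord]
    have h1 := S.only_involution hto (S.mem_H.1 t.2)
    apply Subtype.ext
    have h2 := congrArg Subtype.val h1
    rw [K.cov_z] at h2
    exact h2
  have hk := BrauerSuzukiQ.zstar hiso (⟨g, S.mem_H.2 hg⟩ : S.H)
  set k := K.z * g * K.z * g⁻¹ with hkdef
  have hkR : k ∈ S.R := ⟨_, hk, by
    show K.z * g * K.z⁻¹ * g⁻¹ = k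
    rw [hzi]⟩
  have hzkz : K.z * k * K.z⁻¹ = k⁻¹ := by
    rw [hkdef, hzi]
    simp only [mul_inv_rev, inv_inv, hzi, mul_assoc]
    rw [← mul_assoc K.z K.z, hzz, one_mul]
  have hodd : Odd (orderOf k) :=
    Odd.of_dvd_nat S.R_odd (Subgroup.orderOf_dvd_natCard _ hkR)
  obtain ⟨j, hj⟩ := hodd
  refine ⟨k ^ (j + 1), pow_mem hkR _, ?_, ?_⟩
  · have h1 : K.z * k ^ (j + 1) * K.z⁻¹ = (k ^ (j + 1))⁻¹ := by rw [← conj_pow, hzkz, inv_pow]
    rwa [hzi] at h1
  · set s := k ^ (j + 1) with hsd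
    have h1 : K.z * s * K.z⁻¹ = s⁻¹ := by rw [hsd, ← conj_pow, hzkz, inv_pow]
    have h2 : s * s = k := by
      rw [hsd, ← pow_add, show j + 1 + (j + 1) = orderOf k + 1 by omega, pow_succ,
        pow_orderOf_eq_one, one_mul]
    have h3 : K.z * (s * g) * K.z⁻¹ = s * g := by
      calc K.z * (s * g) * K.z⁻¹ = (K.z * s * K.z⁻¹) * (K.z * g * K.z⁻¹ * g⁻¹) * g := by group
        _ = s⁻¹ * k * g := by rw [h1, hzi, ← hkdef]
        _ = s * g := by rw [← h2]; group
    exact (mul_inv_eq_iff_eq_mul.1 h3).symm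

include S in
/-- A subgroup normalised by the centraliser of `x` in the cover, containing an element over a nontrivial
permutation of the last points, contains the central involution. -/
theorem z_mem_of_normalised {N0 : Subgroup (Cz K)}
    (hN : ∀ γ : Cz K, Commute (γ : G) (S.x : G) → ∀ k ∈ N0, γ * k * γ⁻¹ ∈ N0)
    {q : Cz K} (hq : q ∈ N0) (hqf : Fix3 (K.cov.φ q)) (hq1 : K.cov.φ q ≠ 1) :
    K.cov.z ∈ N0 := by
  let j : alternatingGroup ↥(rest n) →* Perm (Fin n) :=
    (alternatingGroup (Fin n)).subtype.comp (alternatingGroup.ofSubtype (rest n))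
  have hjfix : ∀ b, Fix3 (j b) := fun b i hi => by
    have h1 : i ∉ rest n := by simp [rest]; omega
    show (alternatingGroup.ofSubtype (rest n) b : Perm (Fin n)) i = i
    rw [alternatingGroup.coe_ofSubtype]
    exact ofSubtype_apply_of_not_mem _ h1
  have hjsign : ∀ b, sign (j b) = 1 := fun b =>
    mem_alternatingGroup.1 (alternatingGroup.ofSubtype (rest n) b).2
  have hjmem : ∀ σ : Perm (Fin n), Fix3 σ → sign σ = 1 → ∃ b, j b = σ := fun σ hf hs => by
    obtain ⟨b, hb⟩ := (alternatingGroup.mem_range_ofSubtype_iff (rest n)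
      ⟨σ, mem_alternatingGroup.2 hs⟩).2 (Perms.mem_rest_of_support hf)
    exact ⟨b, congrArg Subtype.val hb⟩
  let N := (N0.map K.cov.φ).comap j
  haveI : IsSimpleGroup (alternatingGroup ↥(rest n)) :=
    alternatingGroup.isSimpleGroup (by rw [Nat.card_eq_fintype_card, Fintype.card_coe]; exact p.card_rest)
  have hNn : N.Normal := ⟨fun a ha b => by
    obtain ⟨k, hk, hka⟩ := ha
    obtain ⟨γ, hγ⟩ := K.cov.exists_lift (hjsign b)
    have hγx := S.commute_x_of_fix3 (γ := γ) (by rw [hγ]; exact hjfix b)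
    refine ⟨γ * k * γ⁻¹, hN γ hγx k hk, ?_⟩
    rw [map_mul, map_mul, map_inv, hka, hγ, map_mul, map_mul, map_inv]⟩
  have htop : N = ⊤ := by
    refine hNn.eq_bot_or_eq_top.resolve_left fun hbot => ?_
    obtain ⟨b, hb⟩ := hjmem _ hqf (K.cov.sign_φ q)
    have hb' : b ∈ N := ⟨q, hq, hb.symm⟩
    rw [hbot, Subgroup.mem_bot] at hb'
    exact hq1 (by rw [← hb, hb', map_one])
  have hsign : ∀ d : Perm (Fin n), IsDT d → sign d = 1 := by
    rintro d ⟨a, b, c, e, hnd, rfl⟩
    simp only [List.nodup_cons, List.mem_cons, List.not_mem_nil, or_false, not_or] at hnd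
    rw [Perm.sign_mul, sign_swap hnd.1.1, sign_swap hnd.2.2.1]; rfl
  have hget : ∀ d : Perm (Fin n), Fix3 d → IsDT d → ∃ g ∈ N0, K.cov.φ g = d := fun d hf hd => by
    obtain ⟨b, hb⟩ := hjmem d hf (hsign d hd)
    have hb' : b ∈ N := htop ▸ Subgroup.mem_top b
    obtain ⟨g, hg, hgb⟩ := hb'
    exact ⟨g, hg, hgb.trans hb⟩
  obtain ⟨g, hg, hgd⟩ := hget _ p.d1_fix p.d1_dt
  obtain ⟨h, hh, hhd⟩ := hget _ p.d2_fix p.d2_dt
  have ha := K.cov.anti (g := g) (h := h) (by rw [hgd]; exact p.d1_dt) (by rw [hhd]; exact p.d2_dt)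
    (by rw [hgd, hhd]; exact p.d12_dt)
  rw [show K.cov.z = g * h * (h * g)⁻¹ by rw [ha, mul_inv_cancel_right]]
  exact mul_mem (mul_mem hg hh) (inv_mem (mul_mem hh hg))

theorem R_inf : S.R ⊓ Cz K = Subgroup.zpowers (S.x : G) := by
  refine le_antisymm ?_ (Subgroup.zpowers_le.2 ⟨S.x_mem_R, S.x.2⟩)
  rintro d ⟨hdR, hdC⟩
  set D : Subgroup (Cz K) := S.R.subgroupOf (Cz K) with hD
  have hD' : ∀ γ : Cz K, Commute (γ : G) (S.x : G) → ∀ k ∈ D, γ * k * γ⁻¹ ∈ D := by
    intro γ hγ k hk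
    rw [hD, Subgroup.mem_subgroupOf] at hk ⊢
    exact S.R_conj hγ hk
  have hzD : K.cov.z ∉ D := fun h => by
    rw [hD, Subgroup.mem_subgroupOf, K.cov_z] at h
    have h1 := Odd.of_dvd_nat S.R_odd (Subgroup.orderOf_dvd_natCard _ h)
    rw [K.hz] at h1
    exact absurd h1 (by decide)
  set d' : Cz K := ⟨d, hdC⟩ with hd'
  obtain ⟨e, he⟩ := p.exists_split (S.commute_cyc (γ := d') (S.R_commute hdR))
  set q : Cz K := (S.x ^ e.val)⁻¹ * d' with hq
  have hφq : K.cov.φ q = (p.cyc ^ e.val)⁻¹ * K.cov.φ d' := by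
    rw [hq, map_mul, map_inv, map_pow, S.φx]
  have hqD : q ∈ D := by
    refine mul_mem (inv_mem (pow_mem ?_ _)) (Subgroup.mem_subgroupOf.2 hdR)
    exact Subgroup.mem_subgroupOf.2 S.x_mem_R
  have hq1 : K.cov.φ q = 1 := by
    by_contra hne
    exact hzD (S.z_mem_of_normalised hD' hqD (by rw [hφq]; exact he) hne)
  rcases (K.cov.ker_iff q).1 hq1 with h | h
  · have h1 : d' = S.x ^ e.val := (inv_mul_eq_one.1 h).symm
    have h2 : d = (S.x : G) ^ e.val := congrArg Subtype.val h1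
    rw [h2]
    exact Subgroup.pow_mem _ (Subgroup.mem_zpowers _) _
  · exact absurd (h ▸ hqD) hzD

theorem card_zpowers : Nat.card (Subgroup.zpowers (S.x : G)) = 3 := by
  rw [Nat.card_zpowers, S.orderOf_x]

theorem eq_one_of_inv {r : G} (hr : r ∈ Subgroup.zpowers (S.x : G))
    (h : r = r⁻¹) : r = 1 := by
  have h2 : r ^ 2 = 1 := by rw [pow_two]; nth_rw 2 [h]; exact mul_inv_cancel r
  have h3 : r ^ 3 = 1 := by
    have := Subgroup.orderOf_dvd_natCard _ hr
    rw [S.card_zpowers] at this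
    exact orderOf_dvd_iff_pow_eq_one.1 this
  rwa [pow_succ, h2, one_mul] at h3

include S in
/-- The order formula for the odd core. -/
theorem exists_fixed : ∃ t1 : Cz K, orderOf t1 = 2 ∧ t1 ≠ K.cov.z ∧
    (∀ a ∈ S.R ⊓ Subgroup.centralizer ({(t1 : G)} : Set G), Commute a K.z → a = 1) ∧
    Nat.card S.R = 3 * Nat.card ↥(S.R ⊓ Subgroup.centralizer ({(t1 : G)} : Set G)) ^ 2 := by
  have hs : ∀ d : Perm (Fin n), IsDT d → sign d = 1 := by
    rintro d ⟨a, b, c, e, hnd, rfl⟩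
    simp only [List.nodup_cons, List.mem_cons, List.not_mem_nil, or_false, not_or] at hnd
    rw [Perm.sign_mul, sign_swap hnd.1.1, sign_swap hnd.2.2.1]; rfl
  obtain ⟨g, hg⟩ := K.cov.exists_lift (hs _ p.a_dt)
  obtain ⟨h, hh⟩ := K.cov.exists_lift (hs _ p.b_dt)
  obtain ⟨ε, hε⟩ := K.cov.exists_lift (hs _ p.β_dt)
  have hgh : Commute g h := K.cov.commute_of_disjoint (by rw [hg, hh]; exact p.a_b)
  have hεg : Commute ε g := K.cov.commute_of_disjoint (by rw [hε, hg]; exact p.β_a)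
  have hεh := K.cov.anti (g := ε) (h := h) (by rw [hε]; exact p.β_dt) (by rw [hh]; exact p.b_dt)
    (by rw [hε, hh]; exact p.βb_dt)
  set t1 := g * h with ht1
  have hφt : K.cov.φ t1 = p.a * p.b := by rw [ht1, map_mul, hg, hh]
  have htt : t1 * t1 = 1 := by
    rw [ht1, hgh.symm.mul_mul_mul_comm, K.cov.sq_dt g (by rw [hg]; exact p.a_dt),
      K.cov.sq_dt h (by rw [hh]; exact p.b_dt), K.cov.z_mul_self]
  have ht1' : t1 ≠ 1 := fun e => p.ab_ne (by rw [← hφt, e, map_one])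
  have htord : orderOf t1 = 2 := orderOf_eq_prime (by rw [pow_two, htt]) ht1'
  have htne : t1 ≠ K.cov.z := fun e => p.ab_ne (by rw [← hφt, e, K.cov.φ_z])
  have hinv : t1 * S.x * t1⁻¹ = S.x⁻¹ := by
    refine K.cov.odd_lift_unique ?_ (by rw [orderOf_inv]; exact S.odd_x) ?_
    · rw [← MulAut.conj_apply, (MulAut.conj t1).orderOf_eq]; exact S.odd_x
    · rw [map_mul, map_mul, map_inv, map_inv, S.φx, hφt, p.ab_inv]
  have hinvG : (t1 : G) * (S.x : G) * (t1 : G)⁻¹ = (S.x : G)⁻¹ := congrArg Subtype.val hinv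
  have hεt : ε * t1 = K.cov.z * t1 * ε := by
    rw [ht1, ← mul_assoc, hεg.eq, mul_assoc g ε h, hεh, ← mul_assoc g K.cov.z, K.cov.central g]
    group
  have hεx := S.commute_x_of_fix3 (γ := ε) (by rw [hε]; exact p.β_fix)
  have hεG : (ε : G) * (t1 : G) * (ε : G)⁻¹ = K.z * (t1 : G) := by
    have h1 : (ε : G) * (t1 : G) = K.z * (t1 : G) * (ε : G) := by
      have h0 := congrArg Subtype.val hεt
      simp only [Subgroup.coe_mul, K.cov_z] at h0
      exact h0
    rw [h1, mul_inv_cancel_right]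
  have hfix : ∀ a ∈ S.R ⊓ Subgroup.centralizer ({(t1 : G)} : Set G), Commute a K.z → a = 1 := by
    rintro a ⟨haR, hat⟩ haz
    have ha : a ∈ Subgroup.zpowers (S.x : G) := S.R_inf ▸ ⟨haR, mem_cz.2 haz⟩
    refine S.eq_one_of_inv ha ?_
    have hc : Commute a (t1 : G) := Subgroup.mem_centralizer_singleton_iff.1 hat
    obtain ⟨m, rfl⟩ := ha
    calc (S.x : G) ^ m = (t1 : G) * (S.x : G) ^ m * (t1 : G)⁻¹ := by
          rw [hc.symm.eq, mul_inv_cancel_right]
      _ = ((S.x : G) ^ m)⁻¹ := by rw [← conj_zpow, hinvG, inv_zpow]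
  refine ⟨t1, htord, htne, hfix, ?_⟩
  have hzR : ∀ r ∈ S.R, K.z * r * (K.z)⁻¹ ∈ S.R := fun r hr => S.R_conj (commute_z S.x).symm hr
  have htG : (t1 : G) * (t1 : G) = 1 := congrArg Subtype.val htt
  have h4 := CentFour74.four_card S.R S.R_odd (z_mul K) htG (commute_z t1).symm.eq (z_ne_one K)
    (fun e => ht1' (Subtype.ext e))
    (fun e => htne (Subtype.ext (by rw [K.cov_z]; exact e.symm))) hzR
    (fun r hr => S.R_conj_of hinvG hr)
  have hone : S.R ⊓ Subgroup.centralizer ({K.z, (t1 : G)} : Set G) = ⊥ := by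
    rw [eq_bot_iff]
    rintro a ⟨haR, hac⟩
    have h1 := Subgroup.mem_centralizer_iff.1 hac
    exact hfix a ⟨haR, Subgroup.mem_centralizer_singleton_iff.2 (h1 _ (by simp)).symm⟩
      (h1 _ (by simp)).symm
  have hmap : (S.R ⊓ Subgroup.centralizer ({(t1 : G)} : Set G)).map (MulAut.conj (ε : G)).toMonoidHom =
      S.R ⊓ Subgroup.centralizer ({K.z * (t1 : G)} : Set G) := by
    ext a
    constructor
    · rintro ⟨r, ⟨hrR, hrt⟩, rfl⟩
      refine ⟨S.R_conj hεx hrR, Subgroup.mem_centralizer_singleton_iff.2 ?_⟩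
      have h1 : Commute r (t1 : G) := Subgroup.mem_centralizer_singleton_iff.1 hrt
      have h2 := h1.map (MulAut.conj (ε : G)).toMonoidHom
      simp only [MulEquiv.coe_toMonoidHom, MulAut.conj_apply, hεG] at h2
      exact h2
    · rintro ⟨haR, hac⟩
      refine ⟨(ε : G)⁻¹ * a * (ε : G), ⟨?_, Subgroup.mem_centralizer_singleton_iff.2 ?_⟩, by
        simp only [MulEquiv.coe_toMonoidHom, MulAut.conj_apply]; group⟩
      · simpa using S.R_conj hεx.inv_left haR
      · have h1 : Commute a (K.z * (t1 : G)) := Subgroup.mem_centralizer_singleton_iff.1 hac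
        have h2 := h1.map (MulAut.conj (ε : G)⁻¹).toMonoidHom
        simp only [MulEquiv.coe_toMonoidHom, MulAut.conj_apply, inv_inv, ← hεG] at h2
        have e1 : (ε : G)⁻¹ * ((ε : G) * (t1 : G) * (ε : G)⁻¹) * (ε : G) = (t1 : G) := by group
        rw [e1] at h2
        exact h2
  rw [hone, Subgroup.card_bot, one_pow, one_mul, ← hmap,
    ← Nat.card_congr ((S.R ⊓ Subgroup.centralizer ({(t1 : G)} : Set G)).equivMapOfInjective _
      (MulAut.conj (ε : G)).injective).toEquiv] at h4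
  rw [← h4, show S.R ⊓ Subgroup.centralizer ({K.z} : Set G) = S.R ⊓ Cz K from rfl, S.R_inf,
    S.card_zpowers]
  ring

end Std

end Cfsg.Agent.Lib.DoubleAlt12.ThreeCentral
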