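import Cfsg.Agent.Lib.DoubleAlt12.TwelveLocal
import Cfsg.Agent.Lib.DoubleAlt12.Main
import Cfsg.Agent.Lib.DoubleAlt12.Move

/-!
# Degree 12: every involution other than the central one has four transpositions
-/

set_option autoImplicit false

namespace Cfsg.Agent.Lib.DoubleAlt12

open Equiv

universe u

namespace Twelve

variable {C : Type u} [Group C]

/-- The cover seen through a renumbering of the points. -/
def renumber (c : Cov C 12) (τ : Perm (Fin 12)) : Cov C 12 where
  φ := (MulAut.conj τ).toMonoidHom.comp c.φ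
  range_eq := by
    rw [MonoidHom.range_comp, c.range_eq]
    ext a
    simp only [Subgroup.mem_map, Perm.mem_alternatingGroup]
    constructor
    · rintro ⟨b, hb, rfl⟩
      show Perm.sign (τ * b * τ⁻¹) = 1
      rw [map_mul, map_mul, map_inv, hb, mul_one, mul_inv_cancel]
    · intro ha
      refine ⟨τ⁻¹ * a * τ, ?_, by simp [mul_assoc]⟩
      rw [map_mul, map_mul, map_inv, ha, mul_one, inv_mul_cancel]
  z := c.z
  hz := c.hz
  central := c.central
  ker_iff g := by
    rw [← c.ker_iff g]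
    exact map_eq_one_iff _ (MulAut.conj τ).injective
  sq_dt g h := by
    obtain ⟨p, q, r, s, hn, he⟩ := h
    refine c.sq_dt g ⟨τ⁻¹ p, τ⁻¹ q, τ⁻¹ r, τ⁻¹ s, ?_, ?_⟩
    · exact hn.map τ⁻¹.injective
    · have he' : τ * c.φ g * τ⁻¹ = swap p q * swap r s := he
      rw [Equiv.swap_apply_apply, Equiv.swap_apply_apply, inv_inv,
        show c.φ g = τ⁻¹ * (τ * c.φ g * τ⁻¹) * τ by group, he']
      group

theorem good (c : Cov C 12) [Finite C] {u : C} (hu : orderOf u = 2) (hne : u ≠ c.z) :
    P3 ↥(Subgroup.centralizer ({u} : Set C))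
        ⟨c.z, Subgroup.mem_centralizer_singleton_iff.2 (c.central u).symm⟩ ∧
      ¬ P3 ↥(Subgroup.centralizer ({u} : Set C)) ⟨u, Subgroup.mem_centralizer_singleton_iff.2 rfl⟩ := by
  obtain ⟨ho, hpos, hdvd⟩ := c.involution_support hu hne
  have h8 : (c.φ u).support.card = 8 := by
    have := Finset.card_le_univ (c.φ u).support
    rw [Fintype.card_fin] at this
    obtain ⟨k, hk⟩ := hdvd
    omega
  obtain ⟨τ, hτ⟩ : ∃ τ, τ * c.φ u * τ⁻¹ = pi0 := by
    have ho' : orderOf pi0 = 2 := orderOf_eq_prime (by rw [pow_two, pi0_sq]) pi0_ne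
    have key : ∀ σ : Perm (Fin 12), orderOf σ = 2 → σ.support.card = 8 →
        σ.cycleType = Multiset.replicate 4 2 := by
      intro σ h2 hc
      obtain ⟨k, hk⟩ := Perm.cycleType_prime_order (σ := σ) (by rw [h2]; exact Nat.prime_two)
      rw [h2] at hk
      have hs := σ.sum_cycleType
      rw [hk, Multiset.sum_replicate, hc, smul_eq_mul] at hs
      rw [hk, show k + 1 = 4 by omega]
    exact isConj_iff.1 (Perm.isConj_iff_cycleType_eq.2 ((key _ ho h8).trans (key _ ho' pi0_card).symm))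
  exact ⟨good_z (renumber c τ) (u := u) hτ, not_good (renumber c τ) (u := u) hτ hu⟩

/-- The centralisers of two involutions of `C_G(z)` exchanged by conjugation. -/
theorem false_of_move {G : Type u} [Group G] [Finite G] (K : Conf G 12)
    (t : Subgroup.centralizer ({K.z} : Set G)) (ht : orderOf t = 2) (hne : t ≠ K.cov.z)
    (hconj : IsConj (t : G) K.z) : False := by
  obtain ⟨g, hg⟩ := isConj_iff.1 hconj
  have hg' : g⁻¹ * K.z * g = (t : G) := (congrArg (fun y => g⁻¹ * y * g) hg).symm.trans (by group)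
  have hgz : Commute (g * K.z * g⁻¹) K.z := by
    have h : Commute K.z (t : G) := (Subgroup.mem_centralizer_singleton_iff.1 t.2).symm
    have h' := h.map (MulAut.conj g).toMonoidHom
    simpa [hg] using h'
  let v : Subgroup.centralizer ({K.z} : Set G) :=
    ⟨g * K.z * g⁻¹, Subgroup.mem_centralizer_singleton_iff.2 hgz.eq⟩
  have hv : orderOf v = 2 := by
    rw [Subgroup.orderOf_mk, show g * K.z * g⁻¹ = MulAut.conj g K.z from rfl, MulEquiv.orderOf_eq, K.hz]
  have hvne : v ≠ K.cov.z := fun h => hne (Subtype.ext (by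
    have h1 : g * K.z * g⁻¹ = K.z := (congrArg Subtype.val h).trans K.cov_z
    have h2 : g⁻¹ * K.z * g = K.z := (congrArg (fun y => g⁻¹ * y * g) h1).symm.trans (by group)
    exact hg'.symm.trans (h2.trans K.cov_z.symm)))
  have hmemW : ∀ (u x : Subgroup.centralizer ({K.z} : Set G)),
      x ∈ Subgroup.centralizer ({u} : Set _) ↔ (x : G) * u = u * x := fun u x =>
    Subgroup.mem_centralizer_singleton_iff.trans ⟨congrArg Subtype.val, fun h => Subtype.ext h⟩
  have hto : ∀ x : G, x * K.z = K.z * x → x * t = t * x →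
      Commute (g * x * g⁻¹) K.z ∧ Commute (g * x * g⁻¹) (g * K.z * g⁻¹) := fun x h1 h2 =>
    ⟨by rw [← hg]; exact Commute.map h2 (MulAut.conj g).toMonoidHom,
      Commute.map h1 (MulAut.conj g).toMonoidHom⟩
  have hfrom : ∀ x : G, x * K.z = K.z * x → x * (g * K.z * g⁻¹) = g * K.z * g⁻¹ * x →
      Commute (g⁻¹ * x * g) K.z ∧ Commute (g⁻¹ * x * g) (t : G) := fun x h1 h2 => by
    constructor
    · have := Commute.map h2 (MulAut.conj g⁻¹).toMonoidHom
      simpa [mul_assoc] using this
    · have := Commute.map h1 (MulAut.conj g⁻¹).toMonoidHom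
      simpa [hg', mul_assoc] using this
  let e : ↥(Subgroup.centralizer ({t} : Set (Subgroup.centralizer ({K.z} : Set G)))) ≃*
      ↥(Subgroup.centralizer ({v} : Set (Subgroup.centralizer ({K.z} : Set G)))) :=
    { toFun := fun x => ⟨⟨g * x.1.1 * g⁻¹, Subgroup.mem_centralizer_singleton_iff.2
        (hto _ (Subgroup.mem_centralizer_singleton_iff.1 x.1.2) ((hmemW t x.1).1 x.2)).1.eq⟩,
        (hmemW v _).2 (hto _ (Subgroup.mem_centralizer_singleton_iff.1 x.1.2) ((hmemW t x.1).1 x.2)).2.eq⟩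
      invFun := fun x => ⟨⟨g⁻¹ * x.1.1 * g, Subgroup.mem_centralizer_singleton_iff.2
        (hfrom _ (Subgroup.mem_centralizer_singleton_iff.1 x.1.2) ((hmemW v x.1).1 x.2)).1.eq⟩,
        (hmemW t _).2 (hfrom _ (Subgroup.mem_centralizer_singleton_iff.1 x.1.2) ((hmemW v x.1).1 x.2)).2.eq⟩
      left_inv := fun x => Subtype.ext (Subtype.ext (by show g⁻¹ * (g * x.1.1 * g⁻¹) * g = x.1.1; group))
      right_inv := fun x => Subtype.ext (Subtype.ext (by show g * (g⁻¹ * x.1.1 * g) * g⁻¹ = x.1.1; group))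
      map_mul' := fun x y => Subtype.ext (Subtype.ext (by
        show g * (x.1.1 * y.1.1) * g⁻¹ = g * x.1.1 * g⁻¹ * (g * y.1.1 * g⁻¹); group)) }
  obtain ⟨hz1, -⟩ := good K.cov ht hne
  obtain ⟨-, hv2⟩ := good K.cov hv hvne
  apply hv2
  convert p3_equiv _ _ e _ hz1 using 1
  exact Subtype.ext (Subtype.ext (by show g * K.z * g⁻¹ = g * (K.cov.z : G) * g⁻¹; rw [K.cov_z]))

end Twelve

/-- Degree 12 is impossible, given a second involution of the centraliser conjugate to the central one. -/
theorem twelve_of_move (hM : MoveStmt.{u}) : TwelveStmt.{u} := by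
  intro G _ _ _ K
  obtain ⟨t, ht, hne, hc⟩ := hM G 12 K (by omega)
  exact Twelve.false_of_move K t ht hne hc

/-- Degree 12 is impossible. -/
theorem twelve : TwelveStmt.{u} :=
  twelve_of_move fun _ _ _ _ _ K hn => Conf.exists_move K hn

end Cfsg.Agent.Lib.DoubleAlt12
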