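import Cfsg.Agent.Lib.DoubleAlt12.Cover

/-!
# Degree 12: a property of centralisers of involutions that separates the central involution

`P3 W ω`: some element of order three of `W` has a centraliser of order at least 576 and a commutator
with it squaring to `ω`.  In the centraliser of an involution with four transpositions this holds for the
central involution and for no other.
-/

set_option autoImplicit false

namespace Cfsg.Agent.Lib.DoubleAlt12

open Equiv

universe u

namespace Twelve

/-- The separating property. -/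
def P3 (W : Type u) [Group W] (ω : W) : Prop :=
  orderOf ω = 2 ∧ ∃ c : W, orderOf c = 3 ∧ 576 ≤ Nat.card (Subgroup.centralizer ({c} : Set W)) ∧
    ∃ w : W, (w * c * w⁻¹ * c⁻¹) ^ 2 = ω

theorem p3_equiv (H J : Type u) [Group H] [Group J] (e : H ≃* J) (ω : H) (h : P3 H ω) : P3 J (e ω) := by
  obtain ⟨h2, c, hc, hcard, w, hw⟩ := h
  refine ⟨by rw [e.orderOf_eq, h2], e c, by rw [e.orderOf_eq, hc], hcard.trans (le_of_eq ?_), e w, ?_⟩
  · refine Nat.card_congr ((e.subgroupMap _).toEquiv.trans (Equiv.setCongr ?_))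
    ext y
    simp only [Subgroup.coe_map, Set.mem_image, SetLike.mem_coe, Subgroup.mem_centralizer_singleton_iff]
    constructor
    · rintro ⟨x, hx, rfl⟩
      show e x * e c = e c * e x
      rw [← map_mul, ← map_mul, hx]
    · intro hy
      exact ⟨e.symm y, e.injective (by simpa using hy), e.apply_symm_apply y⟩
  · rw [← hw]; simp

/-- Four transpositions. -/
def pi0 : Perm (Fin 12) := swap 0 1 * swap 2 3 * swap 4 5 * swap 6 7

/-- A three cycle on the fixed points. -/
def gam : Perm (Fin 12) := swap 8 9 * swap 9 10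

/-- A product of two transpositions on the fixed points. -/
def dfix : Perm (Fin 12) := swap 8 9 * swap 10 11

/-- Two pairs at once. -/
def flipAt (i : Fin 3) : Perm (Fin 12) :=
  match i with
  | 0 => swap 0 1 * swap 2 3
  | 1 => swap 0 1 * swap 4 5
  | 2 => swap 0 1 * swap 6 7

/-- A three cycle of pairs. -/
def sPair : Perm (Fin 12) := swap 0 2 * swap 2 4 * (swap 1 3 * swap 3 5)

/-- A three cycle of pairs. -/
def rPair : Perm (Fin 12) := swap 0 2 * swap 2 6 * (swap 1 3 * swap 3 7)

/-- The commuting permutations that are counted. -/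
def members : List (Perm (Fin 12)) :=
  [1, flipAt 0].flatMap fun a => [1, flipAt 1].flatMap fun b => [1, flipAt 2].flatMap fun d =>
  [1, sPair * rPair, sPair * (sPair * rPair) * sPair⁻¹,
    sPair * rPair * (sPair * (sPair * rPair) * sPair⁻¹)].flatMap fun v =>
  [1, sPair, sPair * sPair].flatMap fun s => [1, gam, gam * gam].map fun g => a * b * d * v * s * g

/-- The images of a permutation as a number. -/
def code (a : Perm (Fin 12)) : ℕ := (List.finRange 12).foldl (fun r i => 12 * r + (a i).val) 0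

theorem members_nodup : decide (members.map code).Nodup = true := by decide +kernel

theorem members_length : members.length = 288 := by decide +kernel

theorem pi0_sq : pi0 * pi0 = 1 := by decide +kernel

theorem pi0_ne : pi0 ≠ 1 := by decide +kernel

theorem pi0_card : pi0.support.card = 8 := by decide +kernel

theorem pi0_high : ∀ i : Fin 12, pi0 i = i ↔ 8 ≤ i.val := by decide +kernel

variable {C : Type u} [Group C] [Finite C] (c : Cov C 12)

omit [Finite C] in
theorem sgn (g : C) : Perm.sign (c.φ g) = 1 :=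
  Perm.mem_alternatingGroup.1 (c.range_eq ▸ ⟨g, rfl⟩)

omit [Finite C] in
theorem lift {a : Perm (Fin 12)} (ha : Perm.sign a = 1) : ∃ g, c.φ g = a :=
  MonoidHom.mem_range.1 (c.range_eq ▸ Perm.mem_alternatingGroup.2 ha)

omit [Finite C] in
theorem zz : c.z * c.z = 1 := by rw [← pow_two, ← c.hz]; exact pow_orderOf_eq_one _

omit [Finite C] in
theorem eq_or {g h : C} (e : c.φ g = c.φ h) : g = h ∨ g = c.z * h := by
  rcases (c.ker_iff (g * h⁻¹)).1 (by rw [map_mul, map_inv, e, mul_inv_cancel]) with h1 | h1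
  · exact Or.inl (mul_inv_eq_one.1 h1)
  · exact Or.inr (mul_inv_eq_iff_eq_mul.1 h1)

omit [Finite C] in
theorem commute_z (g : C) : Commute g c.z := c.central g

omit [Finite C] in
theorem comm_or {g h : C} (e : Commute (c.φ g) (c.φ h)) : Commute g h ∨ g * h = c.z * (h * g) := by
  rcases eq_or c (show c.φ (g * h) = c.φ (h * g) by rw [map_mul, map_mul]; exact e.eq) with h1 | h1
  exacts [Or.inl h1, Or.inr h1]

omit [Finite C] in
theorem comm_of_cube {g h : C} (hg : g ^ 3 = 1) (e : Commute (c.φ g) (c.φ h)) : Commute g h := by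
  rcases comm_or c e with h1 | h1
  · exact h1
  exfalso
  have key : ∀ m : ℕ, g ^ m * h = c.z ^ m * (h * g ^ m) := by
    intro m
    induction m with
    | zero => simp
    | succ m ih =>
      have hzm : Commute g (c.z ^ m) := (commute_z c g).pow_right m
      calc g ^ (m + 1) * h = g * (c.z ^ m * (h * g ^ m)) := by rw [pow_succ', mul_assoc, ih]
        _ = c.z ^ m * (g * h * g ^ m) := by rw [← mul_assoc, hzm.eq, mul_assoc, ← mul_assoc g]
        _ = c.z ^ (m + 1) * (h * g ^ (m + 1)) := by
          rw [h1, pow_succ', pow_succ', ((Commute.refl c.z).pow_right m).eq]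
          simp only [mul_assoc]
  have h3 := key 3
  rw [hg, one_mul, mul_one, show c.z ^ 3 = c.z by rw [pow_succ, pow_two, zz c, one_mul]] at h3
  have : orderOf c.z = 1 := by rw [mul_eq_right.1 h3.symm, orderOf_one]
  rw [c.hz] at this
  omega

theorem cube_lift {a : Perm (Fin 12)} (ha : Perm.sign a = 1) (h3 : a ^ 3 = 1) :
    ∃ g, c.φ g = a ∧ g ^ 3 = 1 := by
  obtain ⟨g, rfl⟩ := lift c ha
  refine ⟨g ^ 4, ?_, ?_⟩
  · rw [map_pow, pow_succ, h3, one_mul]
  · rw [← pow_mul, show 4 * 3 = 3 * 2 * 2 by norm_num, pow_mul]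
    have h6 : (g ^ (3 * 2)) = 1 := by
      rcases (c.ker_iff (g ^ 3)).1 (by rw [map_pow, h3]) with h | h
      · rw [pow_mul, h, one_pow]
      · rw [pow_mul, h, pow_two, zz c]
    rw [h6, one_pow]

/-- Elements centralising `u` and `x`. -/
def both (u x : C) : Subgroup C := Subgroup.centralizer {u} ⊓ Subgroup.centralizer {x}

omit [Finite C] in
theorem mem_both {u x g : C} : g ∈ both u x ↔ g * u = u * g ∧ g * x = x * g := by
  rw [both, Subgroup.mem_inf, Subgroup.mem_centralizer_singleton_iff, Subgroup.mem_centralizer_singleton_iff]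

omit [Finite C] in
theorem card_both (u : C) (x : ↥(Subgroup.centralizer ({u} : Set C))) :
    Nat.card (Subgroup.centralizer ({x} : Set ↥(Subgroup.centralizer ({u} : Set C)))) =
      Nat.card (both u (x : C)) := by
  refine Nat.card_congr
    { toFun := fun g => ⟨(g.1 : C), mem_both.2 ⟨Subgroup.mem_centralizer_singleton_iff.1 g.1.2,
        congrArg Subtype.val (Subgroup.mem_centralizer_singleton_iff.1 g.2)⟩⟩
      invFun := fun g => ⟨⟨g.1, Subgroup.mem_centralizer_singleton_iff.2 (mem_both.1 g.2).1⟩,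
        Subgroup.mem_centralizer_singleton_iff.2 (Subtype.ext (mem_both.1 g.2).2)⟩
      left_inv := fun g => rfl
      right_inv := fun g => rfl }

/-- The part of the centraliser proving the property for the central involution. -/
theorem good_z {u : C}
    (hu : c.φ u = pi0) :
    P3 ↥(Subgroup.centralizer ({u} : Set C))
      ⟨c.z, Subgroup.mem_centralizer_singleton_iff.2 (c.central u).symm⟩ := by
  classical
  obtain ⟨x, hx, hx3⟩ := cube_lift c (a := gam) (by simp [gam]) (by decide +kernel)
  obtain ⟨w, hw⟩ := lift c (a := dfix) (by simp [dfix])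
  have hxu : x * u = u * x := comm_of_cube c hx3 (by
    rw [hx, hu]; exact show gam * pi0 = pi0 * gam by decide +kernel)
  have hwu : w * u = u * w := c.commute_of_disjoint (by
    rw [hw, hu]; exact fun i => (show ∀ j, dfix j = j ∨ pi0 j = j by decide +kernel) i)
  have hz1 : c.φ c.z = 1 := (c.ker_iff _).2 (Or.inr rfl)
  refine ⟨?_, ⟨x, Subgroup.mem_centralizer_singleton_iff.2 hxu⟩, ?_, ?_,
    ⟨w, Subgroup.mem_centralizer_singleton_iff.2 hwu⟩, ?_⟩
  · rw [Subgroup.orderOf_mk]; exact c.hz
  · rw [Subgroup.orderOf_mk]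
    refine orderOf_eq_prime hx3 fun h => ?_
    rw [h, map_one] at hx
    exact absurd hx.symm (show gam ≠ 1 by decide +kernel)
  · rw [card_both]
    show 576 ≤ Nat.card (both u x)
    have hgen : ∀ a ∈ [flipAt 0, flipAt 1, flipAt 2, sPair, rPair, gam], a ∈ (both u x).map c.φ := by
      have hflip : ∀ (a b : Perm (Fin 12)), Perm.sign a = 1 → Perm.sign b = 1 → a * b = pi0 →
          a.Disjoint b → a.Disjoint gam → a ∈ (both u x).map c.φ := by
        intro a b ha hb hab hd hdg
        obtain ⟨g, rfl⟩ := lift c ha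
        obtain ⟨h, rfl⟩ := lift c hb
        refine ⟨g, mem_both.2 ⟨?_, c.commute_of_disjoint (by rw [hx]; exact hdg)⟩, rfl⟩
        have hgh : Commute g (g * h) := (Commute.refl g).mul_right (c.commute_of_disjoint hd)
        rcases eq_or c (show c.φ u = c.φ (g * h) by rw [map_mul, hab, hu]) with e | e <;> rw [e]
        · exact hgh.eq
        · exact ((commute_z c g).mul_right hgh).eq
      have hthree : ∀ a : Perm (Fin 12), Perm.sign a = 1 → a ^ 3 = 1 → a * pi0 = pi0 * a → a * gam = gam * a →
          a ∈ (both u x).map c.φ := by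
        intro a ha h3 hp hg
        obtain ⟨g, rfl, hg3⟩ := cube_lift c ha h3
        refine ⟨g, mem_both.2 ⟨(comm_of_cube c hg3 (by rw [hu]; exact hp)).eq,
          (comm_of_cube c hg3 (by rw [hx]; exact hg)).eq⟩, rfl⟩
      intro a ha
      simp only [List.mem_cons, List.not_mem_nil, or_false] at ha
      rcases ha with rfl | rfl | rfl | rfl | rfl | rfl
      · exact hflip _ (swap 4 5 * swap 6 7) (by simp [flipAt]) (by simp) (by decide +kernel)
          (fun i => (show ∀ j, flipAt 0 j = j ∨ (swap 4 5 * swap 6 7 : Perm (Fin 12)) j = j by decide +kernel) i)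
          (fun i => (show ∀ j, flipAt 0 j = j ∨ gam j = j by decide +kernel) i)
      · exact hflip _ (swap 2 3 * swap 6 7) (by simp [flipAt]) (by simp) (by decide +kernel)
          (fun i => (show ∀ j, flipAt 1 j = j ∨ (swap 2 3 * swap 6 7 : Perm (Fin 12)) j = j by decide +kernel) i)
          (fun i => (show ∀ j, flipAt 1 j = j ∨ gam j = j by decide +kernel) i)
      · exact hflip _ (swap 2 3 * swap 4 5) (by simp [flipAt]) (by simp) (by decide +kernel)
          (fun i => (show ∀ j, flipAt 2 j = j ∨ (swap 2 3 * swap 4 5 : Perm (Fin 12)) j = j by decide +kernel) i)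
          (fun i => (show ∀ j, flipAt 2 j = j ∨ gam j = j by decide +kernel) i)
      · exact hthree _ (by simp [sPair]) (by decide +kernel) (by decide +kernel) (by decide +kernel)
      · exact hthree _ (by simp [rPair]) (by decide +kernel) (by decide +kernel) (by decide +kernel)
      · exact hthree _ (by simp [gam]) (by decide +kernel) (by decide +kernel) rfl
    have hmem : ∀ a ∈ members, a ∈ (both u x).map c.φ := by
      simp only [List.forall_mem_cons, List.not_mem_nil, IsEmpty.forall_iff, implies_true, and_true] at hgen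
      obtain ⟨h0, h1, h2, hs, hr, hg⟩ := hgen
      intro a ha
      simp only [members, List.mem_flatMap, List.mem_map, List.mem_cons, List.not_mem_nil, or_false] at ha
      obtain ⟨a1, ha1, a2, ha2, a3, ha3, v, hv, s, hs', g, hg', rfl⟩ := ha
      have one := one_mem ((both u x).map c.φ)
      have hv1 := mul_mem hs hr
      have hv2 := mul_mem (mul_mem hs hv1) (inv_mem hs)
      refine mul_mem (mul_mem (mul_mem (mul_mem (mul_mem ?_ ?_) ?_) ?_) ?_) ?_
      · rcases ha1 with rfl | rfl; exacts [one, h0]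
      · rcases ha2 with rfl | rfl; exacts [one, h1]
      · rcases ha3 with rfl | rfl; exacts [one, h2]
      · rcases hv with rfl | rfl | rfl | rfl; exacts [one, hv1, hv2, mul_mem hv1 hv2]
      · rcases hs' with rfl | rfl | rfl; exacts [one, hs, mul_mem hs hs]
      · rcases hg' with rfl | rfl | rfl; exacts [one, hg, mul_mem hg hg]
    have hnd : members.Nodup := List.Nodup.of_map code (of_decide_eq_true members_nodup)
    have hzb : c.z ∈ both u x := mem_both.2 ⟨(c.central u).symm, (c.central x).symm⟩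
    choose f hf hfφ using fun i : Fin members.length => hmem _ (List.getElem_mem i.2)
    have hinj : Function.Injective (fun q : Bool × Fin members.length =>
        (if q.1 then ⟨c.z * f q.2, mul_mem hzb (hf q.2)⟩ else ⟨f q.2, hf q.2⟩ : both u x)) := by
      intro q q' h
      have h' : (if q.1 then c.z * f q.2 else f q.2) = if q'.1 then c.z * f q'.2 else f q'.2 := by
        have := congrArg Subtype.val h
        simpa only [apply_ite Subtype.val] using this
      have himg := congrArg c.φ h'
      simp only [apply_ite c.φ, map_mul, hz1, one_mul, ite_self, hfφ] at himg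
      have h2 : q.2 = q'.2 := Fin.ext ((hnd.getElem_inj_iff).1 himg)
      refine Prod.ext ?_ h2
      rw [← h2] at h'
      have hz : c.z ≠ 1 := fun e => by have := c.hz; rw [e, orderOf_one] at this; omega
      cases hb : q.1 <;> cases hb' : q'.1 <;> simp [hb, hb', hz] at h' ⊢
    have := Nat.card_le_card_of_injective _ hinj
    simpa [members_length] using this
  · refine Subtype.ext ?_
    rw [SubgroupClass.coe_pow]
    show (w * x * w⁻¹ * x⁻¹) ^ 2 = c.z
    rw [pow_two]
    refine c.sq_dt _ ?_
    rw [map_mul, map_mul, map_mul, map_inv, map_inv, hw, hx]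
    exact ⟨8, 10, 9, 11, by decide +kernel, by decide +kernel⟩

theorem quad_sq : ∀ k : Perm (Fin 4), Perm.sign k = 1 → k ^ 4 = 1 → k ^ 2 = 1 := by decide +kernel

/-- The fixed points. -/
def fixEquiv : Fin 4 ≃ {i : Fin 12 // 8 ≤ i.val} where
  toFun i := ⟨⟨i.val + 8, by omega⟩, by simp⟩
  invFun i := ⟨i.1.val - 8, by have := i.1.2; omega⟩
  left_inv i := Fin.ext (by simp)
  right_inv i := Subtype.ext (Fin.ext (by have := i.2; simp; omega))

theorem high_sq {k : Perm (Fin 12)} (hk : ∀ i : Fin 12, i.val < 8 → k i = i) (hs : Perm.sign k = 1)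
    (h4 : k ^ 4 = 1) : k ^ 2 = 1 := by
  have hiff : ∀ i : Fin 12, 8 ≤ i.val ↔ 8 ≤ (k i).val := by
    intro i
    constructor
    · intro h
      by_contra h'
      have := k.injective (hk (k i) (by omega))
      omega
    · intro h
      by_contra h'
      rw [hk i (by omega)] at h
      omega
  obtain ⟨k', hk'⟩ : ∃ k' : Perm {i : Fin 12 // 8 ≤ i.val}, Perm.ofSubtype k' = k :=
    ⟨k.subtypePerm (fun i => (hiff i).symm), Perm.ofSubtype_subtypePerm _ fun i hi => by
      by_contra h; exact hi (hk i (by omega))⟩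
  obtain ⟨j, hj⟩ : ∃ j : Perm (Fin 4), fixEquiv.permCongrHom j = k' :=
    ⟨fixEquiv.permCongrHom.symm k', fixEquiv.permCongrHom.apply_symm_apply k'⟩
  have hinj : Function.Injective (fun q => Perm.ofSubtype (fixEquiv.permCongrHom q) : Perm (Fin 4) → _) :=
    Perm.ofSubtype_injective.comp fixEquiv.permCongrHom.injective
  rw [← hk', ← hj] at hs h4 ⊢
  rw [Perm.sign_ofSubtype, Equiv.permCongrHom_coe, Perm.sign_permCongr] at hs
  have hj4 : j ^ 4 = 1 := hinj (by simp only [map_pow, map_one]; exact h4)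
  rw [← map_pow, ← map_pow, quad_sq j hs hj4, map_one, map_one]

theorem not_good {u : C} (hu : c.φ u = pi0) (hu2 : orderOf u = 2) :
    ¬ P3 ↥(Subgroup.centralizer ({u} : Set C))
      ⟨u, Subgroup.mem_centralizer_singleton_iff.2 rfl⟩ := by
  classical
  rintro ⟨-, ⟨x, hx⟩, hx3, hcard, ⟨w, hw⟩, hω⟩
  rw [Subgroup.orderOf_mk] at hx3
  have hω' : (w * x * w⁻¹ * x⁻¹) ^ 2 = u := by
    have := congrArg Subtype.val hω
    simpa using this
  have hcx : c.φ x * pi0 = pi0 * c.φ x := by
    rw [← hu, ← map_mul, ← map_mul, Subgroup.mem_centralizer_singleton_iff.1 hx]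
  have hcw : c.φ w * pi0 = pi0 * c.φ w := by
    rw [← hu, ← map_mul, ← map_mul, Subgroup.mem_centralizer_singleton_iff.1 hw]
  obtain ⟨g, hg⟩ : ∃ g, g = c.φ x := ⟨_, rfl⟩
  rw [← hg] at hcx
  have hg3 : g ^ 3 = 1 := by rw [hg, ← map_pow, ← hx3, pow_orderOf_eq_one, map_one]
  have hpres : ∀ (f : Perm (Fin 12)), f * pi0 = pi0 * f → ∀ i : Fin 12, i.val < 8 → (f i).val < 8 := by
    intro f hf i hi
    by_contra h
    have h1 : pi0 (f i) = f i := (pi0_high _).2 (by omega)
    rw [← Perm.mul_apply, ← hf, Perm.mul_apply] at h1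
    have := (pi0_high i).1 (f.injective h1)
    omega
  by_cases hall : ∀ i : Fin 12, i.val < 8 → g i = i
  · have hφ : c.φ u = (c.φ w * g * (c.φ w)⁻¹ * g⁻¹) ^ 2 := by
      rw [← hω', hg]; simp
    obtain ⟨k, hk⟩ : ∃ k, k = c.φ w * g * (c.φ w)⁻¹ * g⁻¹ := ⟨_, rfl⟩
    rw [← hk, hu] at hφ
    have hksupp : ∀ i : Fin 12, i.val < 8 → k i = i := by
      intro i hi
      have hi' : ((c.φ w)⁻¹ i).val < 8 :=
        hpres _ ((show Commute (c.φ w) pi0 from hcw).inv_left.eq) i hi
      have h1 : g⁻¹ i = i := by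
        conv_lhs => rw [← hall i hi]
        simp
      rw [hk, Perm.mul_apply, h1, Perm.mul_apply, Perm.mul_apply, hall _ hi']
      simp
    have hks : Perm.sign k = 1 := by
      rw [hk, hg, ← map_inv, ← map_inv, ← map_mul, ← map_mul, ← map_mul]; exact sgn c _
    have hk4 : k ^ 4 = 1 := by
      rw [show 4 = 2 * 2 by norm_num, pow_mul, ← hφ, pow_two, pi0_sq]
    rw [high_sq hksupp hks hk4] at hφ
    exact pi0_ne hφ
  push Not at hall
  obtain ⟨a, ha8, hga⟩ := hall
  have hga8 : (g a).val < 8 := hpres g hcx a ha8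
  have hgg8 : (g (g a)).val < 8 := hpres g hcx _ hga8
  have hpg : ∀ i, pi0 (g i) = g (pi0 i) := fun i => by
    rw [← Perm.mul_apply, ← hcx, Perm.mul_apply]
  have hggg : ∀ i, g (g (g i)) = i := fun i => by
    have := congrArg (fun f : Perm (Fin 12) => f i) hg3
    simpa [pow_succ] using this
  have hpp : ∀ i, pi0 (pi0 i) = i := fun i => by
    rw [← Perm.mul_apply, pi0_sq]; rfl
  have hpne : ∀ i : Fin 12, i.val < 8 → pi0 i ≠ i := fun i hi h => by
    have := (pi0_high i).1 h; omega
  have hgp : g a ≠ pi0 a := by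
    intro h
    have h2 : g (g a) = a := by rw [h, ← hpg, h, hpp]
    exact hga (by conv_rhs => rw [← hggg a, h2])
  let O : Finset (Fin 12) := {a, g a, g (g a), pi0 a, pi0 (g a), pi0 (g (g a))}
  have hOc : O.card = 6 := by
    have e1 : g (g a) ≠ a := fun h => hga (by conv_rhs => rw [← hggg a, h])
    have e2 : g (g a) ≠ g a := fun h => hga (g.injective h)
    have e3 : g (g a) ≠ pi0 (g a) := fun h => hgp (g.injective (h.trans (hpg a)))
    have e4 : g (g a) ≠ pi0 a := fun h => by
      have h5 : a = pi0 (g a) := by rw [hpg, ← h, hggg]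
      exact hgp (by conv_lhs => rw [← hpp (g a), ← h5])
    have e5 : pi0 (g a) ≠ a := fun h => hgp (by conv_lhs => rw [← hpp (g a), h])
    have e6 : pi0 (g (g a)) ≠ a := fun h => e4 (by conv_lhs => rw [← hpp (g (g a)), h])
    have e7 : pi0 (g (g a)) ≠ g a := fun h => e3 (by conv_lhs => rw [← hpp (g (g a)), h])
    rw [Finset.card_insert_of_notMem, Finset.card_insert_of_notMem, Finset.card_insert_of_notMem,
      Finset.card_insert_of_notMem, Finset.card_insert_of_notMem, Finset.card_singleton]
    · simp [pi0.injective.eq_iff, e2.symm]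
    · simp [pi0.injective.eq_iff, hga.symm, e1.symm]
    · simp only [Finset.mem_insert, Finset.mem_singleton]
      rintro (h | h | h)
      exacts [e4 h, e3 h, hpne _ hgg8 h.symm]
    · simp only [Finset.mem_insert, Finset.mem_singleton]
      rintro (h | h | h | h)
      exacts [e2 h.symm, hgp h, hpne _ hga8 h.symm, e7 h.symm]
    · simp only [Finset.mem_insert, Finset.mem_singleton]
      rintro (h | h | h | h | h)
      exacts [hga h.symm, e1 h.symm, hpne _ ha8 h.symm, e5 h.symm, e6 h.symm]
  have hO8 : ∀ i ∈ O, i.val < 8 := by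
    intro i hi
    simp only [O, Finset.mem_insert, Finset.mem_singleton] at hi
    rcases hi with rfl | rfl | rfl | rfl | rfl | rfl
    exacts [ha8, hga8, hgg8, hpres pi0 rfl _ ha8, hpres pi0 rfl _ hga8, hpres pi0 rfl _ hgg8]
  obtain ⟨R, hRdef⟩ : ∃ R : Subgroup (Perm (Fin 12)), R = (both u x).map c.φ := ⟨_, rfl⟩
  have hR : ∀ f ∈ R, f * pi0 = pi0 * f ∧ f * g = g * f ∧ Perm.sign f = 1 := by
    intro f hf
    rw [hRdef] at hf
    obtain ⟨d, hd, rfl⟩ := hf
    obtain ⟨d1, d2⟩ := mem_both.1 hd
    refine ⟨?_, ?_, sgn c d⟩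
    · rw [← hu, ← map_mul, ← map_mul, d1]
    · rw [hg, ← map_mul, ← map_mul, d2]
  have hhigh : ∀ f ∈ R, ∀ j : Fin 12, 8 ≤ j.val → 8 ≤ (f j).val := fun f hf j hj => by
    refine (pi0_high _).1 ?_
    rw [← Perm.mul_apply, ← (hR f hf).1, Perm.mul_apply, (pi0_high j).2 hj]
  let m : ↥R → {i : Fin 12 // i.val < 8} × (Fin 4 ↪ {i : Fin 12 // 8 ≤ i.val}) := fun f =>
    (⟨f.1 a, hpres f.1 (hR f.1 f.2).1 a ha8⟩,
      ⟨fun j => ⟨f.1 (fixEquiv j), hhigh f.1 f.2 _ (fixEquiv j).2⟩,
        fun i j h => fixEquiv.injective (Subtype.ext (f.1.injective (congrArg Subtype.val h)))⟩)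
  have hm : Function.Injective m := by
    intro f f' h
    obtain ⟨h1, h2⟩ := Prod.ext_iff.1 h
    have ha' : f.1 a = f'.1 a := congrArg Subtype.val h1
    have hj : ∀ j : Fin 12, 8 ≤ j.val → f.1 j = f'.1 j := by
      intro j hj
      have := congrArg Subtype.val (DFunLike.congr_fun h2 (fixEquiv.symm ⟨j, hj⟩))
      change f.1 (fixEquiv (fixEquiv.symm ⟨j, hj⟩)).1 = f'.1 (fixEquiv (fixEquiv.symm ⟨j, hj⟩)).1 at this
      rwa [Equiv.apply_symm_apply] at this
    obtain ⟨e, he⟩ : ∃ e, e = f'.1⁻¹ * f.1 := ⟨_, rfl⟩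
    have heR : e ∈ R := he ▸ mul_mem (inv_mem f'.2) f.2
    obtain ⟨ep, eg, es⟩ := hR e heR
    have hea : e a = a := by rw [he, Perm.mul_apply, ha']; simp
    have hcp : ∀ i, e i = i → e (pi0 i) = pi0 i := fun i hi => by
      rw [← Perm.mul_apply, ep, Perm.mul_apply, hi]
    have hcg : ∀ i, e i = i → e (g i) = g i := fun i hi => by
      rw [← Perm.mul_apply, eg, Perm.mul_apply, hi]
    have heO : ∀ i ∈ O, e i = i := by
      intro i hi
      simp only [O, Finset.mem_insert, Finset.mem_singleton] at hi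
      rcases hi with rfl | rfl | rfl | rfl | rfl | rfl
      exacts [hea, hcg _ hea, hcg _ (hcg _ hea), hcp _ hea, hcp _ (hcg _ hea), hcp _ (hcg _ (hcg _ hea))]
    have hsub : e.support ⊆ (Finset.univ.filter fun i : Fin 12 => i.val < 8) \ O := by
      intro i hi
      rw [Perm.mem_support] at hi
      rw [Finset.mem_sdiff, Finset.mem_filter]
      refine ⟨⟨Finset.mem_univ _, ?_⟩, fun h => hi (heO i h)⟩
      by_contra hi8
      exact hi (by rw [he, Perm.mul_apply, hj i (by omega)]; simp)
    have hcard2 : e.support.card ≤ 2 := by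
      refine (Finset.card_le_card hsub).trans (le_of_eq ?_)
      rw [Finset.card_sdiff_of_subset (fun i hi => Finset.mem_filter.2 ⟨Finset.mem_univ _, hO8 i hi⟩), hOc,
        show (Finset.univ.filter fun i : Fin 12 => i.val < 8).card = 8 by decide]
    have he1 : e = 1 := by
      by_contra hne
      have h2 : e.support.card = 2 := le_antisymm hcard2 (Perm.two_le_card_support_of_ne_one hne)
      rw [(Perm.card_support_eq_two.1 h2).sign_eq] at es
      exact absurd es (by decide)
    rw [he, inv_mul_eq_one] at he1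
    exact Subtype.ext he1.symm
  have hRc : Nat.card ↥R ≤ 192 := by
    refine (Nat.card_le_card_of_injective m hm).trans (le_of_eq ?_)
    rw [Nat.card_prod, Nat.card_eq_fintype_card, Nat.card_eq_fintype_card,
      Fintype.card_embedding_eq, Fintype.card_fin, ← Fintype.card_congr fixEquiv, Fintype.card_fin,
      show Fintype.card {i : Fin 12 // i.val < 8} = 8 by decide]
    decide
  rw [card_both] at hcard
  change 576 ≤ Nat.card (both u x) at hcard
  let m2 : ↥(both u x) → Bool × ↥R := fun d =>
    (decide (d.1 = Classical.choose (show ∃ d' ∈ both u x, c.φ d' = c.φ d.1 from ⟨d.1, d.2, rfl⟩)),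
      ⟨c.φ d.1, hRdef ▸ ⟨d.1, d.2, rfl⟩⟩)
  have hm2 : Function.Injective m2 := by
    intro d d' h
    obtain ⟨h1, h2⟩ := Prod.ext_iff.1 h
    have hφe : c.φ d.1 = c.φ d'.1 := congrArg Subtype.val h2
    obtain ⟨p, hp⟩ : ∃ p, p = Classical.choose
        (show ∃ d'' ∈ both u x, c.φ d'' = c.φ d.1 from ⟨d.1, d.2, rfl⟩) := ⟨_, rfl⟩
    have hp' : p = Classical.choose
        (show ∃ d'' ∈ both u x, c.φ d'' = c.φ d'.1 from ⟨d'.1, d'.2, rfl⟩) := by
      rw [hp]; congr 1; funext q; rw [hφe]
    have hpφ : c.φ p = c.φ d.1 := hp ▸ (Classical.choose_spec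
        (show ∃ d'' ∈ both u x, c.φ d'' = c.φ d.1 from ⟨d.1, d.2, rfl⟩)).2
    simp only [m2, ← hp, ← hp', decide_eq_decide] at h1
    refine Subtype.ext ?_
    by_cases hd : d.1 = p
    · rw [hd, ← (h1.1 hd)]
    · have h1' : d'.1 ≠ p := fun e => hd (h1.2 e)
      have a1 : d.1 = c.z * p := (eq_or c hpφ.symm).resolve_left hd
      have a2 : d'.1 = c.z * p := (eq_or c (hφe.symm.trans hpφ.symm)).resolve_left h1'
      rw [a1, a2]
  have := Nat.card_le_card_of_injective m2 hm2
  rw [Nat.card_prod, show Nat.card Bool = 2 by simp] at this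
  omega

end Twelve

end Cfsg.Agent.Lib.DoubleAlt12
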